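import Cfsg.Agent.Lib.Invol.TwoTimesSSeven.Setting

/-!
# An involution with centralizer `2 × S₇`: the conjugates of `t` in the centre of a Sylow subgroup
-/

set_option autoImplicit false
set_option linter.unusedSectionVars false
set_option maxRecDepth 10000

namespace CfsgLib.Invol.TwoTimesSSeven

open Subgroup Equiv CfsgLib.Invol

universe u

/-- Counting along a conjugation-invariant map. -/
theorem card_fibre {α H : Type*} [Group H] [Finite H] (act : H → α → α) (π : α → H) (P : α → Prop)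
    (h1 : ∀ s x, act s⁻¹ (act s x) = x) (hπ : ∀ s x, π (act s x) = s * π x * s⁻¹)
    (hP : ∀ s x, P x → P (act s x)) (a : H) :
    Nat.card {x // P x ∧ IsConj a (π x)} =
      Nat.card {p : H // IsConj a p} * Nat.card {x // P x ∧ π x = a} := by
  have hs : ∀ p : {p : H // IsConj a p}, ∃ s : H, s * a * s⁻¹ = p.1 := fun p => isConj_iff.1 p.2
  choose s hs using hs
  rw [← Nat.card_prod]
  refine Nat.card_congr
    { toFun := fun x => (⟨π x.1, x.2.2⟩,
        ⟨act (s ⟨π x.1, x.2.2⟩)⁻¹ x.1, hP _ _ x.2.1, ?_⟩)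
      invFun := fun q => ⟨act (s q.1) q.2.1, hP _ _ q.2.2.1, ?_⟩
      left_inv := fun x => ?_
      right_inv := fun q => ?_ }
  · rw [hπ]
    have := hs ⟨π x.1, x.2.2⟩
    generalize s ⟨π x.1, x.2.2⟩ = σ at this ⊢
    simp only at this
    rw [← this]
    group
  · rw [hπ, q.2.2.2, hs]; exact q.1.2
  · refine Subtype.ext ?_
    have h2 := h1 (s ⟨π x.1, x.2.2⟩)⁻¹ x.1
    rwa [inv_inv] at h2
  · obtain ⟨p, x, hx, hxa⟩ := q
    have hp : π (act (s p) x) = p.1 := by rw [hπ, hxa, hs]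
    refine Prod.ext (Subtype.ext hp) (Subtype.ext ?_)
    show act (s ⟨π (act (s p) x), _⟩)⁻¹ (act (s p) x) = x
    simp only [hp]
    exact h1 _ _

/-- The normalizer of the group generated by the three-cycle. -/
def eNorm {G : Type u} [Group G] (e : G) : Subgroup G where
  carrier := {g | g * e * g⁻¹ = e ∨ g * e * g⁻¹ = e⁻¹}
  one_mem' := Or.inl (by group)
  mul_mem' := by
    intro a b ha hb
    simp only [Set.mem_setOf_eq] at *
    have hab : a * b * e * (a * b)⁻¹ = a * (b * e * b⁻¹) * a⁻¹ := by group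
    rw [hab]
    have hi : a * e⁻¹ * a⁻¹ = (a * e * a⁻¹)⁻¹ := by group
    rcases ha with ha | ha <;> rcases hb with hb | hb <;> rw [hb] <;>
      first
        | exact Or.inl ha
        | exact Or.inr ha
        | (rw [hi, ha]; first | exact Or.inr rfl | exact Or.inl (inv_inv e))
  inv_mem' := by
    intro a ha
    simp only [Set.mem_setOf_eq] at *
    rcases ha with ha | ha
    · exact Or.inl (by nth_rewrite 1 [← ha]; group)
    · refine Or.inr ?_
      have h' : a * e⁻¹ * a⁻¹ = e := by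
        rw [show a * e⁻¹ * a⁻¹ = (a * e * a⁻¹)⁻¹ by group, ha, inv_inv]
      nth_rewrite 1 [← h']
      group

theorem mem_eNorm {G : Type u} [Group G] {e g : G} :
    g ∈ eNorm e ↔ g * e * g⁻¹ = e ∨ g * e * g⁻¹ = e⁻¹ := Iff.rfl

namespace Hyp

variable {G : Type u} [Group G] [Finite G] {t : G} {ι : Q →* G} (h : Hyp t ι)
include h

theorem isConj_i {p q : Q} (hc : IsConj p q) : IsConj (ι p) (ι q) := MonoidHom.map_isConj ι hc

theorem isConj_ti {p q : Q} (hc : IsConj p q) : IsConj (t * ι p) (t * ι q) := by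
  obtain ⟨s, rfl⟩ := isConj_iff.1 hc
  exact isConj_iff.2 ⟨ι s, h.conj_ti s p⟩

theorem sq_one {x : G} (hx : IsConj t x) : x * x = 1 := by
  obtain ⟨g, rfl⟩ := isConj_iff.1 hx
  rw [show g * t * g⁻¹ * (g * t * g⁻¹) = g * (t * t) * g⁻¹ by group, h.tt, mul_one, mul_inv_cancel]

theorem not_isConj_one : ¬ IsConj t (1 : G) := fun e => h.t_ne (by rwa [isConj_one_left] at e)

theorem sq_of_isConj_i {p : Q} (hp : IsConj t (ι p)) : p * p = 1 :=
  h.inj (by rw [map_mul, map_one]; exact h.sq_one hp)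

theorem sq_of_isConj_ti {p : Q} (hp : IsConj t (t * ι p)) : p * p = 1 :=
  h.inj (by rw [map_one, ← h.mul_tt]; exact h.sq_one hp)

/-- The central elements of the Sylow subgroup. -/
theorem commute_syl {p : Q} (hp : p ∈ [1, pz, pc, pT]) : ∀ y ∈ syl t ι, Commute (ι p) y := by
  have hc : ∀ p ∈ [1, pz, pc, pT], ∀ q ∈ dlist, p * q = q * p := by
    have := of_all (L := [1, pz, pc, pT]) (P := fun p => (dlist.all fun q => decide (p * q = q * p)) = true)
      (by decide +kernel)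
    exact fun p hp => of_all (this p hp)
  intro y hy
  obtain ⟨q, hq, rfl | rfl⟩ := h.mem_syl.1 hy
  · exact h.commute_ii.2 (hc p hp q hq)
  · exact (h.commute_tii.2 (hc p hp q hq).symm).symm

theorem commute_syl_t : ∀ y ∈ syl t ι, Commute t y := fun y hy =>
  (mem_centralizer_singleton_iff.1 (h.syl_le hy) : y * t = t * y).symm

theorem commute_syl_ti {p : Q} (hp : p ∈ [1, pz, pc, pT]) :
    ∀ y ∈ syl t ι, Commute (t * ι p) y := fun y hy =>
  (h.commute_syl_t y hy).mul_left (h.commute_syl hp y hy)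

theorem center_syl {x : G} (hx : x ∈ syl t ι) (hc : ∀ y ∈ syl t ι, Commute x y) :
    ∃ p ∈ [1, pz, pc, pT], x = ι p ∨ x = t * ι p := by
  obtain ⟨p, hp, rfl | rfl⟩ := h.mem_syl.1 hx
  · exact ⟨p, dlist_center p hp fun q hq => h.commute_ii.1 (hc _ (h.i_mem_syl hq)), Or.inl rfl⟩
  · exact ⟨p, dlist_center p hp fun q hq => h.commute_tii.1 (hc _ (h.i_mem_syl hq)), Or.inr rfl⟩

/-- A normalizing element fixes `ι pz`. -/
theorem nrm_z {n : G} (hn : ∀ x, x ∈ syl t ι ↔ n * x * n⁻¹ ∈ syl t ι) :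
    n * ι pz * n⁻¹ = ι pz := by
  have hz : pa * pb * pa⁻¹ * pb⁻¹ = pz := by decide +kernel
  have ha : ι pa ∈ syl t ι := h.i_mem_syl (by decide +kernel)
  have hb : ι pb ∈ syl t ι := h.i_mem_syl (by decide +kernel)
  have e : n * ι pz * n⁻¹ =
      (n * ι pa * n⁻¹) * (n * ι pb * n⁻¹) * (n * ι pa * n⁻¹)⁻¹ * (n * ι pb * n⁻¹)⁻¹ := by
    rw [← hz]; simp only [map_mul, map_inv]; group
  have hne : n * ι pz * n⁻¹ ≠ 1 := fun e' => by
    rw [conj_eq_one_iff] at e'
    exact absurd (h.inj (e'.trans (map_one ι).symm)) (by decide)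
  have key : ∀ u ∈ syl t ι, ∀ v ∈ syl t ι,
      u * v * u⁻¹ * v⁻¹ = 1 ∨ u * v * u⁻¹ * v⁻¹ = ι pz := by
    intro u hu v hv
    have hct : ∀ w ∈ syl t ι, Commute t w := h.commute_syl_t
    obtain ⟨p, hp, hu'⟩ := h.mem_syl.1 hu
    obtain ⟨q, hq, hv'⟩ := h.mem_syl.1 hv
    have hred : u * v * u⁻¹ * v⁻¹ = ι (p * q * p⁻¹ * q⁻¹) := by
      have hp' := h.comm p
      have hq' := h.comm q
      simp only [map_mul, map_inv]
      rcases hu' with rfl | rfl <;> rcases hv' with rfl | rfl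
      · rfl
      · calc ι p * (t * ι q) * (ι p)⁻¹ * (t * ι q)⁻¹
            = (ι p * t) * (ι q * (ι p)⁻¹ * (ι q)⁻¹) * t⁻¹ := by group
          _ = t * (ι p * ι q * (ι p)⁻¹ * (ι q)⁻¹) * t⁻¹ := by rw [hp'.eq]; group
          _ = _ := by
            rw [← map_inv, ← map_inv, ← map_mul, ← map_mul, ← map_mul, ← (h.comm _).eq,
              mul_inv_cancel_right]
      · calc t * ι p * ι q * (t * ι p)⁻¹ * (ι q)⁻¹
            = t * (ι p * ι q * (ι p)⁻¹) * t⁻¹ * (ι q)⁻¹ := by group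
          _ = _ := by
            rw [← map_inv, ← map_inv, ← map_mul, ← map_mul, ← (h.comm _).eq, mul_inv_cancel_right]
      · calc t * ι p * (t * ι q) * (t * ι p)⁻¹ * (t * ι q)⁻¹
            = t * ι p * (t * ι q) * (t * ι p)⁻¹ * ((ι q)⁻¹ * t⁻¹) := by group
          _ = _ := by
            rw [h.mul_tt, map_mul, mul_inv_rev, ← mul_assoc, ← mul_assoc,
              mul_assoc (ι p * ι q * (ι p)⁻¹ * t⁻¹)]
            have htinv : t⁻¹ = t := inv_eq_of_mul_eq_one_right h.tt
            rw [htinv, mul_assoc (ι p * ι q * (ι p)⁻¹), ((h.comm q).inv_left).eq, ← mul_assoc t,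
              h.tt, one_mul]
    rw [hred]
    rcases dlist_commutator p hp q hq with e' | e' <;> rw [e']
    · exact Or.inl (map_one ι)
    · exact Or.inr rfl
  rcases key _ ((hn _).1 ha) _ ((hn _).1 hb) with e' | e'
  · exact absurd (e.trans e') hne
  · exact e.trans e'

/-- `C(t)` meets the normalizer of the Sylow subgroup in the subgroup. -/
theorem nrm_cent {n : G} (hn : ∀ x, x ∈ syl t ι ↔ n * x * n⁻¹ ∈ syl t ι) (hnt : Commute n t) :
    n ∈ syl t ι := by
  have hz := h.nrm_z hn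
  have hcx : ∀ y ∈ syl t ι, Commute (n * ι pc * n⁻¹) y := by
    intro y hy
    have hy' : n⁻¹ * y * n ∈ syl t ι := by
      rw [hn, show n * (n⁻¹ * y * n) * n⁻¹ = y by group]; exact hy
    have := ((h.commute_syl (p := pc) (by decide +kernel)) _ hy')
    show n * ι pc * n⁻¹ * y = y * (n * ι pc * n⁻¹)
    calc n * ι pc * n⁻¹ * y = n * (ι pc * (n⁻¹ * y * n)) * n⁻¹ := by group
      _ = y * (n * ι pc * n⁻¹) := by rw [this.eq]; group
  obtain ⟨q, hq, hc⟩ := h.center_syl ((hn _).1 (h.i_mem_syl (by decide +kernel))) hcx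
  obtain ⟨s, hs⟩ := h.decomp n hnt
  have hconj : ∀ p : Q, n * ι p * n⁻¹ = ι (s * p * s⁻¹) := fun p => by
    rcases hs with rfl | rfl
    · exact h.conj_i s p
    · calc t * ι s * ι p * (t * ι s)⁻¹ = t * (ι s * ι p * (ι s)⁻¹) * t⁻¹ := by group
        _ = _ := by rw [h.conj_i, ← (h.comm _).eq, mul_inv_cancel_right]
  rw [hconj] at hz hc
  have hsz : s * pz * s⁻¹ = pz := h.inj hz
  have hsc : s * pc * s⁻¹ = q := by
    rcases hc with hc | hc
    · exact h.inj hc
    · exact absurd hc (h.ne_ti _ _)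
  have hq' : q = pc := by
    have hsg : Perm.sign q = -1 := by
      rw [← hsc, sign_conj (isConj_iff.2 ⟨s, rfl⟩), sign_pc]
    have hct : q.cycleType = {2} := by rw [← hsc, Perm.cycleType_conj, cycleType_pc]
    simp only [List.mem_cons, List.not_mem_nil, or_false] at hq
    rcases hq with rfl | rfl | rfl | rfl
    · simp at hsg
    · rw [sign_pz] at hsg; exact absurd hsg (by decide)
    · rfl
    · rw [cycleType_pT] at hct; exact absurd hct (by decide)
  have hd : s ∈ dlist := dlist_mem.1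
    ⟨mul_inv_eq_iff_eq_mul.1 hsz, mul_inv_eq_iff_eq_mul.1 (hsc.trans hq')⟩
  exact h.mem_syl.2 ⟨s, hd, hs⟩

/-- A central element conjugate to `t` is conjugate in the normalizer. -/
theorem exists_norm {x : G} (hx : IsConj t x) (hc : ∀ y ∈ syl t ι, Commute x y) :
    ∃ n : G, n * t * n⁻¹ = x ∧ ∀ y, y ∈ syl t ι ↔ n * y * n⁻¹ ∈ syl t ι := by
  obtain ⟨g, hg⟩ := isConj_iff.1 hx
  set H : Subgroup G := centralizer ({x} : Set G) with hH
  let X : Subgroup G := (syl t ι).map (MulAut.conj g).toMonoidHom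
  have hX : X ≤ H := by
    rintro _ ⟨y, hy, rfl⟩
    refine mem_centralizer_singleton_iff.2 ?_
    show g * y * g⁻¹ * x = x * (g * y * g⁻¹)
    rw [← hg]
    calc g * y * g⁻¹ * (g * t * g⁻¹) = g * (y * t) * g⁻¹ := by group
      _ = g * (t * y) * g⁻¹ := by rw [(h.commute_syl_t y hy).eq]
      _ = g * t * g⁻¹ * (g * y * g⁻¹) := by group
  have hY : syl t ι ≤ H := fun y hy => mem_centralizer_singleton_iff.2 (hc y hy).symm.eq
  have hcH : Nat.card H = 10080 := by
    have e1 := CfsgLib.Invol.ClassSign.card_class x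
    have e2 := index_mul_card H
    have e3 : Nat.card {y : G // IsConj x y} = Nat.card {y : G // IsConj t y} :=
      Nat.card_congr (Equiv.subtypeEquivRight fun y => ⟨hx.trans, hx.symm.trans⟩)
    rw [← hH, e3] at e1
    rw [← e1, h.card_G] at e2
    exact Nat.eq_of_mul_eq_mul_left (Nat.card_pos_iff.2 ⟨⟨⟨t, IsConj.refl t⟩⟩, inferInstance⟩) e2
  have hcX : Nat.card X = 2 ^ 5 := by
    rw [card_map_of_injective (MulAut.conj g).injective, h.card_syl]; rfl
  obtain ⟨k, hk, hkx⟩ := exists_conj_of_card hX hY hcX (h.card_syl.trans rfl)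
    (by rw [hcH]; decide)
  refine ⟨k * g, ?_, fun y => ?_⟩
  · rw [show k * g * t * (k * g)⁻¹ = k * (g * t * g⁻¹) * k⁻¹ by group, hg,
      mem_centralizer_singleton_iff.1 hk, mul_inv_cancel_right]
  · rw [show k * g * y * (k * g)⁻¹ = k * (g * y * g⁻¹) * k⁻¹ by group, ← hkx (g * y * g⁻¹)]
    refine ⟨fun hy => ⟨y, hy, rfl⟩, ?_⟩
    rintro ⟨y', hy', e⟩
    rwa [← (MulAut.conj g).injective e]

theorem z_notK : ¬ IsConj t (ι pz) := fun e => by
  obtain ⟨n, hn, hns⟩ := h.exists_norm e (h.commute_syl (by decide +kernel))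
  have h2 := h.nrm_z hns
  rw [← h2] at hn
  have hv : t = ι pz := mul_left_cancel (mul_right_cancel hn)
  exact h.notMem ⟨pz, hv.symm⟩

/-- A normalizing element moving `t` makes the conjugacy class of `t` even. -/
theorem sixtyfour_dvd {n : G} (hn : ∀ x, x ∈ syl t ι ↔ n * x * n⁻¹ ∈ syl t ι)
    (hn2 : n * n ∈ syl t ι) (hns : n ∉ syl t ι) : 64 ∣ Nat.card G := by
  haveI : Fact (Nat.Prime 2) := ⟨Nat.prime_two⟩
  have h32 : (n * n) ^ 32 = 1 := by
    have := pow_card_eq_one' (G := syl t ι) (x := ⟨n * n, hn2⟩)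
    rw [h.card_syl] at this
    exact congrArg Subtype.val this
  have hz : IsPGroup 2 (zpowers n) := by
    rintro ⟨y, k, rfl⟩
    refine ⟨6, Subtype.ext ?_⟩
    show (n ^ k) ^ (2 ^ 6) = 1
    rw [← zpow_natCast, ← zpow_mul, mul_comm, zpow_mul, zpow_natCast,
      show (2 : ℕ) ^ 6 = 2 * 32 by norm_num, pow_mul, pow_two, h32, one_zpow]
  have hP := IsPGroup.to_sup_of_normal_left' h.syl_isPGroup hz
    (zpowers_le.2 (mem_normalizer_iff.2 fun x => hn x))
  obtain ⟨k, hk⟩ := hP.exists_card_eq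
  have hlt : syl t ι < syl t ι ⊔ zpowers n :=
    lt_of_le_of_ne le_sup_left fun e => hns (e.symm ▸ mem_sup_right (mem_zpowers n))
  have hc : Nat.card (syl t ι) < Nat.card ↥(syl t ι ⊔ zpowers n) := by
    refine lt_of_le_of_ne (Nat.le_of_dvd Nat.card_pos (card_dvd_of_le hlt.le)) fun e => hlt.ne ?_
    exact eq_of_le_of_card_ge hlt.le e.ge
  rw [h.card_syl, hk] at hc
  have h6 : 6 ≤ k := by
    by_contra hlt'
    have := Nat.pow_le_pow_right two_pos (show k ≤ 5 by omega)
    omega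
  exact ((pow_dvd_pow 2 h6).trans (dvd_of_eq hk.symm)).trans (card_subgroup_dvd_card _)

/-- The class of `t` has as many elements as it meets `ι` modulo two. -/
theorem parity :
    Nat.card {y : G // IsConj t y} % 2 = Nat.card {p : Q // IsConj t (ι p)} % 2 := by
  have hr : Nat.card ι.range = 5040 := by
    rw [← Nat.card_congr (MonoidHom.ofInjective h.inj).toEquiv, card_Q]
  have he : Nat.card {u : G // u ∈ ι.range ∧ IsConj t u} = Nat.card {p : Q // IsConj t (ι p)} := by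
    refine (Nat.card_eq_of_bijective
      (fun p : {p : Q // IsConj t (ι p)} =>
        (⟨ι p.1, ⟨p.1, rfl⟩, p.2⟩ : {u : G // u ∈ ι.range ∧ IsConj t u})) ⟨fun p q e => ?_, ?_⟩).symm
    · exact Subtype.ext (h.inj (congrArg Subtype.val e))
    · rintro ⟨_, ⟨p, rfl⟩, hp⟩
      exact ⟨⟨p, hp⟩, rfl⟩
  have hidx := ClassSign.index_mod_four h.noIndexTwo h.tt ι.range
    (F := 2 * Nat.card {p : Q // IsConj t (ι p)}) (by rw [he, h.card_cent, hr]; ring)
  have hG := index_mul_card ι.range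
  rw [hr, h.card_G] at hG
  omega

theorem card_meet :
    Nat.card {p : Q // IsConj t (ι p)} % 2 = 1 → IsConj t (ι pc) ∨ IsConj t (ι pT) := by
  intro h1
  obtain ⟨⟨p, hp⟩⟩ : Nonempty {p : Q // IsConj t (ι p)} := by
    by_contra hne
    rw [not_nonempty_iff] at hne
    rw [Nat.card_of_isEmpty] at h1
    omega
  have hsq := h.sq_of_isConj_i hp
  have hne1 : p ≠ 1 := by rintro rfl; rw [map_one] at hp; exact h.not_isConj_one hp
  rcases invol_cases hsq hne1 with c | c | c
  · exact Or.inl (hp.trans (h.isConj_i (c.symm.trans (isConj_iff.2 ⟨sa, by decide +kernel⟩))))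
  · exact absurd (hp.trans (h.isConj_i c.symm)) h.z_notK
  · exact Or.inr (hp.trans (h.isConj_i c.symm))

/-- A central representative. -/
theorem exists_rep {p : Q} (hp : p * p = 1) :
    ∃ s : Q, s * p * s⁻¹ ∈ [1, pz, pc, pT] := by
  by_cases h1 : p = 1
  · exact ⟨1, by subst h1; simp⟩
  rcases invol_cases hp h1 with c | c | c
  · obtain ⟨s, hs⟩ := isConj_iff.1
      (c.symm.trans (isConj_iff.2 ⟨sa, (by decide +kernel : sa * pa * sa⁻¹ = pc)⟩))
    exact ⟨s, by simp [hs]⟩
  · obtain ⟨s, hs⟩ := isConj_iff.1 c.symm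
    exact ⟨s, by simp [hs]⟩
  · obtain ⟨s, hs⟩ := isConj_iff.1 c.symm
    exact ⟨s, by simp [hs]⟩

/-- Two commuting conjugates of `t` with product `ι pz`. -/
theorem exists_partner {x y : G} (hx : IsConj t x) (hy : IsConj t y) (hxy : Commute x y)
    (he : x * y = ι pz) : ∃ u, IsConj t u ∧ Commute u t ∧ IsConj (ι pz) (t * u) := by
  obtain ⟨g, hg⟩ := isConj_iff.1 hx
  refine ⟨g⁻¹ * y * g, hy.trans (isConj_iff.2 ⟨g⁻¹, by rw [inv_inv]⟩), ?_,
    isConj_iff.2 ⟨g⁻¹, ?_⟩⟩
  · show g⁻¹ * y * g * t = t * (g⁻¹ * y * g)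
    calc g⁻¹ * y * g * t = g⁻¹ * (y * (g * t * g⁻¹)) * g := by group
      _ = g⁻¹ * ((g * t * g⁻¹) * y) * g := by rw [hg, hxy.symm.eq]
      _ = t * (g⁻¹ * y * g) := by group
  · rw [inv_inv, ← he, ← hg]; group

/-- The class of `t` is even. -/
theorem even_class : 2 ∣ Nat.card {y : G // IsConj t y} := by
  by_contra hodd
  have h64 : ¬ 64 ∣ Nat.card G := by
    rintro ⟨k, hk⟩
    rw [h.card_G] at hk
    exact hodd (by omega)
  have hn := h.card_meet (by have := h.parity; omega)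
  have hzz : ∀ w : G, (∀ y ∈ syl t ι, Commute w y) → IsConj (ι pz) w → w = ι pz := by
    intro w hw hc
    obtain ⟨g, hg⟩ := isConj_iff.1 hc
    let X : Subgroup G := (syl t ι).map (MulAut.conj g).toMonoidHom
    have hX : X ≤ centralizer ({w} : Set G) := by
      rintro _ ⟨y, hy, rfl⟩
      refine mem_centralizer_singleton_iff.2 ?_
      show g * y * g⁻¹ * w = w * (g * y * g⁻¹)
      rw [← hg]
      calc g * y * g⁻¹ * (g * ι pz * g⁻¹) = g * (y * ι pz) * g⁻¹ := by group
        _ = g * (ι pz * y) * g⁻¹ := by rw [(h.commute_syl (p := pz) (by decide +kernel) y hy).eq]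
        _ = g * ι pz * g⁻¹ * (g * y * g⁻¹) := by group
    have hcX : Nat.card X = 2 ^ 5 := by
      rw [card_map_of_injective (MulAut.conj g).injective, h.card_syl]; rfl
    obtain ⟨k, hk, hkx⟩ := exists_conj_of_card hX
      (fun y hy => mem_centralizer_singleton_iff.2 (hw y hy).symm.eq) hcX (h.card_syl.trans rfl)
      (fun hd => h64 (hd.trans (card_subgroup_dvd_card _)))
    have hns : ∀ y, y ∈ syl t ι ↔ k * g * y * (k * g)⁻¹ ∈ syl t ι := fun y => by
      rw [show k * g * y * (k * g)⁻¹ = k * (g * y * g⁻¹) * k⁻¹ by group, ← hkx (g * y * g⁻¹)]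
      refine ⟨fun hy => ⟨y, hy, rfl⟩, ?_⟩
      rintro ⟨y', hy', e⟩
      rwa [← (MulAut.conj g).injective e]
    have := h.nrm_z hns
    rw [show k * g * ι pz * (k * g)⁻¹ = k * (g * ι pz * g⁻¹) * k⁻¹ by group, hg,
      mem_centralizer_singleton_iff.1 hk, mul_inv_cancel_right] at this
    exact this
  have htz : ¬ IsConj t (t * ι pz) := by
    intro e
    obtain ⟨n, hnt, hns⟩ := h.exists_norm e (h.commute_syl_ti (by decide +kernel))
    have hz := h.nrm_z hns
    have h2 : Commute (n * n) t := by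
      show n * n * t = t * (n * n)
      have e1 : n * n * t * (n * n)⁻¹ = t := by
        calc n * n * t * (n * n)⁻¹ = n * (n * t * n⁻¹) * n⁻¹ := by group
          _ = n * (t * ι pz) * n⁻¹ := by rw [hnt]
          _ = (n * t * n⁻¹) * (n * ι pz * n⁻¹) := by group
          _ = t := by
            rw [hnt, hz, mul_assoc, ← map_mul, show pz * pz = 1 by decide, map_one, mul_one]
      exact mul_inv_eq_iff_eq_mul.1 e1
    have hn2 := h.nrm_cent (n := n * n) (fun x => by
      rw [show n * n * x * (n * n)⁻¹ = n * (n * x * n⁻¹) * n⁻¹ by group, ← hns, ← hns]) h2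
    refine h64 (h.sixtyfour_dvd hns hn2 fun hmem => h.notMem ⟨1, ?_⟩)
    have := h.commute_syl_t n hmem
    rw [← this.eq, mul_inv_cancel_right] at hnt
    have hpz : ι pz = 1 := mul_left_cancel (hnt.symm.trans (mul_one t).symm)
    exact absurd (h.inj (hpz.trans (map_one ι).symm)) (by decide +kernel)
  obtain ⟨x, y, hx, hy, hxy, he⟩ : ∃ x y, IsConj t x ∧ IsConj t y ∧ Commute x y ∧ x * y = ι pz := by
    rcases hn with c | c
    · exact ⟨ι pa, ι pa2, c.trans (h.isConj_i (isConj_iff.2 ⟨sa, by decide +kernel⟩)),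
        c.trans (h.isConj_i (isConj_iff.2 ⟨sb, by decide +kernel⟩)),
        h.commute_ii.2 (by decide +kernel), by rw [pz, map_mul]⟩
    · refine ⟨ι (pb * pc), ι (pz * pb * pc),
        c.trans (h.isConj_i (isConj_iff.2 ⟨swap 1 2, by decide +kernel⟩)),
        c.trans (h.isConj_i (isConj_iff.2 ⟨swap 1 3, by decide +kernel⟩)),
        h.commute_ii.2 (by decide +kernel), ?_⟩
      rw [← map_mul, show pb * pc * (pz * pb * pc) = pz by decide +kernel]
  obtain ⟨u, hu, hut, huz⟩ := h.exists_partner hx hy hxy he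
  obtain ⟨p, rfl | rfl⟩ := h.decomp u hut
  · obtain ⟨s, hs⟩ := exists_rep h (h.sq_of_isConj_i hu)
    have hw := hzz _ (h.commute_syl_ti hs) (huz.trans (h.isConj_ti (isConj_iff.2 ⟨s, rfl⟩)))
    exact absurd hw.symm (h.ne_ti _ _)
  · obtain ⟨s, hs⟩ := exists_rep h (h.sq_of_isConj_ti hu)
    have e : t * (t * ι p) = ι p := by rw [← mul_assoc, h.tt, one_mul]
    rw [e] at huz
    have hw := h.inj (hzz _ (h.commute_syl hs) (huz.trans (h.isConj_i (isConj_iff.2 ⟨s, rfl⟩))))
    exact htz (hu.trans (h.isConj_ti (isConj_iff.2 ⟨s, hw⟩)))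

end Hyp

end CfsgLib.Invol.TwoTimesSSeven
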