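import Cfsg.Agent.Lib.Invol.TwoTimesSSeven.Basic

/-!
# An involution with centralizer `2 × S₇`: `t` is conjugate to `t z`, and `z` is `2`-central
-/

set_option autoImplicit false
set_option linter.unusedSectionVars false
set_option maxRecDepth 20000

namespace CfsgLib.Invol.TwoTimesSSeven

open Subgroup Equiv CfsgLib.Invol

universe u

theorem relIndex_eq_two {G : Type u} [Group G] [Finite G] {H M : Subgroup G} {a : G}
    (ha : a ∈ M) (hx : ∀ b ∈ M, Xor' (b * a ∈ H) (b ∈ H)) : H.relIndex M = 2 :=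
  index_eq_two_iff.2 ⟨⟨a, ha⟩, fun b => hx b.1 b.2⟩

namespace Hyp

variable {G : Type u} [Group G] [Finite G] {t : G} {ι : Q →* G} (h : Hyp t ι)
include h

/-- `t^i * ι r`. -/
theorem el_decomp {y : G} (hy : Commute y t) :
    ∃ x : Bool × Q, (if x.1 then t * ι x.2 else ι x.2) = y := by
  obtain ⟨p, rfl | rfl⟩ := h.decomp y hy
  · exact ⟨(false, p), rfl⟩
  · exact ⟨(true, p), rfl⟩

theorem el_inj : Function.Injective fun x : Bool × Q => if x.1 then t * ι x.2 else ι x.2 := by
  rintro ⟨a, p⟩ ⟨b, q⟩ e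
  cases a <;> cases b <;> simp only [Bool.false_eq_true, if_false, if_true] at e
  · rw [h.inj e]
  · exact absurd e (h.ne_ti p q)
  · exact absurd e.symm (h.ne_ti q p)
  · rw [h.ti_inj e]

theorem el_comm (x : Bool × Q) : Commute t (if x.1 then t * ι x.2 else ι x.2) := by
  split_ifs
  · exact (h.commute_ti x.2).symm
  · exact (h.comm x.2).symm

theorem index_cent_e : (centralizer ({ι pe} : Set G)).index % 4 = 2 := by
  rw [← ClassSign.card_class, ClassSign.class_mod_four h.noIndexTwo h.tt]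
  have hb : Nat.card {u : G // IsConj (ι pe) u ∧ Commute t u} =
      Nat.card {p : Q // IsConj (ι pe) (ι p)} := by
    refine (Nat.card_eq_of_bijective (fun p : {p : Q // IsConj (ι pe) (ι p)} =>
      (⟨ι p.1, p.2, (h.comm p.1).symm⟩ : {u : G // IsConj (ι pe) u ∧ Commute t u}))
      ⟨fun p q e => Subtype.ext (h.inj (congrArg Subtype.val e)), ?_⟩).symm
    rintro ⟨u, hu, hut⟩
    obtain ⟨p, rfl | rfl⟩ := h.decomp u hut.symm
    · exact ⟨⟨p, hu⟩, rfl⟩
    · exfalso
      obtain ⟨g, hg⟩ := isConj_iff.1 hu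
      have h3 : (t * ι p) * (t * ι p) * (t * ι p) = 1 := by
        rw [← hg]
        calc g * ι pe * g⁻¹ * (g * ι pe * g⁻¹) * (g * ι pe * g⁻¹) = g * ι (pe * pe * pe) * g⁻¹ := by
              simp only [map_mul]; group
          _ = 1 := by rw [show pe * pe * pe = 1 by decide, map_one, mul_one, mul_inv_cancel]
      rw [h.mul_tt, h.mul_it] at h3
      exact h.ne_ti 1 (p * p * p) (by rw [map_one]; exact h3.symm)
  rw [hb]
  have hcases : ∀ p : Q, IsConj (ι pe) (ι p) → IsConj pe p ∨ IsConj pd p := by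
    intro p hp
    obtain ⟨g, hg⟩ := isConj_iff.1 hp
    refine three_cases (h.inj ?_) ?_
    · rw [map_mul, map_mul, map_one, ← hg]
      calc g * ι pe * g⁻¹ * (g * ι pe * g⁻¹) * (g * ι pe * g⁻¹) = g * ι (pe * pe * pe) * g⁻¹ := by
            simp only [map_mul]; group
        _ = 1 := by rw [show pe * pe * pe = 1 by decide, map_one, mul_one, mul_inv_cancel]
    · rintro rfl
      rw [map_one, conj_eq_one_iff] at hg
      exact absurd (h.inj (hg.trans (map_one ι).symm)) (by decide)
  have hne : ¬ IsConj pe pd := by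
    rw [Perm.isConj_iff_cycleType_eq, cycleType_pe, cycleType_pd]; decide
  by_cases hd : IsConj (ι pe) (ι pd)
  · classical
    rw [Nat.card_congr (show {p : Q // IsConj (ι pe) (ι p)} ≃
        {p : Q // IsConj pe p} ⊕ {p : Q // IsConj pd p} from
      (Equiv.subtypeEquivRight fun p => ⟨hcases p, fun e => e.elim (fun e => h.isConj_i e)
        (fun e => hd.trans (h.isConj_i e))⟩).trans (subtypeOrEquiv _ _
          (Pi.disjoint_iff.2 fun p => Prop.disjoint_iff.2
            (by rintro ⟨a, b⟩; exact hne (a.trans b.symm))))),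
      Nat.card_sum, card_class_pe, card_class_pd]
  · rw [Nat.card_congr (Equiv.subtypeEquivRight (q := IsConj pe) fun p =>
      ⟨fun e => (hcases p e).resolve_right fun e' => hd (e.trans (h.isConj_i e'.symm)),
        fun e => h.isConj_i e⟩), card_class_pe]

theorem cent_le_eNorm : centralizer ({ι pe} : Set G) ≤ eNorm (ι pe) := fun g hg =>
  Or.inl (by rw [mem_centralizer_singleton_iff.1 hg, mul_inv_cancel_right])

theorem pc_inverts : ι pc * ι pe * (ι pc)⁻¹ = (ι pe)⁻¹ := by
  rw [h.conj_i, ← map_inv, show pc * pe * pc⁻¹ = pe⁻¹ by decide +kernel]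

theorem pc_sq : ι pc * ι pc = 1 := by rw [← map_mul, show pc * pc = 1 by decide, map_one]

theorem pe_ne_inv : (ι pe)⁻¹ ≠ ι pe := fun e => by
  rw [← map_inv] at e
  exact absurd (h.inj e) (by decide +kernel)

/-- Multiplying by `ι pc` exchanges centralizing and inverting. -/
theorem xor_pc {b : G} (hb : b ∈ eNorm (ι pe)) :
    Xor' (b * ι pc ∈ centralizer ({ι pe} : Set G)) (b ∈ centralizer ({ι pe} : Set G)) := by
  have e1 : b * ι pc * ι pe * (b * ι pc)⁻¹ = (b * ι pe * b⁻¹)⁻¹ := by
    rw [show b * ι pc * ι pe * (b * ι pc)⁻¹ = b * (ι pc * ι pe * (ι pc)⁻¹) * b⁻¹ by group,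
      h.pc_inverts]
    group
  have hmem : ∀ x : G, x ∈ centralizer ({ι pe} : Set G) ↔ x * ι pe * x⁻¹ = ι pe := fun x =>
    ⟨fun e => by rw [mem_centralizer_singleton_iff.1 e, mul_inv_cancel_right],
      fun e => mem_centralizer_singleton_iff.2 (mul_inv_eq_iff_eq_mul.1 e)⟩
  rw [hmem, hmem, e1]
  rcases hb with e | e
  · exact Or.inr ⟨e, by rw [e]; exact h.pe_ne_inv⟩
  · exact Or.inl ⟨by rw [e, inv_inv], by rw [e]; exact h.pe_ne_inv⟩

theorem odd_index_eNorm : ¬ 2 ∣ (eNorm (ι pe)).index := by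
  have hr : (centralizer ({ι pe} : Set G)).relIndex (eNorm (ι pe)) = 2 :=
    relIndex_eq_two (a := ι pc) (Or.inr h.pc_inverts) fun b hb => h.xor_pc hb
  have h1 := relIndex_mul_index h.cent_le_eNorm
  have h2 := h.index_cent_e
  rw [hr] at h1
  omega

theorem syl_le_eNorm : syl t ι ≤ eNorm (ι pe) := by
  intro y hy
  obtain ⟨p, hp, hy'⟩ := h.mem_syl.1 hy
  have hc : y * ι pe * y⁻¹ = ι (p * pe * p⁻¹) := by
    rcases hy' with rfl | rfl
    · exact h.conj_i p pe
    · calc t * ι p * ι pe * (t * ι p)⁻¹ = t * (ι p * ι pe * (ι p)⁻¹) * t⁻¹ := by group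
        _ = _ := by rw [h.conj_i, ← (h.comm _).eq, mul_inv_cancel_right]
  refine mem_eNorm.2 ?_
  rw [hc, ← map_inv]
  exact (dlist_normalizes_pe p hp).imp (congrArg ι) (congrArg ι)

theorem sixtyfour_dvd_card : 64 ∣ Nat.card G := by
  obtain ⟨k, hk⟩ := h.even_class
  rw [h.card_G, hk]
  exact ⟨k * 315, by ring⟩

theorem exists_move_tz : ∃ s : G, (∀ x, x ∈ syl t ι ↔ s * x * s⁻¹ ∈ syl t ι) ∧
    s ∈ eNorm (ι pe) ∧ s * s ∈ syl t ι ∧ s * t * s⁻¹ = t * ι pz := by
  have h64 : 2 ^ 6 ∣ Nat.card ↥(eNorm (ι pe)) := by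
    have hcop : Nat.Coprime (2 ^ 6) (eNorm (ι pe)).index :=
      ((Nat.prime_two.coprime_iff_not_dvd).2 h.odd_index_eNorm).pow_left 6
    exact hcop.dvd_of_dvd_mul_right (by rw [card_mul_index]; exact h.sixtyfour_dvd_card)
  obtain ⟨y, hy, hys, hy2, hn⟩ := exists_extension h.syl_le_eNorm (h.card_syl.trans rfl) h64
  refine ⟨y, hn, hy, hy2, ?_⟩
  have hcen : ∀ x ∈ syl t ι, Commute (y * t * y⁻¹) x := by
    intro x hx
    have hx' : y⁻¹ * x * y ∈ syl t ι := by
      rw [hn, show y * (y⁻¹ * x * y) * y⁻¹ = x by group]; exact hx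
    show y * t * y⁻¹ * x = x * (y * t * y⁻¹)
    calc y * t * y⁻¹ * x = y * (t * (y⁻¹ * x * y)) * y⁻¹ := by group
      _ = x * (y * t * y⁻¹) := by rw [(h.commute_syl_t _ hx').eq]; group
  have hxe : Commute (y * t * y⁻¹) (ι pe) := by
    have h1 : Commute (y * t * y⁻¹) (y * ι pe * y⁻¹) := by
      show y * t * y⁻¹ * (y * ι pe * y⁻¹) = y * ι pe * y⁻¹ * (y * t * y⁻¹)
      calc y * t * y⁻¹ * (y * ι pe * y⁻¹) = y * (t * ι pe) * y⁻¹ := by group
        _ = y * (ι pe * t) * y⁻¹ := by rw [← (h.comm pe).eq]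
        _ = _ := by group
    rcases hy with e | e
    · rwa [e] at h1
    · rw [e] at h1; simpa using h1.inv_right
  obtain ⟨p, hp, hx⟩ := h.center_syl ((hn t).1 h.t_mem_syl) hcen
  have hpe : p * pe = pe * p := by
    rcases hx with hx | hx <;> rw [hx] at hxe
    · exact h.commute_ii.1 hxe
    · exact h.commute_tii.1 hxe
  have hp' : p = 1 ∨ p = pz := by
    have := of_all (L := [1, pz, pc, pT]) (P := fun p => p * pe = pe * p → p = 1 ∨ p = pz)
      (by decide +kernel)
    exact this p hp hpe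
  have hK : IsConj t (y * t * y⁻¹) := isConj_iff.2 ⟨y, rfl⟩
  rcases hp' with rfl | rfl <;> rcases hx with hx | hx
  · rw [hx, map_one] at hK; exact absurd hK h.not_isConj_one
  · rw [map_one, mul_one] at hx
    exact absurd (h.nrm_cent hn (mul_inv_eq_iff_eq_mul.1 hx)) hys
  · rw [hx] at hK; exact absurd hK h.z_notK
  · exact hx

theorem isConj_tz : IsConj t (t * ι pz) := by
  obtain ⟨s, -, -, -, hs⟩ := h.exists_move_tz
  exact isConj_iff.2 ⟨s, hs⟩

theorem index_cent_ez : (centralizer ({ι (pe * pz)} : Set G)).index % 4 = 2 := by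
  classical
  rw [← ClassSign.card_class, ClassSign.class_mod_four h.noIndexTwo h.tt]
  set el : Bool × Q → G := fun x => if x.1 then t * ι x.2 else ι x.2 with hel
  set P : Bool × Q → Prop := fun x => IsConj (ι (pe * pz)) (el x) with hP
  have hb : Nat.card {u : G // IsConj (ι (pe * pz)) u ∧ Commute t u} = Nat.card {x // P x} := by
    refine (Nat.card_eq_of_bijective (fun x : {x // P x} =>
      (⟨el x.1, x.2, h.el_comm x.1⟩ : {u : G // IsConj (ι (pe * pz)) u ∧ Commute t u}))
      ⟨fun x y e => Subtype.ext (h.el_inj (congrArg Subtype.val e)), ?_⟩).symm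
    rintro ⟨u, hu, hut⟩
    obtain ⟨x, rfl⟩ := h.el_decomp hut.symm
    exact ⟨⟨x, hu⟩, rfl⟩
  rw [hb]
  set π : Bool × Q → Q := fun x => x.2 * x.2 * (x.2 * x.2) with hπ
  have hsq : ∀ x : Bool × Q, el x * el x = ι (x.2 * x.2) := by
    rintro ⟨i, r⟩
    cases i
    · exact (map_mul ι r r).symm
    · exact h.mul_tt r r
  have hfour : ∀ x : Bool × Q, el x * el x * (el x * el x) = ι (π x) := fun x => by
    rw [hsq, ← map_mul]
  have hpow : ∀ x, P x → IsConj (ι pe) (ι (π x)) ∧ π x * π x * π x = 1 ∧ π x ≠ 1 := by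
    intro x hx
    obtain ⟨g, hg⟩ := isConj_iff.1 hx
    have e : ι (π x) = g * ι pe * g⁻¹ := by
      rw [← hfour, ← hg]
      conv_rhs => rw [show pe = (pe * pz) * (pe * pz) * ((pe * pz) * (pe * pz)) by decide +kernel,
        map_mul, map_mul]
      group
    refine ⟨isConj_iff.2 ⟨g, e.symm⟩, h.inj ?_, fun e1 => ?_⟩
    · rw [map_mul, map_mul, map_one, e]
      calc g * ι pe * g⁻¹ * (g * ι pe * g⁻¹) * (g * ι pe * g⁻¹) = g * ι (pe * pe * pe) * g⁻¹ := by
            simp only [map_mul]; group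
        _ = 1 := by rw [show pe * pe * pe = 1 by decide, map_one, mul_one, mul_inv_cancel]
    · rw [e1, map_one, eq_comm, conj_eq_one_iff] at e
      exact absurd (h.inj (e.trans (map_one ι).symm)) (by decide)
  have hne : ¬ IsConj pe pd := by
    rw [Perm.isConj_iff_cycleType_eq, cycleType_pe, cycleType_pd]; decide
  have hsplit : Nat.card {x // P x} =
      Nat.card {x // P x ∧ IsConj pe (π x)} + Nat.card {x // P x ∧ IsConj pd (π x)} := by
    rw [← Nat.card_sum]
    refine Nat.card_congr ((Equiv.subtypeEquivRight fun x => ?_).trans (subtypeOrEquiv _ _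
      (Pi.disjoint_iff.2 fun x => Prop.disjoint_iff.2
        (by rintro ⟨a, b⟩; exact hne (a.2.trans b.2.symm)))))
    exact ⟨fun hx => (three_cases (hpow x hx).2.1 (hpow x hx).2.2).imp (fun e => ⟨hx, e⟩)
      (fun e => ⟨hx, e⟩), fun e => e.elim (·.1) (·.1)⟩
  have hfib : ∀ a : Q, Nat.card {x // P x ∧ IsConj a (π x)} =
      Nat.card {p : Q // IsConj a p} * Nat.card {x // P x ∧ π x = a} := by
    intro a
    refine card_fibre (fun s x => (x.1, s * x.2 * s⁻¹)) π P (fun s x => ?_) (fun s x => ?_)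
      (fun s x hx => ?_) a
    · exact Prod.ext rfl (show s⁻¹ * (s * x.2 * s⁻¹) * s⁻¹⁻¹ = x.2 by group)
    · show s * x.2 * s⁻¹ * (s * x.2 * s⁻¹) * (s * x.2 * s⁻¹ * (s * x.2 * s⁻¹)) = _
      simp only [π]; group
    · refine hx.trans ?_
      obtain ⟨i, r⟩ := x
      cases i
      · exact h.isConj_i (isConj_iff.2 ⟨s, rfl⟩)
      · exact h.isConj_ti (isConj_iff.2 ⟨s, rfl⟩)
  rw [hsplit, hfib, hfib, card_class_pe, card_class_pd]
  -- the fibre over `pe` is odd
  have hcube : ∀ x, P x → IsConj (ι pz) (el x * el x * el x) ∧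
      x.2 * x.2 * (x.2 * x.2) * (x.2 * x.2) = 1 := by
    intro x hx
    obtain ⟨g, hg⟩ := isConj_iff.1 hx
    constructor
    · refine isConj_iff.2 ⟨g, ?_⟩
      conv_lhs => rw [show pz = (pe * pz) * (pe * pz) * (pe * pz) by decide +kernel, map_mul, map_mul]
      rw [← hg]; group
    · refine h.inj ?_
      rw [map_mul, map_mul, map_one, ← hsq, ← hg]
      calc g * ι (pe * pz) * g⁻¹ * (g * ι (pe * pz) * g⁻¹) *
            (g * ι (pe * pz) * g⁻¹ * (g * ι (pe * pz) * g⁻¹)) *
            (g * ι (pe * pz) * g⁻¹ * (g * ι (pe * pz) * g⁻¹))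
          = g * ι ((pe * pz) * (pe * pz) * ((pe * pz) * (pe * pz)) * ((pe * pz) * (pe * pz))) * g⁻¹ := by
            simp only [map_mul]; group
        _ = 1 := by
          rw [show (pe * pz) * (pe * pz) * ((pe * pz) * (pe * pz)) * ((pe * pz) * (pe * pz)) = 1 by
            decide +kernel, map_one, mul_one, mul_inv_cancel]
  set A : Prop := P (false, pe * pa) with hA
  set B : Prop := P (true, pe * pa) with hB
  let L : List (Bool × Q) := dbl.map (fun q => (false, pe * q)) ++
    ((if A then trs.map (fun q => (false, pe * q)) else []) ++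
      (if B then trs.map (fun q => (true, pe * q)) else []))
  have hconjP : ∀ (i : Bool) (p q s : Q), s * p * s⁻¹ = q → s * pe = pe * s →
      (P (i, pe * p) ↔ P (i, pe * q)) := by
    intro i p q s hs hse
    have hc : IsConj (el (i, pe * p)) (el (i, pe * q)) := by
      have e : s * (pe * p) * s⁻¹ = pe * q := by
        rw [← mul_assoc, hse, ← hs]; group
      cases i
      · exact h.isConj_i (isConj_iff.2 ⟨s, e⟩)
      · exact h.isConj_ti (isConj_iff.2 ⟨s, e⟩)
    exact ⟨fun e => e.trans hc, fun e => e.trans hc.symm⟩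
  have htrs : ∀ (i : Bool), ∀ q ∈ trs, (P (i, pe * q) ↔ P (i, pe * pa)) := by
    intro i q hq
    obtain ⟨-, -, hs⟩ := trs_spec q hq
    obtain ⟨s, hs, hs'⟩ := List.any_eq_true.1 hs
    exact (hconjP i pa q s (of_decide_eq_true hs') (elist72_mem.2 hs)).symm
  have hdbl : ∀ q ∈ dbl, P (false, pe * q) := by
    intro q hq
    obtain ⟨-, -, hs⟩ := dbl_spec q hq
    obtain ⟨s, hs, hs'⟩ := List.any_eq_true.1 hs
    exact (hconjP false pz q s (of_decide_eq_true hs') (elist72_mem.2 hs)).1 (IsConj.refl _)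
  have hdblsq : ∀ q ∈ 1 :: (trs ++ dbl),
      pe * q * (pe * q) * (pe * q * (pe * q)) = pe ∧ pe * q * (pe * q) * (pe * q) = q :=
    of_all (by decide +kernel)
  have hmem : ∀ x, (P x ∧ π x = pe) ↔ x ∈ L.toFinset := by
    intro x
    rw [List.mem_toFinset]
    constructor
    · rintro ⟨hx, hxe⟩
      obtain ⟨hz, h6⟩ := hcube x hx
      obtain ⟨i, r⟩ := x
      have hre : r * pe = pe * r := by rw [← hxe]; simp only [π]; group
      have hfin : ∀ r ∈ elist72, r * r * (r * r) = pe → r * r * (r * r) * (r * r) = 1 →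
          r ∈ (1 :: (trs ++ dbl)).map (pe * ·) := of_all (by decide +kernel)
      obtain ⟨q, hq, rfl⟩ := List.mem_map.1 (hfin r (elist72_mem.1 hre) hxe h6)
      have h3 := (hdblsq q hq).2
      rcases List.mem_cons.1 hq with hq1 | hq'
      · subst hq1
        exfalso
        cases i
        · rw [show el (false, pe * 1) = ι (pe * 1) from rfl, ← map_mul, ← map_mul, h3, map_one,
            isConj_one_left] at hz
          exact absurd (h.inj (hz.trans (map_one ι).symm)) (by decide)
        · rw [show el (true, pe * 1) = t * ι (pe * 1) from rfl, h.mul_tt, h.mul_it, h3, map_one,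
            mul_one] at hz
          exact h.z_notK hz.symm
      · rcases List.mem_append.1 hq' with hq' | hq'
        · cases i
          · have : A := (htrs false q hq').1 hx
            simp [L, this, hq']
          · have : B := (htrs true q hq').1 hx
            simp [L, this, hq']
        · cases i
          · simp [L, hq']
          · exfalso
            rw [show el (true, pe * q) = t * ι (pe * q) from rfl, h.mul_tt, h.mul_it, h3] at hz
            obtain ⟨-, -, hs⟩ := dbl_spec q hq'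
            obtain ⟨s, -, hs'⟩ := List.any_eq_true.1 hs
            exact h.z_notK ((h.isConj_tz.trans
              (h.isConj_ti (isConj_iff.2 ⟨s, of_decide_eq_true hs'⟩))).trans hz.symm)
    · intro hx
      simp only [L, List.mem_append] at hx
      rcases hx with hx | hx | hx
      · obtain ⟨q, hq, rfl⟩ := List.mem_map.1 hx
        exact ⟨hdbl q hq, (hdblsq q (by simp [hq])).1⟩
      · split_ifs at hx with hA'
        · obtain ⟨q, hq, rfl⟩ := List.mem_map.1 hx
          exact ⟨(htrs false q hq).2 hA', (hdblsq q (by simp [hq])).1⟩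
        · simp at hx
      · split_ifs at hx with hB'
        · obtain ⟨q, hq, rfl⟩ := List.mem_map.1 hx
          exact ⟨(htrs true q hq).2 hB', (hdblsq q (by simp [hq])).1⟩
        · simp at hx
  have hodd : Nat.card {x // P x ∧ π x = pe} % 2 = 1 := by
    rw [Nat.card_congr (Equiv.subtypeEquivRight hmem), Nat.card_eq_fintype_card, Fintype.card_coe]
    simp only [L]
    split_ifs <;> decide +kernel
  omega

/-- `z` lies in the centre of a Sylow `2`-subgroup normalizing `⟨e⟩`. -/
theorem odd_index_meet : ¬ 2 ∣ (eNorm (ι pe) ⊓ centralizer ({ι pz} : Set G)).index := by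
  set M := eNorm (ι pe) ⊓ centralizer ({ι pz} : Set G) with hM
  set D := centralizer ({ι (pe * pz)} : Set G) with hD
  have hcomm : Commute (ι pe) (ι pz) := h.commute_ii.2 (by decide +kernel)
  have hsplit : ∀ g : G, g ∈ D ↔ g ∈ centralizer ({ι pe} : Set G) ∧ g ∈ centralizer ({ι pz} : Set G) := by
    intro g
    simp only [hD, mem_centralizer_singleton_iff]
    constructor
    · intro hg
      have hc : Commute g (ι (pe * pz)) := hg
      constructor
      · have := (hc.mul_right hc).mul_right (hc.mul_right hc)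
        rw [← map_mul, ← map_mul, show pe * pz * (pe * pz) * (pe * pz * (pe * pz)) = pe by
          decide +kernel] at this
        exact this.eq
      · have := (hc.mul_right hc).mul_right hc
        rw [← map_mul, ← map_mul, show pe * pz * (pe * pz) * (pe * pz) = pz by decide +kernel] at this
        exact this.eq
    · rintro ⟨a, b⟩
      rw [map_mul]
      exact (Commute.mul_right (a := g) a b).eq
  have hle : D ≤ M := fun g hg => ⟨h.cent_le_eNorm ((hsplit g).1 hg).1, ((hsplit g).1 hg).2⟩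
  have hcz : ι pc ∈ centralizer ({ι pz} : Set G) :=
    mem_centralizer_singleton_iff.2 (h.commute_ii.2 (by decide +kernel) : Commute (ι pc) (ι pz)).eq
  have hr : D.relIndex M = 2 := by
    refine relIndex_eq_two (a := ι pc) ⟨Or.inr h.pc_inverts, hcz⟩ fun b hb => ?_
    rcases h.xor_pc hb.1 with ⟨e1, e2⟩ | ⟨e1, e2⟩
    · exact Or.inl ⟨(hsplit _).2 ⟨e1, mul_mem hb.2 hcz⟩, fun e => e2 ((hsplit _).1 e).1⟩
    · exact Or.inr ⟨(hsplit _).2 ⟨e1, hb.2⟩, fun e => e2 ((hsplit _).1 e).1⟩
  have h1 := relIndex_mul_index hle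
  have h2 := h.index_cent_ez
  rw [← hD] at h2
  rw [hr] at h1
  omega

theorem odd_index_cz : ¬ 2 ∣ (centralizer ({ι pz} : Set G)).index := fun e =>
  h.odd_index_meet (e.trans (index_dvd_of_le inf_le_right))

end Hyp

end CfsgLib.Invol.TwoTimesSSeven
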