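import Cfsg.Agent.Lib.Invol.TwoTimesSSeven.LocalClasses

/-!
# An involution with centralizer `2 × S₇`: doubling a `2`-subgroup
-/

set_option autoImplicit false
set_option linter.unusedSectionVars false
set_option maxRecDepth 20000

namespace CfsgLib.Invol.TwoTimesSSeven

open Subgroup Equiv CfsgLib.Invol

universe u

section General

variable {G : Type u} [Group G] [Finite G]

/-- `X ∪ X c` for an element `c` normalizing `X` with square in `X`. -/
def doubled (X : Subgroup G) (c : G) (h2 : c * c ∈ X) (hn : ∀ r ∈ X, c⁻¹ * r * c ∈ X) : Subgroup G :=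
  have hn' : ∀ r ∈ X, c * r * c⁻¹ ∈ X := fun r hr => by
    have := mul_mem (mul_mem h2 (hn r hr)) (inv_mem h2)
    rwa [show c * c * (c⁻¹ * r * c) * (c * c)⁻¹ = c * r * c⁻¹ by group] at this
  { carrier := {g | g ∈ X ∨ g * c ∈ X}
    one_mem' := Or.inl (one_mem X)
    mul_mem' := by
      intro a b ha hb
      rcases ha with ha | ha <;> rcases hb with hb | hb
      · exact Or.inl (mul_mem ha hb)
      · exact Or.inr (by rw [mul_assoc]; exact mul_mem ha hb)
      · refine Or.inr ?_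
        rw [show a * b * c = a * c * (c⁻¹ * b * c) by group]
        exact mul_mem ha (hn b hb)
      · refine Or.inl ?_
        rw [show a * b = a * c * (c⁻¹ * (b * c) * c) * (c * c)⁻¹ by group]
        exact mul_mem (mul_mem ha (hn _ hb)) (inv_mem h2)
    inv_mem' := by
      intro a ha
      rcases ha with ha | ha
      · exact Or.inl (inv_mem ha)
      · refine Or.inr ?_
        rw [show a⁻¹ * c = (c * (a * c)⁻¹ * c⁻¹) * (c * c) by group]
        exact mul_mem (hn' _ (inv_mem ha)) h2 }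

theorem mem_doubled {X : Subgroup G} {c g : G} {h2 : c * c ∈ X} {hn : ∀ r ∈ X, c⁻¹ * r * c ∈ X} :
    g ∈ doubled X c h2 hn ↔ g ∈ X ∨ g * c ∈ X := Iff.rfl

theorem le_doubled {X : Subgroup G} {c : G} {h2 : c * c ∈ X} {hn : ∀ r ∈ X, c⁻¹ * r * c ∈ X} :
    X ≤ doubled X c h2 hn := fun _ => Or.inl

theorem self_mem_doubled {X : Subgroup G} {c : G} {h2 : c * c ∈ X} {hn : ∀ r ∈ X, c⁻¹ * r * c ∈ X} :
    c ∈ doubled X c h2 hn := Or.inr h2

theorem card_doubled {X : Subgroup G} {c : G} {h2 : c * c ∈ X} {hn : ∀ r ∈ X, c⁻¹ * r * c ∈ X}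
    (hc : c ∉ X) : Nat.card (doubled X c h2 hn) = 2 * Nat.card X := by
  classical
  let f : Bool × X → doubled X c h2 hn := fun p =>
    ⟨p.2.1 * bp c p.1, by
      cases p.1
      · exact le_doubled ((mul_one p.2.1).symm ▸ p.2.2)
      · exact mul_mem (le_doubled p.2.2) self_mem_doubled⟩
  have hf : Function.Bijective f := by
    refine ⟨fun p q e => ?_, fun g => ?_⟩
    · obtain ⟨i, r⟩ := p
      obtain ⟨j, s⟩ := q
      have e' : r.1 * bp c i = s.1 * bp c j := congrArg Subtype.val e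
      cases i <;> cases j <;> simp only [bp, mul_one] at e'
      · rw [Subtype.ext e']
      · exact absurd (by rw [show c = s.1⁻¹ * r.1 by rw [e', inv_mul_cancel_left]]
                         exact mul_mem (inv_mem s.2) r.2) hc
      · exact absurd (by rw [show c = r.1⁻¹ * s.1 by rw [← e', inv_mul_cancel_left]]
                         exact mul_mem (inv_mem r.2) s.2) hc
      · rw [Subtype.ext (mul_right_cancel e')]
    · obtain ⟨g, hg⟩ := g
      rcases hg with hg | hg
      · exact ⟨(false, ⟨g, hg⟩), Subtype.ext (mul_one g)⟩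
      · refine ⟨(true, ⟨g * c * (c * c)⁻¹, mul_mem hg (inv_mem h2)⟩), Subtype.ext ?_⟩
        show g * c * (c * c)⁻¹ * c = g
        group
  rw [← Nat.card_eq_of_bijective f hf, Nat.card_prod, Nat.card_eq_fintype_card, Fintype.card_bool]

/-- The orbit bound for conjugation. -/
theorem card_le_mul_card_cent {X : Subgroup G} {v : G} (O : Set G) (hv : v ∈ O)
    (hO : ∀ g ∈ X, ∀ y ∈ O, g * y * g⁻¹ ∈ O) :
    Nat.card X ≤ Nat.card O * Nat.card ↥(X ⊓ centralizer ({v} : Set G)) := by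
  classical
  set C : Subgroup X := (centralizer ({v} : Set G)).subgroupOf X with hC
  let f : X ⧸ C → O := Quotient.lift (fun g : X => (⟨g.1 * v * g.1⁻¹, hO g.1 g.2 v hv⟩ : O))
    (fun a b hab => Subtype.ext (by
      have hm : a⁻¹ * b ∈ C := QuotientGroup.leftRel_apply.1 hab
      have hm' : a.1⁻¹ * b.1 * v = v * (a.1⁻¹ * b.1) := mem_centralizer_singleton_iff.1 hm
      show a.1 * v * a.1⁻¹ = b.1 * v * b.1⁻¹
      calc a.1 * v * a.1⁻¹ = a.1 * (v * (a.1⁻¹ * b.1)) * b.1⁻¹ := by group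
        _ = a.1 * (a.1⁻¹ * b.1 * v) * b.1⁻¹ := by rw [hm']
        _ = _ := by group))
  have hinj : Function.Injective f := by
    intro a b
    induction a using QuotientGroup.induction_on with
    | H a =>
      induction b using QuotientGroup.induction_on with
      | H b =>
        intro e
        have e' : a.1 * v * a.1⁻¹ = b.1 * v * b.1⁻¹ := congrArg Subtype.val e
        refine QuotientGroup.eq.2 (mem_centralizer_singleton_iff.2 ?_)
        show a.1⁻¹ * b.1 * v = v * (a.1⁻¹ * b.1)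
        calc a.1⁻¹ * b.1 * v = a.1⁻¹ * (b.1 * v * b.1⁻¹) * b.1 := by group
          _ = a.1⁻¹ * (a.1 * v * a.1⁻¹) * b.1 := by rw [e']
          _ = _ := by group
  have h1 := Nat.card_le_card_of_injective f hinj
  have h2 := C.card_mul_index
  have h3 : Nat.card C = Nat.card ↥(X ⊓ centralizer ({v} : Set G)) :=
    Nat.card_congr
      { toFun := fun g => ⟨g.1.1, g.1.2, g.2⟩
        invFun := fun g => ⟨⟨g.1, g.2.1⟩, g.2.2⟩
        left_inv := fun _ => rfl
        right_inv := fun _ => rfl }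
  rw [← h2, h3, mul_comm (Nat.card O), index_eq_card]
  exact Nat.mul_le_mul_left _ h1

end General

namespace Four

variable {G : Type u} [Group G] [Finite G] {t : G} {ι : Q →* G} (h : Four t ι)
include h

theorem pc_not_commute_pe : ¬ Commute (ι pc) (ι pe) := fun e =>
  absurd (h.commute_ii.1 e) (by decide +kernel)

/-- A subgroup of the centralizers of `e`, `c` and `z` containing the four-group of translations
and not of odd index after adjoining `c` is normalized by another element of `C(e) ∩ C(z)`. -/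
theorem exists_ext {R : Subgroup G} (hloc : loc t ι ≤ R)
    (hR : ∀ r ∈ R, Commute r (ι pe) ∧ Commute r (ι pc) ∧ Commute r (ι pz)) {k n F : ℕ}
    (hcard : Nat.card R = 2 ^ k) (hK : Nat.card {g : G // g ∈ R ∧ IsConj t g} = n)
    (hF : F * 2 ^ (k + 1) = 2 * n * 10080) (heven : F % 2 = 0)
    (hel : ∀ p ∈ eight, ι p ∈ R ∧ t * ι p ∈ R) :
    ∃ y : G, Commute y (ι pe) ∧ Commute y (ι pz) ∧ y ∉ R ∧ y * y ∈ R ∧
      (∀ r ∈ R, y * r * y⁻¹ ∈ R) ∧ (∀ r ∈ R, y⁻¹ * r * y ∈ R) ∧
      (y * ι pc * y⁻¹ = ι pc ∨ y * ι pc * y⁻¹ = ι pT) := by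
  have hc1 := h.pp pc (by decide)
  have hcinv : (ι pc)⁻¹ = ι pc := inv_eq_of_mul_eq_one_right hc1
  have h2 : ι pc * ι pc ∈ R := by rw [hc1]; exact Subgroup.one_mem R
  have hn : ∀ r ∈ R, (ι pc)⁻¹ * r * ι pc ∈ R := fun r hr => by
    rwa [mul_assoc, (hR r hr).2.1.eq, inv_mul_cancel_left]
  set X := doubled R (ι pc) h2 hn with hX
  have hcR : ι pc ∉ R := fun e => h.pc_not_commute_pe (hR _ e).1
  have hcardX : Nat.card X = 2 ^ (k + 1) := by rw [card_doubled hcR, hcard, pow_succ, mul_comm]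
  have hKX : Nat.card {g : G // g ∈ X ∧ IsConj t g} = 2 * n := by
    rw [← hK, ← Fintype.card_bool, ← Nat.card_eq_fintype_card (α := Bool), ← Nat.card_prod]
    have hiff : ∀ r ∈ R, (IsConj t (r * ι pc) ↔ IsConj t r) := fun r hr =>
      h.mul_iff hc1 h.c_notK (hR r hr).2.1
    refine (Nat.card_eq_of_bijective (fun p : Bool × {g : G // g ∈ R ∧ IsConj t g} =>
      (⟨p.2.1 * bp (ι pc) p.1, ?_, ?_⟩ : {g : G // g ∈ X ∧ IsConj t g})) ⟨?_, ?_⟩).symm
    · cases p.1
      · exact le_doubled ((mul_one p.2.1).symm ▸ p.2.2.1)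
      · exact Subgroup.mul_mem _ (le_doubled p.2.2.1) self_mem_doubled
    · cases p.1
      · exact (mul_one p.2.1).symm ▸ p.2.2.2
      · exact (hiff _ p.2.2.1).2 p.2.2.2
    · rintro ⟨i, r, hr⟩ ⟨j, s, hs⟩ e
      have e' : r * bp (ι pc) i = s * bp (ι pc) j := congrArg Subtype.val e
      cases i <;> cases j <;> simp only [bp, mul_one] at e'
      · cases e'; rfl
      · refine absurd ?_ hcR
        rw [show ι pc = s⁻¹ * r by rw [e', inv_mul_cancel_left]]
        exact Subgroup.mul_mem _ (Subgroup.inv_mem _ hs.1) hr.1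
      · refine absurd ?_ hcR
        rw [show ι pc = r⁻¹ * s by rw [← e', inv_mul_cancel_left]]
        exact Subgroup.mul_mem _ (Subgroup.inv_mem _ hr.1) hs.1
      · cases mul_right_cancel e'; rfl
    · rintro ⟨g, hg | hg, hgK⟩
      · exact ⟨(false, ⟨g, hg, hgK⟩), Subtype.ext (mul_one g)⟩
      · refine ⟨(true, ⟨g * ι pc, hg, (hiff _ hg).1 ?_⟩), Subtype.ext ?_⟩
        · rwa [mul_assoc, hc1, mul_one]
        · show g * ι pc * ι pc = g
          rw [mul_assoc, hc1, mul_one]
  have hidx := ClassSign.index_mod_four h.noIndexTwo h.tt X (F := F)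
    (by rw [hcardX, hKX, h.card_cent, hF])
  set M := eNorm (ι pe) ⊓ centralizer ({ι pz} : Set G) with hM
  have hXM : X ≤ M := by
    have hRM : R ≤ M := fun r hr => mem_inf.2
      ⟨Or.inl (by rw [(hR r hr).1.eq, mul_inv_cancel_right]),
        mem_centralizer_singleton_iff.2 (hR r hr).2.2.eq⟩
    have hcM : ι pc ∈ M := mem_inf.2 ⟨Or.inr h.pc_inverts,
      mem_centralizer_singleton_iff.2 (h.commute_ii.2 (by decide +kernel) : Commute (ι pc) (ι pz)).eq⟩
    intro g hg
    rcases hg with hg | hg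
    · exact hRM hg
    · have := Subgroup.mul_mem M (hRM hg) (Subgroup.inv_mem M hcM)
      rwa [mul_inv_cancel_right] at this
  have hd : 2 ^ (k + 1 + 1) ∣ Nat.card M := by
    have hG := card_mul_index X
    obtain ⟨m, hm⟩ : 2 ∣ X.index := by omega
    rw [hcardX, hm, ← mul_assoc, ← pow_succ] at hG
    have hcop : Nat.Coprime (2 ^ (k + 1 + 1)) M.index :=
      ((Nat.prime_two.coprime_iff_not_dvd).2 h.odd_index_meet).pow_left _
    exact hcop.dvd_of_dvd_mul_right (by rw [card_mul_index, ← hG]; exact Dvd.intro _ rfl)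
  obtain ⟨y, hyM, hyX, hy2, hy⟩ := exists_extension hXM hcardX hd
  -- put it into `C(e)`
  obtain ⟨z', hz', hz'X, hz'2, hz'n, hz'e⟩ : ∃ z', z' ∈ M ∧ z' ∉ X ∧ z' * z' ∈ X ∧
      (∀ g, g ∈ X ↔ z' * g * z'⁻¹ ∈ X) ∧ Commute z' (ι pe) := by
    rcases (mem_inf.1 hyM).1 with e | e
    · exact ⟨y, hyM, hyX, hy2, hy, mul_inv_eq_iff_eq_mul.1 e⟩
    · have hcX : ι pc ∈ X := self_mem_doubled
      have hcM := hXM hcX
      refine ⟨ι pc * y, Subgroup.mul_mem _ hcM hyM, fun e' => hyX ?_, ?_, fun g => ?_,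
        mul_inv_eq_iff_eq_mul.1 ?_⟩
      · have := Subgroup.mul_mem X (Subgroup.inv_mem X hcX) e'
        rwa [inv_mul_cancel_left] at this
      · rw [show ι pc * y * (ι pc * y) = ι pc * (y * ι pc * y⁻¹) * (y * y) by group]
        exact Subgroup.mul_mem _ (Subgroup.mul_mem _ hcX ((hy _).1 hcX)) hy2
      · rw [hy g, show ι pc * y * g * (ι pc * y)⁻¹ = ι pc * (y * g * y⁻¹) * (ι pc)⁻¹ by group]
        refine ⟨fun hh => Subgroup.mul_mem _ (Subgroup.mul_mem _ hcX hh) (Subgroup.inv_mem _ hcX),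
          fun hh => ?_⟩
        have := Subgroup.mul_mem _ (Subgroup.mul_mem _ (Subgroup.inv_mem _ hcX) hh) hcX
        rwa [show (ι pc)⁻¹ * (ι pc * (y * g * y⁻¹) * (ι pc)⁻¹) * ι pc = y * g * y⁻¹ by group] at this
      · rw [show ι pc * y * ι pe * (ι pc * y)⁻¹ = ι pc * (y * ι pe * y⁻¹) * (ι pc)⁻¹ by group, e,
          show ι pc * (ι pe)⁻¹ * (ι pc)⁻¹ = (ι pc * ι pe * (ι pc)⁻¹)⁻¹ by group, h.pc_inverts,
          inv_inv]
  have hzz : Commute z' (ι pz) := mem_centralizer_singleton_iff.1 (mem_inf.1 hz').2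
  have hXR : ∀ g, g ∈ X → Commute g (ι pe) → g ∈ R := by
    intro g hg hge
    rcases hg with hg | hg
    · exact hg
    · refine absurd ?_ h.pc_not_commute_pe
      have := hge.inv_left.mul_left (hR _ hg).1
      rwa [inv_mul_cancel_left] at this
  have hfix : z' * ι pe * z'⁻¹ = ι pe := by rw [hz'e.eq, mul_inv_cancel_right]
  have hconjR : ∀ r ∈ R, z' * r * z'⁻¹ ∈ R := fun r hr => by
    refine hXR _ ((hz'n r).1 (le_doubled hr)) ?_
    have := commute_conj (hR r hr).1 z'
    rwa [hfix] at this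
  have hcX' : ∀ g ∈ X, Commute (ι pc) g := by
    intro g hg
    rcases hg with hg | hg
    · exact (hR g hg).2.1.symm
    · have := (hR _ hg).2.1.symm.mul_right (Commute.refl (ι pc)).inv_right
      rwa [mul_inv_cancel_right] at this
  have hcent : ∀ g ∈ X, Commute (z' * ι pc * z'⁻¹) g := by
    intro g hg
    have hg' : z'⁻¹ * g * z' ∈ X := by
      rw [hz'n, show z' * (z'⁻¹ * g * z') * z'⁻¹ = g by group]; exact hg
    have := commute_conj (hcX' _ hg') z'
    rwa [show z' * (z'⁻¹ * g * z') * z'⁻¹ = g by group] at this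
  have hsyl : syl t ι ≤ X := by
    intro g hg
    obtain ⟨p, hp, hgp⟩ := h.mem_syl.1 hg
    obtain ⟨q, hq, hpq⟩ : ∃ q ∈ eight, p = q ∨ p = q * pc :=
      (of_all (L := dlist) (P := fun p => ∃ q ∈ eight, p = q ∨ p = q * pc) (by decide +kernel)) p hp
    rcases hpq with rfl | rfl <;> rcases hgp with rfl | rfl
    · exact le_doubled (hel _ hq).1
    · exact le_doubled (hel _ hq).2
    · rw [map_mul]; exact Subgroup.mul_mem _ (le_doubled (hel _ hq).1) self_mem_doubled
    · rw [map_mul, ← mul_assoc]; exact Subgroup.mul_mem _ (le_doubled (hel _ hq).2) self_mem_doubled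
  refine ⟨z', hz'e, hzz, fun e => hz'X (le_doubled e),
    hXR _ hz'2 (hz'e.mul_left hz'e), hconjR, fun r hr => ?_, ?_⟩
  · refine hXR _ ?_ ?_
    · rw [hz'n, show z' * (z'⁻¹ * r * z') * z'⁻¹ = r by group]; exact le_doubled hr
    · have := commute_conj (hR r hr).1 z'⁻¹
      rwa [inv_inv, show z'⁻¹ * ι pe * z' = ι pe by
        rw [mul_assoc, ← hz'e.eq, inv_mul_cancel_left]] at this
  -- the image of `c`
  have hqs : z' * ι pc * z'⁻¹ ∈ syl t ι := by
    refine mem_centralizer_iff.2 ?_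
    simp only [Set.mem_insert_iff, Set.mem_singleton_iff, forall_eq_or_imp, forall_eq]
    exact ⟨(hcent _ (hsyl h.t_mem_syl)).eq.symm,
      (hcent _ (hsyl (h.i_mem_syl (by decide +kernel)))).eq.symm,
      (hcent _ (hsyl (h.i_mem_syl (by decide +kernel)))).eq.symm⟩
  obtain ⟨q, hq, hc | hc⟩ := h.center_syl hqs (fun g hg => hcent g (hsyl hg))
  · simp only [List.mem_cons, List.not_mem_nil, or_false] at hq
    rcases hq with rfl | rfl | rfl | rfl
    · rw [map_one, conj_eq_one_iff, ← map_one ι] at hc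
      exact absurd (h.inj hc) (by decide +kernel)
    · have hz3 : z' * ι pz * z'⁻¹ = ι pz := by rw [hzz.eq, mul_inv_cancel_right]
      exact absurd (h.inj (mul_left_cancel (mul_right_cancel (hc.trans hz3.symm)))) (by decide +kernel)
    · exact Or.inl hc
    · exact Or.inr hc
  · have hK' := h.not_isConj_conj_i z' pc
    rw [hc] at hK'
    exact absurd (h.ti_iff.2 ((of_all (L := [1, pz, pc, pT]) (P := fun q => q * q = 1)
      (by decide +kernel)) q hq)) hK'

/-- An element fixing `t` up to `R` lies in `R`. -/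
theorem mem_of_fix {R : Subgroup G} (hloc : loc t ι ≤ R)
    (hR : ∀ r ∈ R, Commute r (ι pe) ∧ Commute r (ι pc) ∧ Commute r (ι pz))
    (hel : ∀ p ∈ eight, ι p ∈ R ∧ t * ι p ∈ R) {y g : G} (hye : Commute y (ι pe))
    (hyz : Commute y (ι pz)) (hy2 : y * y ∈ R) (hn : ∀ r ∈ R, y * r * y⁻¹ ∈ R) (hg : g ∈ R)
    (heq : g * t * g⁻¹ = y * t * y⁻¹) : y ∈ R := by
  set y' := g⁻¹ * y with hy'
  have ht : Commute y' t := by
    refine mul_inv_eq_iff_eq_mul.1 ?_
    rw [show y' * t * y'⁻¹ = g⁻¹ * (y * t * y⁻¹) * g by rw [hy']; group, ← heq]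
    group
  have hy'2 : y' * y' ∈ R := by
    rw [show y' * y' = g⁻¹ * (y * g⁻¹ * y⁻¹) * (y * y) by rw [hy']; group]
    exact Subgroup.mul_mem _ (Subgroup.mul_mem _ (Subgroup.inv_mem _ hg)
      (hn _ (Subgroup.inv_mem _ hg))) hy2
  obtain ⟨p, hp⟩ := h.decomp y' ht
  have key : ∀ q : Q, Commute y' (ι q) → p * q = q * p := fun q hq => by
    rcases hp with e | e <;> rw [e] at hq
    exacts [h.commute_ii.1 hq, h.commute_tii.1 hq]
  have hpe := key _ ((hR g hg).1.inv_left.mul_left hye)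
  have hpz := key _ ((hR g hg).2.2.inv_left.mul_left hyz)
  have hsq : y' * y' = ι (p * p) := by
    rcases hp with e | e <;> rw [e]
    · exact (map_mul ι p p).symm
    · exact h.mul_tt p p
  have hpc := h.commute_ii.1 (hsq ▸ (hR _ hy'2).2.1 : Commute (ι (p * p)) (ι pc))
  have h8 : p ∈ eight := by
    have := of_all (L := zlist)
      (P := fun p => p * pe = pe * p → p * p * pc = pc * (p * p) → p ∈ eight) (by decide +kernel)
    exact this p (zlist_mem.1 hpz) hpe hpc
  have hy'R : y' ∈ R := by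
    rcases hp with e | e <;> rw [e]
    exacts [(hel p h8).1, (hel p h8).2]
  have := Subgroup.mul_mem R hg hy'R
  rwa [hy', mul_inv_cancel_left] at this

end Four

end CfsgLib.Invol.TwoTimesSSeven
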