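import Cfsg.Agent.Lib.Invol.TwoTimesSSeven.Extension

/-!
# An involution with centralizer `2 × S₇` forces a subgroup of index two
-/

set_option autoImplicit false
set_option linter.unusedSectionVars false
set_option maxRecDepth 20000

namespace CfsgLib.Invol.TwoTimesSSeven

open Subgroup Equiv CfsgLib.Invol

universe u

namespace Four

variable {G : Type u} [Group G] [Finite G] {t : G} {ι : Q →* G} (h : Four t ι)
include h

/-- No elementary abelian group of order `32` contains a conjugate of `t`. -/
theorem no_abelian_thirtytwo {X : Subgroup G} (hX : Nat.card X = 32) {k : G}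
    (hk : IsConj t k) (hkX : k ∈ X) (hab : ∀ a ∈ X, ∀ b ∈ X, Commute a b) : False := by
  obtain ⟨g, hg⟩ := isConj_iff.1 hk
  set Y := X.map (MulAut.conj g⁻¹).toMonoidHom with hY
  have hYab : ∀ a ∈ Y, ∀ b ∈ Y, Commute a b := by
    rintro _ ⟨a, ha, rfl⟩ _ ⟨b, hb, rfl⟩
    exact (hab a ha b hb).map _
  have htY : t ∈ Y := ⟨k, hkX, by
    show g⁻¹ * k * g⁻¹⁻¹ = t
    rw [← hg]; group⟩
  have hYC : Y ≤ centralizer ({t} : Set G) := fun a ha =>
    mem_centralizer_singleton_iff.2 (hYab a ha t htY).eq
  have hcY : Nat.card Y = 2 ^ 5 := by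
    rw [card_map_of_injective (MulAut.conj g⁻¹).injective, hX]; rfl
  obtain ⟨m, -, hm⟩ := exists_conj_of_card h.syl_le hYC (h.card_syl.trans rfl) hcY
    (by rw [h.card_cent]; decide)
  have hcomm : Commute (ι pa) (ι pb) := by
    have := hYab _ ((hm _).1 (h.i_mem_syl (p := pa) (by decide +kernel))) _
      ((hm _).1 (h.i_mem_syl (p := pb) (by decide +kernel)))
    exact (commute_conj_iff m).1 this
  exact absurd (h.commute_ii.1 hcomm) (by decide +kernel)

variable {x w : G} (L : Lifts t ι x w)
include L

theorem loc_facts : ∀ r ∈ loc t ι, Commute r (ι pe) ∧ Commute r (ι pc) ∧ Commute r (ι pz) :=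
  fun _ hr => h.loc_commute L hr

theorem t_mem_loc : t ∈ loc t ι := by
  have := (h.el_mem L (show (1 : Q) ∈ eight by decide +kernel)).2
  rwa [map_one, mul_one] at this

theorem card_loc' : Nat.card (loc t ι) = 2 ^ 6 := h.card_loc L

theorem loc_fix_four {g : G} (hg : g ∈ loc t ι) :
    ∃ k l, g * t * g⁻¹ = t * ι (pw false k l) := by
  have := (mem_set_normalizer_iff.1 (mem_inf.1 hg).1 t).1 (by simp [four])
  simp only [four, Set.mem_insert_iff, Set.mem_singleton_iff] at this
  rcases this with e | e | e | e
  · exact ⟨false, false, by rw [e]; simp [pw, bp]⟩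
  · exact ⟨false, true, by rw [e]; simp [pw, bp]⟩
  · exact ⟨true, false, by rw [e]; simp [pw, bp]⟩
  · exact ⟨true, true, by rw [e, show pw false true true = pz * pb by decide +kernel]⟩

theorem case_I (hI : w * ι pa * w * ι pa = x * t * ι pb) : False := by
  set R := loc t ι with hRdef
  obtain ⟨y, hye, hyz, hyR, hy2, hn, hn', -⟩ := h.exists_ext (R := R) le_rfl (h.loc_facts L)
    (h.card_loc' L) (h.card_K_loc_I L hI) (F := 3150) (by norm_num) (by norm_num)
    (fun p hp => h.el_mem L hp)
  have hcl : ∀ g ∈ R, ∃ k l, y * (g * t * g⁻¹) * y⁻¹ = x * ι (pw false k l) := by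
    intro g hg
    have hmem : y * (g * t * g⁻¹) * y⁻¹ ∈ R :=
      hn _ (Subgroup.mul_mem _ (Subgroup.mul_mem _ hg (h.t_mem_loc L)) (Subgroup.inv_mem _ hg))
    have hK : IsConj t (y * (g * t * g⁻¹) * y⁻¹) := isConj_iff.2 ⟨y * g, by group⟩
    refine (h.classify_I L hI hmem hK fun r hr => ?_).resolve_left ?_
    · obtain ⟨k, l, e1⟩ := h.loc_fix_four L hg
      obtain ⟨k', l', e2⟩ := h.loc_fix_four L (Subgroup.mul_mem R (hn' r hr) hg)
      rw [show r * (y * (g * t * g⁻¹) * y⁻¹) * r⁻¹ =
        y * (y⁻¹ * r * y * g * t * (y⁻¹ * r * y * g)⁻¹) * y⁻¹ by group, e1, e2]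
      exact commute_conj (h.commute_titi.2 ((by decide +kernel : ∀ k l k' l',
        pw false k l * pw false k' l' = pw false k' l' * pw false k l) k l k' l')) y
    · rintro ⟨g', hg', e⟩
      refine hyR (h.mem_of_fix le_rfl (h.loc_facts L) (fun p hp => h.el_mem L hp) hye hyz hy2 hn
        (g := (y * g * y⁻¹)⁻¹ * g')
        (Subgroup.mul_mem R (Subgroup.inv_mem R (hn _ hg)) hg') ?_)
      rw [show (y * g * y⁻¹)⁻¹ * g' * t * ((y * g * y⁻¹)⁻¹ * g')⁻¹ =
        (y * g * y⁻¹)⁻¹ * (g' * t * g'⁻¹) * (y * g * y⁻¹) by group, e]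
      group
  -- the image of `b`
  obtain ⟨k1, l1, e1⟩ := hcl 1 (Subgroup.one_mem R)
  obtain ⟨k2, l2, e2⟩ := hcl w (h.w_mem L)
  rw [inv_one, mul_one, one_mul] at e1
  rw [h.w_t L, cmul, e1] at e2
  have hyb : y * ι pb * y⁻¹ = ι (pw false (Bool.xor k1 k2) (Bool.xor l1 l2)) := by
    rw [mul_assoc x, mul_right_inj, ← eq_inv_mul_iff_mul_eq, ← map_inv, ← map_mul] at e2
    rw [e2]
    exact congrArg ι ((by decide +kernel : ∀ k1 l1 k2 l2, (pw false k1 l1)⁻¹ * pw false k2 l2 =
      pw false (Bool.xor k1 k2) (Bool.xor l1 l2)) k1 l1 k2 l2)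
  have hzfix : y * ι pz * y⁻¹ = ι pz := by rw [hyz.eq, mul_inv_cancel_right]
  obtain ⟨l, hyb'⟩ : ∃ l, y * ι pb * y⁻¹ = ι (pw false true l) := by
    cases hk : Bool.xor k1 k2
    · exfalso
      rw [hk] at hyb
      cases hl : Bool.xor l1 l2
      · rw [hl, show pw false false false = 1 by decide +kernel, map_one, conj_eq_one_iff,
          ← map_one ι] at hyb
        exact absurd (h.inj hyb) (by decide +kernel)
      · rw [hl, show pw false false true = pz by decide +kernel, ← hzfix] at hyb
        exact absurd (h.inj (mul_left_cancel (mul_right_cancel hyb))) (by decide +kernel)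
    · exact ⟨_, hk ▸ hyb⟩
  -- the moved conjugates form an invariant set of four elements
  set O : Set G := {g | g ∈ R ∧ IsConj t g ∧ ¬ Commute g (ι pb)} with hO
  have hcardO : Nat.card O = 4 := h.card_moved_I L hI
  have hyinv : ∀ g ∈ O, y * g * y⁻¹ ∈ O := by
    rintro g ⟨hg, hgK, hgb⟩
    refine ⟨hn g hg, hgK.trans (isConj_iff.2 ⟨y, rfl⟩), fun hc => hgb ?_⟩
    have hcz := (h.loc_commute L (hn g hg)).2.2
    have hc2 : Commute (y * g * y⁻¹) (y * ι pb * y⁻¹) := by
      rw [hyb']
      cases l
      · rw [show pw false true false = pb by decide +kernel]; exact hc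
      · rw [show pw false true true = pb * pz by decide +kernel, map_mul]; exact hc.mul_right hcz
    exact (commute_conj_iff y).1 hc2
  have hRinv : ∀ r ∈ R, ∀ g ∈ O, r * g * r⁻¹ ∈ O := by
    rintro r hr g ⟨hg, hgK, hgb⟩
    refine ⟨Subgroup.mul_mem _ (Subgroup.mul_mem _ hr hg) (Subgroup.inv_mem _ hr),
      hgK.trans (isConj_iff.2 ⟨r, rfl⟩), fun hc => hgb ?_⟩
    obtain ⟨n, rfl⟩ := h.exists_nf L hg
    obtain ⟨m, rfl⟩ := h.exists_nf L hr
    have hcz := (h.loc_commute L (Subgroup.mul_mem _ (Subgroup.mul_mem _ hr hg)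
      (Subgroup.inv_mem _ hr))).2.2
    refine (commute_conj_iff (nf t ι x w m)).1 ?_
    obtain ⟨i, j, α, β, k, l⟩ := m
    have e : nf t ι x w (i, j, α, β, k, l) * ι pb * (nf t ι x w (i, j, α, β, k, l))⁻¹ =
        ι (pw false true β) := by
      show bp x i * bp w j * bp t α * ι (pw β k l) * ι pb *
        (bp x i * bp w j * bp t α * ι (pw β k l))⁻¹ = _
      rw [show bp x i * bp w j * bp t α * ι (pw β k l) * ι pb *
        (bp x i * bp w j * bp t α * ι (pw β k l))⁻¹ = bp x i * bp w j * bp t α *
          (ι (pw β k l) * ι pb * (ι (pw β k l))⁻¹) * (bp x i * bp w j * bp t α)⁻¹ by group,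
        h.conj_i, (by decide +kernel : ∀ β k l, pw β k l * pb * (pw β k l)⁻¹ = pw false true β) β k l,
        (h.pre_pw L i j α true β).eq, mul_inv_cancel_right]
    rw [e]
    cases β
    · rw [show pw false true false = pb by decide +kernel]; exact hc
    · rw [show pw false true true = pb * pz by decide +kernel, map_mul]; exact hc.mul_right hcz
  set R' := doubled R y hy2 hn' with hR'
  have hR'O : ∀ g ∈ R', ∀ v ∈ O, g * v * g⁻¹ ∈ O := by
    intro g hg v hv
    rcases hg with hg | hg
    · exact hRinv g hg v hv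
    · have h1 := hRinv _ (Subgroup.mul_mem R hg (Subgroup.inv_mem R hy2)) _ (hyinv v hv)
      rwa [show g * y * (y * y)⁻¹ * (y * v * y⁻¹) * (g * y * (y * y)⁻¹)⁻¹ = g * v * g⁻¹ by group]
        at h1
  have htaO : t * ι pa ∈ O := ⟨(h.el_mem L (by decide +kernel)).2, h.ti_iff.2 (by decide),
    fun e => absurd (h.commute_tii.1 e) (by decide +kernel)⟩
  have hcard' : Nat.card R' = 128 := by rw [card_doubled hyR, h.card_loc L]
  have hle := card_le_mul_card_cent O htaO hR'O
  rw [hcard', hcardO] at hle
  obtain ⟨k, -, hkt, -, -, -, hke⟩ := h.exists_move_ta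
  have h144 : Nat.card (centralizer ({t * ι pa, ι pe} : Set G)) = 144 := by
    rw [card_pair_conj (g := k) hkt (by rw [hke.eq, mul_inv_cancel_right] : k * ι pe * k⁻¹ = ι pe)]
    exact h.card_pair_e
  have hd2 : Nat.card ↥(R' ⊓ centralizer ({t * ι pa} : Set G)) ∣ 128 := by
    rw [← hcard']; exact card_dvd_of_le inf_le_left
  have hd3 : Nat.card ↥(R' ⊓ centralizer ({t * ι pa} : Set G)) ∣ 144 := by
    rw [← h144]
    refine card_dvd_of_le fun g hg => mem_pair.2 ⟨mem_centralizer_singleton_iff.1 hg.2, ?_⟩
    rcases hg.1 with hg1 | hg1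
    · exact (h.loc_commute L hg1).1
    · have := (h.loc_commute L hg1).1.mul_left hye.inv_left
      rwa [mul_inv_cancel_right] at this
  have h16 : Nat.card ↥(R' ⊓ centralizer ({t * ι pa} : Set G)) ≤ 16 :=
    (Nat.le_of_dvd (by decide +kernel) (Nat.dvd_gcd hd2 hd3)).trans (by decide +kernel)
  omega

theorem nf_inj {m n : Ix} (e : nf t ι x w m = nf t ι x w n) : m = n :=
  (h.nf_bijective L).1 (Subtype.ext e)

theorem conj_x_nf (i j α β k l : Bool) :
    α = false → Commute (nf t ι x w (i, j, α, β, k, l)) x ∨ w * x ≠ x * w := by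
  intro hα
  by_cases hwx : w * x = x * w
  · left
    subst hα
    refine Commute.mul_left (Commute.mul_left (Commute.mul_left ?_ ?_) (Commute.one_left _))
      (h.x_pw L β k l).symm
    · cases i; exacts [Commute.one_left _, Commute.refl x]
    · cases j; exacts [Commute.one_left _, hwx]
  · exact Or.inr hwx

theorem case_II (hII : w * ι pa * w * ι pa = x) : False := by
  set R := loc t ι with hRdef
  obtain ⟨y, hye, hyz, hyR, hy2, hn, hn', hyc⟩ := h.exists_ext (R := R) le_rfl (h.loc_facts L)
    (h.card_loc' L) (h.card_K_loc_II L hII) (F := 1260) (by norm_num) (by norm_num)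
    (fun p hp => h.el_mem L hp)
  have hel : ∀ p ∈ eight, ι p ∈ R ∧ t * ι p ∈ R := fun p hp => h.el_mem L hp
  obtain ⟨g, hg, hgt⟩ := (h.classify_II L hII (hn _ (h.t_mem_loc L))
    (isConj_iff.2 ⟨y, rfl⟩)).resolve_left (by
      rintro ⟨g, hg, e⟩
      exact hyR (h.mem_of_fix le_rfl (h.loc_facts L) hel hye hyz hy2 hn hg e))
  -- an element of `C(e) ∩ C(z)` normalizing `R` and moving `t` to `t a`
  set y1 := g⁻¹ * y with hy1
  have hy1t : y1 * t * y1⁻¹ = t * ι pa := by
    rw [show y1 * t * y1⁻¹ = g⁻¹ * (y * t * y⁻¹) * g by rw [hy1]; group, ← hgt]; group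
  have hy1e : Commute y1 (ι pe) := (h.loc_commute L hg).1.inv_left.mul_left hye
  have hy1z : Commute y1 (ι pz) := (h.loc_commute L hg).2.2.inv_left.mul_left hyz
  have hy1n : ∀ r ∈ R, y1 * r * y1⁻¹ ∈ R := fun r hr => by
    rw [show y1 * r * y1⁻¹ = g⁻¹ * (y * r * y⁻¹) * g by rw [hy1]; group]
    exact Subgroup.mul_mem _ (Subgroup.mul_mem _ (Subgroup.inv_mem _ hg) (hn r hr)) hg
  have hy1n' : ∀ r ∈ R, y1⁻¹ * r * y1 ∈ R := fun r hr => by
    rw [show y1⁻¹ * r * y1 = y⁻¹ * (g * r * g⁻¹) * y by rw [hy1]; group]
    exact hn' _ (Subgroup.mul_mem _ (Subgroup.mul_mem _ hg hr) (Subgroup.inv_mem _ hg))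
  obtain ⟨k, hk2, hkt, hka, hkz, hkc, hke⟩ := h.exists_move_ta
  have hkinv : k⁻¹ = k := inv_eq_of_mul_eq_one_right hk2
  -- it fixes `c`
  have hy1c : Commute y1 (ι pc) := by
    have hgT : Commute g (ι pT) := by
      rw [pT, map_mul]; exact (h.loc_commute L hg).2.2.mul_right (h.loc_commute L hg).2.1
    rcases hyc with e | e
    · exact (h.loc_commute L hg).2.1.inv_left.mul_left (mul_inv_eq_iff_eq_mul.1 e)
    · exfalso
      have e' : y1 * ι pc * y1⁻¹ = ι pT := by
        rw [show y1 * ι pc * y1⁻¹ = g⁻¹ * (y * ι pc * y⁻¹) * g by rw [hy1]; group, e, mul_assoc,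
          ← hgT.eq, inv_mul_cancel_left]
      have hkT : k * ι pT * k⁻¹ = ι pT := by
        rw [show ι pT = ι pz * ι pc by rw [← map_mul]; rfl, (hkz.mul_right hkc).eq,
          mul_inv_cancel_right]
      have e1 := card_pair_conj hy1t e'
      rw [card_pair_conj hkt hkT, h.card_pair_T, h.card_pair_c] at e1
      omega
  -- the involution `k` normalizes `R`
  have hkat : k * (t * ι pa) * k⁻¹ = t := by
    rw [cmul, hkt, hka.eq, mul_inv_cancel_right, mul_assoc, h.pp pa (by decide), mul_one]
  have hq : k * y1 ∈ R := by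
    obtain ⟨p, hp, e⟩ := h.cent_local (r := k * y1) (mul_inv_eq_iff_eq_mul.1 (by
      rw [show k * y1 * t * (k * y1)⁻¹ = k * (y1 * t * y1⁻¹) * k⁻¹ by group, hy1t, hkat]))
      (hke.mul_left hy1e) (hkc.mul_left hy1c) (hkz.mul_left hy1z)
    rcases e with e | e <;> rw [e]
    exacts [(hel p hp).1, (hel p hp).2]
  have hkn : ∀ r ∈ R, k * r * k⁻¹ ∈ R := fun r hr => by
    rw [show k * r * k⁻¹ = k * y1 * (y1⁻¹ * r * y1) * (k * y1)⁻¹ by group]
    exact Subgroup.mul_mem _ (Subgroup.mul_mem _ hq (hy1n' r hr)) (Subgroup.inv_mem _ hq)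
  have hkn' : ∀ r ∈ R, k⁻¹ * r * k ∈ R := fun r hr => by
    have := hkn r hr; rw [hkinv] at this ⊢; exact this
  have hkR : k ∉ R := fun e => by
    obtain ⟨k', l', e'⟩ := h.loc_fix_four L e
    rw [hkt] at e'
    exact absurd (h.ti_inj e') ((by decide +kernel : ∀ k l, pa ≠ pw false k l) k' l')
  have hcomm := h.II_comm L hII
  have hxn : ∀ i j β k' l', Commute (nf t ι x w (i, j, false, β, k', l')) x := fun i j β k' l' =>
    (h.conj_x_nf L i j false β k' l' rfl).resolve_right (fun e => e hcomm.eq)
  -- the images of `b` and `x`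
  obtain ⟨l, hkb⟩ : ∃ l, k * ι pb * k = x * ι (pw false true l) := by
    have hmemw : k * (w * t * w⁻¹) * k⁻¹ ∈ R :=
      hkn _ (Subgroup.mul_mem _ (Subgroup.mul_mem _ (h.w_mem L) (h.t_mem_loc L))
        (Subgroup.inv_mem _ (h.w_mem L)))
    have hKw : IsConj t (k * (w * t * w⁻¹) * k⁻¹) := isConj_iff.2 ⟨k * w, by group⟩
    obtain ⟨⟨i, j, α, β, kk, ll⟩, hn3⟩ := h.exists_nf L hmemw
    rw [← hn3] at hKw
    have hgood := (h.K_nf_II L hII _).1 hKw
    rw [h.w_t L] at hn3
    cases β
    · exfalso
      cases i <;> cases j <;> cases α <;> simp [goodII] at hgood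
      change (1 : G) * 1 * t * ι (pw false kk ll) = _ at hn3
      rw [one_mul, one_mul] at hn3
      have e : k * (t * ι (pw false kk ll)) * k⁻¹ = t * ι pb := by
        rw [hn3, hkinv, show k * (k * (t * ι pb) * k) * k = k * k * (t * ι pb) * (k * k) by group,
          hk2, one_mul, mul_one]
      obtain ⟨g', hg', eg⟩ := h.orbit_t L kk ll
      rw [← eg, show k * (g' * t * g'⁻¹) * k⁻¹ =
        k * g' * k⁻¹ * (k * t * k⁻¹) * (k * g' * k⁻¹)⁻¹ by group, hkt] at e
      have hg2 := hkn g' hg'
      obtain ⟨k', l', e2⟩ := h.loc_fix_four L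
        (Subgroup.mul_mem R (Subgroup.inv_mem R hg2) (h.w_mem L))
      rw [show (k * g' * k⁻¹)⁻¹ * w * t * ((k * g' * k⁻¹)⁻¹ * w)⁻¹ =
        (k * g' * k⁻¹)⁻¹ * (w * t * w⁻¹) * (k * g' * k⁻¹) by group, h.w_t L, ← e] at e2
      rw [show (k * g' * k⁻¹)⁻¹ * (k * g' * k⁻¹ * (t * ι pa) * (k * g' * k⁻¹)⁻¹) * (k * g' * k⁻¹) =
        t * ι pa by group] at e2
      exact absurd (h.ti_inj e2) ((by decide +kernel : ∀ k l, pa ≠ pw false k l) k' l')
    · cases j
      swap
      · simp [goodII] at hgood
      cases α
      · simp [goodII] at hgood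
      have hki : kk = i := by simpa [goodII] using hgood
      subst hki
      change bp x kk * 1 * t * ι (pw true kk ll) = _ at hn3
      rw [mul_one, cmul, hkt, hkinv] at hn3
      cases kk
      · exfalso
        change 1 * t * ι (pw true false ll) = _ at hn3
        rw [one_mul, mul_assoc t (ι pa), mul_right_inj, ← inv_mul_eq_iff_eq_mul, ← map_inv,
          ← map_mul, (by decide +kernel : ∀ l, pa⁻¹ * pw true false l = pw false false l) ll] at hn3
        have : ι pb = ι (pw false false ll) := by
          have e := congrArg (fun v => k * v * k) hn3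
          rw [show k * (k * ι pb * k) * k = k * k * ι pb * (k * k) by group, hk2, one_mul,
            mul_one] at e
          rw [← e]
          cases ll
          · rw [show pw false false false = 1 by decide +kernel, map_one, mul_one, hk2]
          · rw [show pw false false true = pz by decide +kernel, hkz.eq, mul_assoc, hk2, mul_one]
        exact absurd (h.inj this) ((by decide +kernel : ∀ l, pb ≠ pw false false l) ll)
      · refine ⟨ll, ?_⟩
        change x * t * ι (pw true true ll) = _ at hn3
        calc k * ι pb * k = (t * ι pa)⁻¹ * (t * ι pa * (k * ι pb * k)) := by group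
          _ = (t * ι pa)⁻¹ * (x * t * ι (pw true true ll)) := by rw [hn3]
          _ = ι pa * (t * x * t) * ι (pw true true ll) := by
            rw [mul_inv_rev, inv_eq_of_mul_eq_one_right h.tt,
              inv_eq_of_mul_eq_one_right (h.pp pa (by decide))]
            simp only [mul_assoc]
          _ = x * ι (pw false true ll) := by
            rw [h.t_x_t L, ← mul_assoc, ← L.xa.eq, mul_assoc, mul_assoc, ← map_mul, ← map_mul,
              (by decide +kernel : ∀ l, pa * (pz * pw true true l) = pw false true l) ll]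
  have hkx : Commute k x := by
    have e := congrArg (fun v => k * v * k) hkb
    rw [show k * (k * ι pb * k) * k = k * k * ι pb * (k * k) by group, hk2, one_mul, mul_one,
      show k * (x * ι (pw false true l)) * k = k * x * k * (k * ι (pw false true l) * k) by
        rw [show k * x * k * (k * ι (pw false true l) * k) =
          k * x * (k * k) * ι (pw false true l) * k by group, hk2, mul_one]; group] at e
    have e3 : k * ι (pw false true l) * k = x * ι pb := by
      cases l
      · rw [show pw false true false = pb by decide +kernel, hkb,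
          show pw false true false = pb by decide +kernel]
      · rw [show pw false true true = pb * pz by decide +kernel, map_mul,
          show k * (ι pb * ι pz) * k = k * ι pb * (ι pz * k) by group, ← hkz.eq, ← mul_assoc, hkb,
          show pw false true true = pb * pz by decide +kernel, map_mul, ← mul_assoc,
          mul_assoc _ (ι pz) (ι pz), h.pp pz (by decide), mul_one]
    rw [e3, ← mul_assoc, eq_comm, mul_eq_right, ← h.x_inv L, ← eq_inv_iff_mul_eq_one,
      inv_inv] at e
    show k * x = x * k
    rw [h.x_inv L] at e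
    calc k * x = k * x * (k * k) := by rw [hk2, mul_one]
      _ = k * x * k * k := by group
      _ = x * k := by rw [e]
  -- the coset of `k` contains no conjugate of `t`
  have hcoset : ∀ r ∈ R, ¬ IsConj t (r * k) := by
    intro r hr hrK
    have hsq := h.sq_one hrK
    obtain ⟨⟨i, j, α, β, kk, ll⟩, rfl⟩ := h.exists_nf L hr
    set r := nf t ι x w (i, j, α, β, kk, ll) with hrdef
    have hkrk : k * r * k = r⁻¹ := eq_inv_of_mul_eq_one_right (by rw [← hsq]; group)
    -- `α = 0`
    have hα : α = false := by
      have hβ := h.commute_b_iff L (i, j, α, β, kk, ll)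
      simp only at hβ
      have hiff : Commute r (ι pb) ↔ Commute r (x * ι pb) := by
        have hrz := (h.loc_commute L hr).2.2
        constructor
        · intro e
          have e1 := commute_conj e.inv_left k
          rw [hkinv, ← hkrk, show k * (k * r * k) * k = k * k * r * (k * k) by group, hk2, one_mul,
            mul_one, hkb] at e1
          cases l
          · rwa [show pw false true false = pb by decide +kernel] at e1
          · rw [show pw false true true = pb * pz by decide +kernel, map_mul] at e1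
            have := e1.mul_right hrz
            rwa [mul_assoc x, mul_assoc (ι pb), h.pp pz (by decide), mul_one] at this
        · intro e
          have e0 : Commute r (x * ι (pw false true l)) := by
            cases l
            · rwa [show pw false true false = pb by decide +kernel]
            · rw [show pw false true true = pb * pz by decide +kernel, map_mul, ← mul_assoc]
              exact e.mul_right hrz
          rw [← hkb] at e0
          have e1 := commute_conj e0.inv_left k
          rw [hkinv, ← hkrk, show k * (k * r * k) * k = k * k * r * (k * k) by group,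
            show k * (k * ι pb * k) * k = k * k * ι pb * (k * k) by group, hk2, one_mul,
            mul_one] at e1
          simpa using e1
      cases α
      · rfl
      · exfalso
        cases β
        · have e := hiff.1 (hβ.2 rfl)
          have e' : Commute r x := by
            have := e.mul_right (hβ.2 rfl)
            rwa [mul_assoc, h.pp pb (by decide +kernel), mul_one] at this
          have h1 := h.x_t L
          have e'' : Commute t x := by
            have hpre : Commute (bp x i * bp w j) x := by
              refine Commute.mul_left ?_ ?_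
              · cases i; exacts [Commute.one_left _, Commute.refl x]
              · cases j; exacts [Commute.one_left _, hcomm]
            have hall := (hpre.inv_left.mul_left e').mul_left (h.x_pw L false kk ll).symm.inv_left
            rwa [show (bp x i * bp w j)⁻¹ * r * (ι (pw false kk ll))⁻¹ = t by
              rw [hrdef]; show (bp x i * bp w j)⁻¹ * (bp x i * bp w j * t * ι (pw false kk ll)) *
                (ι (pw false kk ll))⁻¹ = t
              group] at hall
          rw [← e''.eq, mul_inv_cancel_right] at h1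
          exact h.ne_one_i L (by decide +kernel) (left_eq_mul.1 h1)
        · have hxb : Commute r (x * ι pb) := by
            refine mul_inv_eq_iff_eq_mul.1 ?_
            have hpre : Commute (bp x i * bp w j) (x * ι pb * ι pz * ι pz) := by
              refine Commute.mul_left ?_ ?_
              · cases i
                · exact Commute.one_left _
                · exact (((Commute.refl x).mul_right L.xb).mul_right L.xz).mul_right L.xz
              · cases j
                · exact Commute.one_left _
                · exact (((hcomm : Commute w x).mul_right L.ub).mul_right L.uz).mul_right L.uz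
            rw [hrdef]
            show bp x i * bp w j * t * ι (pw true kk ll) * (x * ι pb) *
              (bp x i * bp w j * t * ι (pw true kk ll))⁻¹ = x * ι pb
            rw [show bp x i * bp w j * t * ι (pw true kk ll) * (x * ι pb) *
              (bp x i * bp w j * t * ι (pw true kk ll))⁻¹ = bp x i * bp w j *
              (t * (ι (pw true kk ll) * (x * ι pb) * (ι (pw true kk ll))⁻¹) * t⁻¹) *
              (bp x i * bp w j)⁻¹ by group]
            rw [cmul (ι (pw true kk ll)) x, (h.x_pw L true kk ll).symm.eq, mul_inv_cancel_right,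
              h.conj_i,
              (by decide +kernel : ∀ k l, pw true k l * pb * (pw true k l)⁻¹ = pz * pb) kk ll, cmul t x,
              inv_eq_of_mul_eq_one_right h.tt, h.t_x_t L,
              show t * ι (pz * pb) * t = ι (pz * pb) by
                rw [← (h.comm _).eq, mul_assoc, h.tt, mul_one],
              mul_assoc x (ι pz), ← map_mul, show pz * (pz * pb) = pb by decide +kernel]
            have hp2 : Commute (bp x i * bp w j) (x * ι pb) := by
              rwa [mul_assoc _ (ι pz) (ι pz), h.pp pz (by decide), mul_one] at hpre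
            rw [hp2.eq, mul_inv_cancel_right]
          exact absurd (hβ.1 (hiff.2 hxb)) (by decide)
    subst hα
    have hrx : Commute r x := hxn i j β kk ll
    have hgx : Commute (r * k) x := hrx.mul_left hkx
    have hgz : Commute (r * k) (ι pz) := (h.loc_commute L hr).2.2.mul_left hkz
    have hgc : Commute (r * k) (ι pc) := (h.loc_commute L hr).2.1.mul_left hkc
    -- a fourth involution centralized by `r k`
    set v1 := nf t ι x w (i, j, false, false, kk, ll) with hv1
    have hv1R : v1 ∈ R := h.nf_mem L _
    have hrv : r = v1 * ι (bp pa β) := by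
      show bp x i * bp w j * 1 * ι (pw β kk ll) = bp x i * bp w j * 1 * ι (pw false kk ll) * _
      rw [mul_assoc _ (ι (pw false kk ll)), ← map_mul,
        (by decide +kernel : ∀ β k l, pw false k l * bp pa β = pw β k l) β kk ll]
    have hv1sq : v1 * v1 = 1 := by
      show bp x i * bp w j * 1 * ι (pw false kk ll) * (bp x i * bp w j * 1 * ι (pw false kk ll)) = 1
      have hc : Commute (bp x i * bp w j * 1) (ι (pw false kk ll)) := h.pre_pw L i j false kk ll
      rw [hc.symm.mul_mul_mul_comm, h.pp _ ((by decide +kernel : ∀ k l,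
        pw false k l * pw false k l = 1) kk ll), mul_one]
      cases i <;> cases j <;> simp only [bp, one_mul, mul_one, L.xx, L.uu]
      rw [(hcomm : Commute w x).mul_mul_mul_comm, L.xx, L.uu, mul_one]
    have hA2 : ι (bp pa β) * ι (bp pa β) = 1 :=
      h.pp _ ((by decide +kernel : ∀ β, bp pa β * bp pa β = 1) β)
    have hkA : Commute k (ι (bp pa β)) := by
      cases β
      · show Commute k (ι 1); rw [map_one]; exact Commute.one_right _
      · exact hka
    have hkv1 : k * v1 * k = ι (bp pa β) * v1 * ι (bp pa β) := by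
      have e : k * r * k = r⁻¹ := hkrk
      rw [hrv, mul_inv_rev, inv_eq_of_mul_eq_one_right hv1sq, inv_eq_of_mul_eq_one_right hA2,
        ← mul_assoc k, mul_assoc _ (ι (bp pa β)) k, ← hkA.eq, ← mul_assoc] at e
      rw [← e, mul_assoc _ (ι (bp pa β)) (ι (bp pa β)), hA2, mul_one]
    have hgv : Commute (r * k) v1 := by
      show r * k * v1 = v1 * (r * k)
      calc r * k * v1 = r * (k * v1 * k) * k := by
            simp only [mul_assoc]; rw [hk2, mul_one]
        _ = v1 * (ι (bp pa β) * ι (bp pa β)) * v1 * ι (bp pa β) * k := by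
            rw [hkv1, hrv]; simp only [mul_assoc]
        _ = ι (bp pa β) * k := by rw [hA2, mul_one, hv1sq, one_mul]
        _ = v1 * (r * k) := by
            rw [hrv, mul_assoc v1, ← mul_assoc v1 v1, hv1sq, one_mul]
    obtain ⟨w4, hw4R, hw4sq, hw4x, hw4g, hw4ne⟩ : ∃ w4, w4 ∈ R ∧ w4 * w4 = 1 ∧ Commute w4 x ∧
        Commute (r * k) w4 ∧ ∀ i' l', w4 ≠ nf t ι x w (i', false, false, false, false, l') := by
      by_cases hjk : j = false ∧ kk = false
      · refine ⟨ι pa, (hel pa (by decide +kernel)).1, h.pp pa (by decide), L.xa.symm, ?_, ?_⟩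
        · refine Commute.mul_left ?_ hka
          obtain ⟨rfl, rfl⟩ := hjk
          refine Commute.mul_left (Commute.mul_left (Commute.mul_left ?_ (Commute.one_left _))
            (Commute.one_left _)) (h.commute_ii.2 ((by decide +kernel : ∀ β l,
              pw β false l * pa = pa * pw β false l) β ll))
          cases i; exacts [Commute.one_left _, L.xa]
        · intro i' l' e
          have e' : nf t ι x w (false, false, false, true, false, false) = ι pa := by
            show (1 : G) * 1 * 1 * ι (pw true false false) = ι pa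
            rw [one_mul, one_mul, one_mul, show pw true false false = pa by decide +kernel]
          rw [← e'] at e
          have := h.nf_inj L e
          simp at this
      · refine ⟨v1, hv1R, hv1sq, hxn i j false kk ll, hgv, fun i' l' e => hjk ?_⟩
        have := h.nf_inj L e
        simp at this
        exact ⟨this.2.1, this.2.2.1⟩
    -- five commuting involutions
    have hz1 := h.pp pz (by decide)
    let X1 := doubled (⊥ : Subgroup G) (ι pz) (by rw [hz1]; exact Subgroup.one_mem _)
      (fun v hv => by rw [mem_bot.1 hv]; simp)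
    have hX1 : ∀ v ∈ X1, v = 1 ∨ v = ι pz := fun v hv => hv.imp mem_bot.1 fun e => by
      rw [← inv_eq_of_mul_eq_one_right hz1]; exact eq_inv_of_mul_eq_one_left (mem_bot.1 e)
    have c1 : ∀ v ∈ X1, Commute x v := fun v hv => by
      rcases hX1 v hv with rfl | rfl
      exacts [Commute.one_right _, L.xz]
    let X2 := doubled X1 x (by rw [L.xx]; exact Subgroup.one_mem _)
      (fun v hv => by rwa [mul_assoc, (c1 v hv).symm.eq, inv_mul_cancel_left])
    have hX2 : ∀ v ∈ X2, v ∈ X1 ∨ ∃ v' ∈ X1, v = v' * x := fun v hv => hv.imp id fun e =>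
      ⟨v * x, e, by rw [mul_assoc, L.xx, mul_one]⟩
    have c2 : ∀ u, Commute u (ι pz) → Commute u x → ∀ v ∈ X2, Commute u v := fun u hu hux v hv => by
      have h1 : ∀ v ∈ X1, Commute u v := fun v hv => by
        rcases hX1 v hv with rfl | rfl
        exacts [Commute.one_right _, hu]
      rcases hX2 v hv with hv | ⟨v', hv', rfl⟩
      exacts [h1 v hv, (h1 v' hv').mul_right hux]
    have hw4z := (h.loc_commute L hw4R).2.2
    let X3 := doubled X2 w4 (by rw [hw4sq]; exact Subgroup.one_mem _)
      (fun v hv => by rwa [mul_assoc, (c2 w4 hw4z hw4x v hv).symm.eq, inv_mul_cancel_left])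
    have c3 : ∀ u, Commute u (ι pz) → Commute u x → Commute u w4 → ∀ v ∈ X3, Commute u v :=
      fun u hu hux huw v hv => by
      rcases hv with hv | hv
      · exact c2 u hu hux v hv
      · have := (c2 u hu hux _ hv).mul_right huw
        rwa [mul_assoc, hw4sq, mul_one] at this
    have hcz : Commute (ι pc) (ι pz) := h.commute_ii.2 (by decide +kernel)
    have hcw : Commute (ι pc) w4 := (h.loc_commute L hw4R).2.1.symm
    let X4 := doubled X3 (ι pc) (by rw [h.pc_sq]; exact Subgroup.one_mem _)
      (fun v hv => by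
        rwa [mul_assoc, (c3 (ι pc) hcz L.xc.symm hcw v hv).symm.eq, inv_mul_cancel_left])
    have c4 : ∀ u, Commute u (ι pz) → Commute u x → Commute u w4 → Commute u (ι pc) →
        ∀ v ∈ X4, Commute u v := fun u hu hux huw huc v hv => by
      rcases hv with hv | hv
      · exact c3 u hu hux huw v hv
      · have := (c3 u hu hux huw _ hv).mul_right huc
        rwa [mul_assoc, h.pc_sq, mul_one] at this
    let X5 := doubled X4 (r * k) (by rw [hsq]; exact Subgroup.one_mem _)
      (fun v hv => by
        rwa [mul_assoc, (c4 (r * k) hgz hgx hw4g hgc v hv).symm.eq, inv_mul_cancel_left])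
    have c5 : ∀ u, Commute u (ι pz) → Commute u x → Commute u w4 → Commute u (ι pc) →
        Commute u (r * k) → ∀ v ∈ X5, Commute u v := fun u hu hux huw huc hug v hv => by
      rcases hv with hv | hv
      · exact c4 u hu hux huw huc v hv
      · have := (c4 u hu hux huw huc _ hv).mul_right hug
        rwa [mul_assoc, hsq, mul_one] at this
    have hab : ∀ a ∈ X5, ∀ b ∈ X5, Commute a b := by
      intro a ha b hb
      refine c5 a ?_ ?_ ?_ ?_ ?_ b hb
      · exact (c5 (ι pz) (Commute.refl _) L.xz.symm hw4z.symm hcz.symm hgz.symm a ha).symm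
      · exact (c5 x L.xz (Commute.refl _) hw4x.symm L.xc hgx.symm a ha).symm
      · exact (c5 w4 hw4z hw4x (Commute.refl _) hcw.symm hw4g.symm a ha).symm
      · exact (c5 (ι pc) hcz L.xc.symm hcw (Commute.refl _) hgc.symm a ha).symm
      · exact (c5 (r * k) hgz hgx hw4g hgc (Commute.refl _) a ha).symm
    have hX1R : X1 ≤ R := fun v hv => by
      rcases hX1 v hv with rfl | rfl
      exacts [Subgroup.one_mem _, (hel pz (by decide +kernel)).1]
    have hX2R : X2 ≤ R := fun v hv => by
      rcases hX2 v hv with hv | ⟨v', hv', rfl⟩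
      exacts [hX1R hv, Subgroup.mul_mem _ (hX1R hv') (h.x_mem L)]
    have hX3R : X3 ≤ R := fun v hv => by
      rcases hv with hv | hv
      · exact hX2R hv
      · have := Subgroup.mul_mem R (hX2R hv) hw4R
        rwa [mul_assoc, hw4sq, mul_one] at this
    have n1 : ι pz ∉ (⊥ : Subgroup G) := fun e =>
      h.ne_one_i L (by decide +kernel) (mem_bot.1 e)
    have hnfx : ∀ i' l', nf t ι x w (i', false, false, false, false, l') = bp x i' * ι (bp pz l') := by
      intro i' l'
      show bp x i' * 1 * 1 * ι (pw false false l') = _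
      rw [mul_one, mul_one, (by decide +kernel : ∀ l, pw false false l = bp pz l) l']
    have n2 : x ∉ X1 := fun e => by
      have e2 : ∃ l', x = nf t ι x w (false, false, false, false, false, l') := by
        rcases hX1 x e with e | e
        · exact ⟨false, by rw [hnfx, e]; simp [bp]⟩
        · exact ⟨true, by rw [hnfx, e]; simp [bp]⟩
      obtain ⟨l', e2⟩ := e2
      have e3 : nf t ι x w (true, false, false, false, false, false) = x := by
        rw [hnfx]; simp [bp]
      have := h.nf_inj L (e3.trans e2)
      simp at this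
    have n3 : w4 ∉ X2 := fun e => by
      rcases hX2 w4 e with hv | ⟨v', hv', e'⟩
      · rcases hX1 _ hv with e' | e'
        · exact hw4ne false false (by rw [hnfx, e']; simp [bp])
        · exact hw4ne false true (by rw [hnfx, e']; simp [bp])
      · rcases hX1 _ hv' with rfl | rfl
        · exact hw4ne true false (by rw [hnfx, e']; simp [bp])
        · exact hw4ne true true (by rw [hnfx, e', ← L.xz.eq]; simp [bp])
    have n4 : ι pc ∉ X3 := fun e => h.pc_not_commute_pe (h.loc_commute L (hX3R e)).1
    have n5 : r * k ∉ X4 := fun e => by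
      rcases e with e | e
      · exact hkR (by
          have := Subgroup.mul_mem R (Subgroup.inv_mem R hr) (hX3R e)
          rwa [inv_mul_cancel_left] at this)
      · refine h.pc_not_commute_pe ?_
        have e1 := (h.loc_commute L (hX3R e)).1
        have e2 := ((h.loc_commute L hr).1.mul_left hke).inv_left.mul_left e1
        rwa [inv_mul_cancel_left] at e2
    refine h.no_abelian_thirtytwo (X := X5) ?_ hrK self_mem_doubled hab
    rw [card_doubled n5, card_doubled n4, card_doubled n3, card_doubled n2, card_doubled n1,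
      card_bot]
  -- the extension is impossible
  have hk2R : k * k ∈ R := by rw [hk2]; exact Subgroup.one_mem R
  set R' := doubled R k hk2R hkn' with hR'
  have hR'f : ∀ r ∈ R', Commute r (ι pe) ∧ Commute r (ι pc) ∧ Commute r (ι pz) := by
    intro r hr
    rcases hr with hr | hr
    · exact h.loc_commute L hr
    · obtain ⟨a1, a2, a3⟩ := h.loc_commute L hr
      refine ⟨?_, ?_, ?_⟩
      · have := a1.mul_left hke; rwa [mul_assoc, hk2, mul_one] at this
      · have := a2.mul_left hkc; rwa [mul_assoc, hk2, mul_one] at this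
      · have := a3.mul_left hkz; rwa [mul_assoc, hk2, mul_one] at this
  have hKR' : ∀ r ∈ R', IsConj t r → r ∈ R := by
    intro r hr hrK
    rcases hr with hr | hr
    · exact hr
    · refine absurd ?_ (hcoset _ hr)
      rwa [mul_assoc, hk2, mul_one]
  have hcardK : Nat.card {g : G // g ∈ R' ∧ IsConj t g} = 8 := by
    rw [← h.card_K_loc_II L hII]
    exact Nat.card_congr (Equiv.subtypeEquivRight fun v =>
      ⟨fun e => ⟨hKR' v e.1 e.2, e.2⟩, fun e => ⟨le_doubled e.1, e.2⟩⟩)
  obtain ⟨z2, hze, hzz, hzR, hz2, hzn, -, -⟩ := h.exists_ext (R := R') le_doubled hR'f (k := 7)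
    (by rw [card_doubled hkR, h.card_loc L]; rfl) hcardK (F := 630) (by norm_num) (by norm_num)
    (fun p hp => ⟨le_doubled (hel p hp).1, le_doubled (hel p hp).2⟩)
  have hel' : ∀ p ∈ eight, ι p ∈ R' ∧ t * ι p ∈ R' :=
    fun p hp => ⟨le_doubled (hel p hp).1, le_doubled (hel p hp).2⟩
  have hzK : IsConj t (z2 * t * z2⁻¹) := isConj_iff.2 ⟨z2, rfl⟩
  rcases h.classify_II L hII (hKR' _ (hzn _ (le_doubled (h.t_mem_loc L))) hzK) hzK with
    ⟨g2, hg2, e⟩ | ⟨g2, hg2, e⟩
  · exact hzR (h.mem_of_fix le_doubled hR'f hel' hze hzz hz2 hzn (le_doubled hg2) e)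
  · refine hzR (h.mem_of_fix le_doubled hR'f hel' hze hzz hz2 hzn
      (g := g2 * k) (Subgroup.mul_mem R' (le_doubled hg2) self_mem_doubled) ?_)
    rw [show g2 * k * t * (g2 * k)⁻¹ = g2 * (k * t * k⁻¹) * g2⁻¹ by group, hkt, e]

end Four

/-- There is no such configuration. -/
theorem Hyp.false {G : Type u} [Group G] [Finite G] {t : G} {ι : Q →* G} (h : Hyp t ι) :
    False := by
  obtain ⟨ι', h', htc, hc⟩ := h.exists_four
  have h4 : Four t ι' := ⟨h', htc, hc⟩
  obtain ⟨x, w, L⟩ := h4.exists_lifts
  rcases L.dich with hII | hI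
  · exact h4.case_II L hII
  · exact h4.case_I L hI

end CfsgLib.Invol.TwoTimesSSeven
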