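import Cfsg.Agent.Lib.Invol.TwoTimesSSeven.Shape
import Cfsg.Agent.Lib.Perm.Groups.AltAut

/-!
# An involution with centralizer `2 × S₇`: an element moving `t` to `t a` inside `C(e)`
-/

set_option autoImplicit false
set_option linter.unusedSectionVars false
set_option maxRecDepth 20000

namespace CfsgLib.Invol.TwoTimesSSeven

open Subgroup Equiv CfsgLib.Invol

universe u

/-- `t c` is conjugate to `t`, and `c` is not. -/
structure Four {G : Type u} [Group G] (t : G) (ι : Q →* G) : Prop extends Hyp t ι where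
  tc : IsConj t (t * ι pc)
  c_notK : ¬ IsConj t (ι pc)

section General

variable {G : Type u} [Group G]

theorem commute_conj {x y : G} (h : Commute x y) (g : G) :
    Commute (g * x * g⁻¹) (g * y * g⁻¹) := h.map (MulAut.conj g).toMonoidHom

theorem cmul (g x y : G) : g * (x * y) * g⁻¹ = g * x * g⁻¹ * (g * y * g⁻¹) := by group

theorem commute_conj_iff {x y : G} (g : G) :
    Commute (g * x * g⁻¹) (g * y * g⁻¹) ↔ Commute x y := by
  refine ⟨fun e => ?_, fun e => commute_conj e g⟩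
  have e1 := commute_conj e g⁻¹
  rwa [show g⁻¹ * (g * x * g⁻¹) * g⁻¹⁻¹ = x by group,
    show g⁻¹ * (g * y * g⁻¹) * g⁻¹⁻¹ = y by group] at e1

theorem mem_pair {x y w : G} :
    w ∈ centralizer ({x, y} : Set G) ↔ Commute w x ∧ Commute w y := by
  simp only [mem_centralizer_iff, Set.mem_insert_iff, Set.mem_singleton_iff, forall_eq_or_imp,
    forall_eq]
  exact and_congr ⟨fun e => e.symm, fun e => e.symm⟩ ⟨fun e => e.symm, fun e => e.symm⟩

/-- Conjugate pairs have centralizers of the same order. -/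
theorem card_pair_conj {g x y x' y' : G} (hx : g * x * g⁻¹ = x') (hy : g * y * g⁻¹ = y') :
    Nat.card (centralizer ({x', y'} : Set G)) = Nat.card (centralizer ({x, y} : Set G)) := by
  refine (Nat.card_congr (Equiv.subtypeEquiv (MulAut.conj g).toEquiv fun w => ?_)).symm
  rw [mem_pair, mem_pair]
  show _ ↔ Commute (g * w * g⁻¹) x' ∧ Commute (g * w * g⁻¹) y'
  rw [← hx, ← hy]
  exact and_congr (commute_conj_iff g).symm (commute_conj_iff g).symm

end General

theorem commute_pc_of_five' {p : Q} (h4 : p 4 = 4) (h5 : p 5 = 5) : p * pc = pc * p := by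
  have := Equiv.mul_swap_eq_swap_mul p 4 5
  rwa [h4, h5] at this

namespace Four

variable {G : Type u} [Group G] [Finite G] {t : G} {ι : Q →* G} (h : Four t ι)
include h

theorem i_notK (p : Q) : ¬ IsConj t (ι p) := by
  intro hp
  have hsq := h.sq_of_isConj_i hp
  by_cases h1 : p = 1
  · rw [h1, map_one] at hp; exact h.not_isConj_one hp
  rcases invol_cases hsq h1 with e | e | e
  · exact h.c_notK (hp.trans (h.isConj_i (e.symm.trans (isConj_iff.2 ⟨sa, by decide +kernel⟩))))
  · exact h.z_notK (hp.trans (h.isConj_i e.symm))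
  · exact h.c_notK (h.pc_iff_pT.2 (hp.trans (h.isConj_i e.symm)))

theorem ti_iff {p : Q} : IsConj t (t * ι p) ↔ p * p = 1 := by
  refine ⟨h.sq_of_isConj_ti, fun hsq => ?_⟩
  by_cases h1 : p = 1
  · rw [h1, map_one, mul_one]
  rcases invol_cases hsq h1 with e | e | e
  · exact h.tc.trans (h.isConj_ti ((isConj_iff.2 ⟨sa, by decide +kernel⟩ : IsConj pc pa).trans e))
  · exact h.isConj_tz.trans (h.isConj_ti e)
  · exact (h.ti_pc_iff_pT.1 h.tc).trans (h.isConj_ti e)

theorem K_mul {k y : G} (hk : IsConj t k) (hy : y * y = 1) (hyK : ¬ IsConj t y)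
    (hc : Commute k y) : IsConj t (k * y) := by
  obtain ⟨g, rfl⟩ := isConj_iff.1 hk
  have hyt : Commute (g⁻¹ * y * g) t := by
    have := (commute_conj hc g⁻¹).symm
    simpa [mul_assoc] using this
  obtain ⟨p, e | e⟩ := h.decomp _ hyt
  · have hp : p * p = 1 := h.inj (by
      rw [map_mul, ← e, map_one, show g⁻¹ * y * g * (g⁻¹ * y * g) = g⁻¹ * (y * y) * g by group, hy]
      group)
    refine (h.ti_iff.2 hp).trans (isConj_iff.2 ⟨g, ?_⟩)
    rw [← e]; group
  · refine absurd ?_ hyK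
    have hp : p * p = 1 := h.inj (by
      rw [map_one, ← h.mul_tt, ← e,
        show g⁻¹ * y * g * (g⁻¹ * y * g) = g⁻¹ * (y * y) * g by group, hy]
      group)
    refine (h.ti_iff.2 hp).trans (isConj_iff.2 ⟨g, ?_⟩)
    rw [← e]; group

theorem K_mul_notMem {k y : G} (hk : IsConj t k) (hy : IsConj t y) (hc : Commute k y) :
    ¬ IsConj t (k * y) := by
  obtain ⟨g, rfl⟩ := isConj_iff.1 hk
  have hyt : Commute (g⁻¹ * y * g) t := by
    have := (commute_conj hc g⁻¹).symm
    simpa [mul_assoc] using this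
  have hy' : IsConj t (g⁻¹ * y * g) := hy.trans (isConj_iff.2 ⟨g⁻¹, by rw [inv_inv]⟩)
  obtain ⟨p, e | e⟩ := h.decomp _ hyt
  · exact absurd (e ▸ hy') (h.i_notK p)
  · intro hky
    refine h.i_notK p (hky.trans (isConj_iff.2 ⟨g⁻¹, ?_⟩))
    have e1 : ι p = t * (g⁻¹ * y * g) := by rw [e, ← mul_assoc, h.tt, one_mul]
    rw [e1]; group

theorem mul_iff {k y : G} (hy : y * y = 1) (hyK : ¬ IsConj t y) (hc : Commute k y) :
    IsConj t (k * y) ↔ IsConj t k := by
  refine ⟨fun e => ?_, fun e => h.K_mul e hy hyK hc⟩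
  have := h.K_mul e hy hyK (hc.mul_left (Commute.refl y))
  rwa [mul_assoc, hy, mul_one] at this

theorem not_isConj_conj_i (g : G) (p : Q) : ¬ IsConj t (g * ι p * g⁻¹) := fun e =>
  h.i_notK p (e.trans (isConj_iff.2 ⟨g⁻¹, by group⟩))

theorem card_pair (p : Q) : Nat.card (centralizer ({t, ι p} : Set G)) =
    2 * Nat.card (centralizer ({p} : Set Q)) := by
  classical
  let f : Bool × ↥(centralizer ({p} : Set Q)) → ↥(centralizer ({t, ι p} : Set G)) := fun x =>
    ⟨(if x.1 then t * ι x.2 else ι x.2), mem_pair.2 ⟨(h.el_comm (x.1, x.2.1)).symm, by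
      have hq := mem_centralizer_singleton_iff.1 x.2.2
      split_ifs
      · exact h.commute_tii.2 hq
      · exact h.commute_ii.2 hq⟩⟩
  have hf : Function.Bijective f := by
    refine ⟨fun x y e => ?_, fun y => ?_⟩
    · have := h.el_inj (a₁ := (x.1, x.2.1)) (a₂ := (y.1, y.2.1)) (congrArg Subtype.val e)
      simp only [Prod.mk.injEq] at this
      exact Prod.ext this.1 (Subtype.ext this.2)
    · obtain ⟨y, hy⟩ := y
      obtain ⟨h1, h2⟩ := mem_pair.1 hy
      obtain ⟨q, rfl | rfl⟩ := h.decomp y h1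
      · exact ⟨(false, ⟨q, mem_centralizer_singleton_iff.2 (h.commute_ii.1 h2)⟩), rfl⟩
      · exact ⟨(true, ⟨q, mem_centralizer_singleton_iff.2 (h.commute_tii.1 h2)⟩), rfl⟩
  rw [← Nat.card_eq_of_bijective f hf, Nat.card_prod, Nat.card_eq_fintype_card (α := Bool),
    Fintype.card_bool]

theorem card_pair_c : Nat.card (centralizer ({t, ι pc} : Set G)) = 480 := by
  rw [h.card_pair, card_centralizer_pc]

theorem card_pair_T : Nat.card (centralizer ({t, ι pT} : Set G)) = 96 := by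
  rw [h.card_pair, card_centralizer_pT]

theorem card_pair_e : Nat.card (centralizer ({t, ι pe} : Set G)) = 144 := by
  rw [h.card_pair, card_centralizer_pe]

theorem zT : ι pz * ι pT = ι pc := by
  rw [← map_mul, show pz * pT = pc by decide +kernel]

theorem pair_tc : centralizer ({t * ι pc, ι pc} : Set G) = centralizer ({t, ι pc} : Set G) := by
  ext w
  rw [mem_pair, mem_pair]
  refine ⟨fun e => ⟨?_, e.2⟩, fun e => ⟨e.1.mul_right e.2, e.2⟩⟩
  have := e.1.mul_right e.2
  rwa [mul_assoc, h.pc_sq, mul_one] at this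

/-- A normalizing element sends `c` to `c` or `c z`. -/
theorem nrm_c {n : G} (hn : ∀ x, x ∈ syl t ι ↔ n * x * n⁻¹ ∈ syl t ι) :
    n * ι pc * n⁻¹ = ι pc ∨ n * ι pc * n⁻¹ = ι pT := by
  have hcx : ∀ y ∈ syl t ι, Commute (n * ι pc * n⁻¹) y := by
    intro y hy
    have hy' : n⁻¹ * y * n ∈ syl t ι := by
      rw [hn, show n * (n⁻¹ * y * n) * n⁻¹ = y by group]; exact hy
    have := commute_conj (h.commute_syl (p := pc) (by decide +kernel) _ hy') n
    rwa [show n * (n⁻¹ * y * n) * n⁻¹ = y by group] at this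
  obtain ⟨q, hq, hc⟩ := h.center_syl ((hn _).1 (h.i_mem_syl (by decide +kernel))) hcx
  have hK := h.not_isConj_conj_i n pc
  rcases hc with hc | hc
  · simp only [List.mem_cons, List.not_mem_nil, or_false] at hq
    rcases hq with rfl | rfl | rfl | rfl
    · rw [map_one, conj_eq_one_iff, ← map_one ι] at hc
      exact absurd (h.inj hc) (by decide +kernel)
    · have hc' := hc.trans (h.nrm_z hn).symm
      exact absurd (h.inj (mul_left_cancel (mul_right_cancel hc'))) (by decide +kernel)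
    · exact Or.inl hc
    · exact Or.inr hc
  · rw [hc] at hK
    exact absurd (h.ti_iff.2 ((of_all (L := [1, pz, pc, pT]) (P := fun q => q * q = 1)
      (by decide +kernel)) q hq)) hK

/-- An element of the normalizer of the Sylow subgroup exchanging `t` and `t c`. -/
theorem exists_swap_tc : ∃ n : G, (∀ x, x ∈ syl t ι ↔ n * x * n⁻¹ ∈ syl t ι) ∧
    n * t * n⁻¹ = t * ι pc ∧ n * ι pc * n⁻¹ = ι pc := by
  obtain ⟨n, hnt, hn⟩ := h.exists_norm h.tc (h.commute_syl_ti (by decide +kernel))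
  refine ⟨n, hn, hnt, (h.nrm_c hn).resolve_right fun e => ?_⟩
  have hT : n * ι pT * n⁻¹ = ι pc := by
    rw [show ι pT = ι pz * ι pc by rw [← map_mul]; rfl, ← conj_mul, h.nrm_z hn, e]
    exact h.zT
  have := card_pair_conj hnt hT
  rw [h.pair_tc, h.card_pair_c, h.card_pair_T] at this
  omega

theorem exists_move_tz' : ∃ s : G, (∀ x, x ∈ syl t ι ↔ s * x * s⁻¹ ∈ syl t ι) ∧
    s ∈ eNorm (ι pe) ∧ s * t * s⁻¹ = t * ι pz ∧ s * ι pz * s⁻¹ = ι pz ∧ s * ι pc * s⁻¹ = ι pc := by
  obtain ⟨s, hs, hse, -, hst⟩ := h.exists_move_tz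
  obtain ⟨n, hn, hnt, -⟩ := h.exists_swap_tc
  refine ⟨s, hs, hse, hst, h.nrm_z hs, (h.nrm_c hs).resolve_right fun e => ?_⟩
  have hfix : s * (t * ι pc) * s⁻¹ = t * ι pc := by
    rw [← conj_mul, hst, e, mul_assoc, h.zT]
  set m := n⁻¹ * s * n with hm
  have hmem : m ∈ syl t ι := by
    refine h.nrm_cent (fun x => ?_) ?_
    · rw [hn x, hs (n * x * n⁻¹), hn (m * x * m⁻¹),
        show n * (m * x * m⁻¹) * n⁻¹ = s * (n * x * n⁻¹) * s⁻¹ by rw [hm]; group]
    · refine mul_inv_eq_iff_eq_mul.1 ?_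
      rw [show m * t * m⁻¹ = n⁻¹ * (s * (n * t * n⁻¹) * s⁻¹) * n by rw [hm]; group, hnt, hfix,
        ← hnt]
      group
  have hsmem : s ∈ syl t ι := by
    have := (hn m).1 hmem
    rwa [show n * m * n⁻¹ = s by rw [hm]; group] at this
  rw [← (h.commute_syl_t s hsmem).eq, mul_inv_cancel_right] at hst
  exact absurd (h.inj ((left_eq_mul.1 hst).trans (map_one ι).symm)) (by decide +kernel)

/-- Conjugation by an element of `C(t)` acts as conjugation by its component in `ι`. -/
theorem conj_of_decomp {y w : G} {p : Q} (hy : y = ι p ∨ y = t * ι p) (hw : Commute w t) :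
    y * w * y⁻¹ = ι p * w * (ι p)⁻¹ := by
  rcases hy with rfl | rfl
  · rfl
  · have hc : Commute t (ι p * w * (ι p)⁻¹) :=
      (((h.comm p).symm.mul_right hw.symm).mul_right (h.comm p).symm.inv_right)
    calc t * ι p * w * (t * ι p)⁻¹ = t * (ι p * w * (ι p)⁻¹) * t⁻¹ := by group
      _ = _ := by rw [hc.eq, mul_inv_cancel_right]

theorem commutator_pair_le :
    ⁅centralizer ({t, ι pc} : Set G), centralizer ({t, ι pc} : Set G)⁆ ≤ five'.map ι := by
  rw [commutator_le]
  intro u hu v hv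
  obtain ⟨hut, huc⟩ := mem_pair.1 hu
  obtain ⟨hvt, hvc⟩ := mem_pair.1 hv
  obtain ⟨p, hp⟩ := h.decomp u hut
  obtain ⟨q, hq⟩ := h.decomp v hvt
  have hp' : p * pc = pc * p := by
    rcases hp with rfl | rfl
    exacts [h.commute_ii.1 huc, h.commute_tii.1 huc]
  have hq' : q * pc = pc * q := by
    rcases hq with rfl | rfl
    exacts [h.commute_ii.1 hvc, h.commute_tii.1 hvc]
  refine ⟨p * q * p⁻¹ * q⁻¹, commutator_cent_pc_le (commutator_mem_commutator
    (mem_centralizer_singleton_iff.2 hp') (mem_centralizer_singleton_iff.2 hq')), ?_⟩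
  have hptq : ι p * t * (ι p)⁻¹ = t := by rw [(h.comm p).eq, mul_inv_cancel_right]
  rw [commutatorElement_def, h.conj_of_decomp hp hvt]
  rcases hq with rfl | rfl
  · simp [map_mul, map_inv, mul_assoc]
  · have hc : Commute t (ι p * ι q * (ι p)⁻¹ * (ι q)⁻¹) := by
      rw [← map_inv, ← map_inv, ← map_mul, ← map_mul, ← map_mul]
      exact (h.comm _).symm
    rw [← conj_mul, hptq, mul_inv_rev,
      show t * (ι p * ι q * (ι p)⁻¹) * ((ι q)⁻¹ * t⁻¹) = t * (ι p * ι q * (ι p)⁻¹ * (ι q)⁻¹) * t⁻¹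
        by group, hc.eq, mul_inv_cancel_right]
    simp [map_mul, map_inv]

/-- An element centralizing the alternating group of degree five and moving `t` to `t c`. -/
theorem exists_centralizing : ∃ g : G, (∀ x ∈ five', Commute g (ι x)) ∧
    g * t * g⁻¹ = t * ι pc ∧ g * ι pc * g⁻¹ = ι pc := by
  classical
  obtain ⟨n, -, hnt, hnc⟩ := h.exists_swap_tc
  set D := centralizer ({t, ι pc} : Set G) with hD
  set A := five'.map ι with hA
  have hnD : D.map (MulAut.conj n).toMonoidHom ≤ D := by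
    rintro _ ⟨x, hx, rfl⟩
    obtain ⟨hxt, hxc⟩ := mem_pair.1 hx
    have e1 := commute_conj (hxt.mul_right hxc) n
    rw [cmul n t, hnt, hnc, mul_assoc t, h.pc_sq, mul_one] at e1
    have e2 := commute_conj hxc n
    rw [hnc] at e2
    exact mem_pair.2 ⟨e1, e2⟩
  have hAD : A ≤ D := by
    rintro _ ⟨p, hp, rfl⟩
    obtain ⟨h4, h5, -⟩ := mem_five'.1 hp
    exact mem_pair.2 ⟨h.comm p, h.commute_ii.2 (commute_pc_of_five' h4 h5)⟩
  have hAn : A.map (MulAut.conj n).toMonoidHom ≤ A := by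
    calc A.map (MulAut.conj n).toMonoidHom
          = ⁅A.map (MulAut.conj n).toMonoidHom, A.map (MulAut.conj n).toMonoidHom⁆ := by
          rw [← map_commutator, hA, ← map_commutator, five'_perfect]
      _ ≤ ⁅D, D⁆ := commutator_mono ((map_mono hAD).trans hnD) ((map_mono hAD).trans hnD)
      _ ≤ A := h.commutator_pair_le
  let j : ↥(alternatingGroup (Fin 5)) →* G := (ι.comp j5).comp (alternatingGroup (Fin 5)).subtype
  have hj : Function.Injective j := fun x y e => Subtype.ext (j5_injective (h.inj e))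
  have hex : ∀ α, ∃ β, j β = n * j α * n⁻¹ := by
    intro α
    obtain ⟨_, ⟨β, hβ, rfl⟩, e⟩ := hAn (mem_map_of_mem _ (mem_map_of_mem ι (mem_map_of_mem j5 α.2)))
    exact ⟨⟨β, hβ⟩, e⟩
  choose φ hφ using hex
  let φ' : ↥(alternatingGroup (Fin 5)) →* ↥(alternatingGroup (Fin 5)) := MonoidHom.mk' φ fun x y =>
    hj (by rw [map_mul, hφ, hφ, hφ, map_mul, conj_mul])
  have hφi : Function.Injective φ' := fun x y e => hj (by
    have := congrArg j e
    change j (φ x) = j (φ y) at this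
    rw [hφ, hφ] at this
    exact mul_left_cancel (mul_right_cancel this))
  obtain ⟨π, hπ⟩ := (CfsgLib.Perm.Groups.AltAut.conjNormal_bijective (Ω := Fin 5) (by simp)
    (by simp)).2 (MulEquiv.ofBijective φ' ⟨hφi, Finite.surjective_of_injective hφi⟩)
  refine ⟨(ι (j5 π))⁻¹ * n, fun x hx => ?_, ?_, ?_⟩
  · obtain ⟨α, hα, rfl⟩ := hx
    have e : (φ ⟨α, hα⟩ : Perm (Fin 5)) = π * α * π⁻¹ := by
      have := congrArg (fun w : MulAut ↥(alternatingGroup (Fin 5)) => (w ⟨α, hα⟩ : Perm (Fin 5))) hπ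
      simp only [MulAut.conjNormal_apply] at this; exact this.symm
    have e2 : ι (j5 (π * α * π⁻¹)) = n * ι (j5 α) * n⁻¹ := by
      rw [← e]; exact hφ ⟨α, hα⟩
    refine mul_inv_eq_iff_eq_mul.1 ?_
    rw [show (ι (j5 π))⁻¹ * n * ι (j5 α) * ((ι (j5 π))⁻¹ * n)⁻¹ =
      (ι (j5 π))⁻¹ * (n * ι (j5 α) * n⁻¹) * ι (j5 π) by group, ← e2]
    simp only [map_mul, map_inv]
    group
  all_goals
    have hπc : j5 π * pc = pc * j5 π :=
      commute_pc_of_five' (mem_range_j5.1 ⟨π, rfl⟩).1 (mem_range_j5.1 ⟨π, rfl⟩).2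
    have hc : Commute (ι (j5 π)) (ι pc) := h.commute_ii.2 hπc
  · rw [show (ι (j5 π))⁻¹ * n * t * ((ι (j5 π))⁻¹ * n)⁻¹ =
      (ι (j5 π))⁻¹ * (n * t * n⁻¹) * ι (j5 π) by group, hnt, mul_assoc,
      ← ((h.comm (j5 π)).mul_right hc).eq, inv_mul_cancel_left]
  · rw [show (ι (j5 π))⁻¹ * n * ι pc * ((ι (j5 π))⁻¹ * n)⁻¹ =
      (ι (j5 π))⁻¹ * (n * ι pc * n⁻¹) * ι (j5 π) by group, hnc, mul_assoc, ← hc.eq,
      inv_mul_cancel_left]

/-- Its effect on `a`. -/
theorem centralizing_pa {g : G} (hg : ∀ x ∈ five', Commute g (ι x)) (hgt : g * t * g⁻¹ = t * ι pc)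
    (hgc : g * ι pc * g⁻¹ = ι pc) :
    g * ι pa * g⁻¹ = ι pa ∨ g * ι pa * g⁻¹ = ι (pa * pc) := by
  have hac : Commute (ι pa) (ι pc) := h.commute_ii.2 (by decide +kernel)
  have hq : Commute (g * ι pa * g⁻¹) t := by
    have e := commute_conj ((h.comm pa).mul_right hac) g
    rwa [cmul g t, hgt, hgc, mul_assoc t, h.pc_sq, mul_one] at e
  obtain ⟨p, e | e⟩ := h.decomp _ hq
  swap
  · refine absurd ?_ (h.not_isConj_conj_i g pa)
    rw [e]
    refine h.ti_iff.2 (h.inj ?_)
    rw [map_one, ← h.mul_tt, ← e, conj_mul, ← map_mul, show pa * pa = 1 by decide, map_one, mul_one,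
      mul_inv_cancel]
  have hx : ∀ x ∈ five', p * x * p⁻¹ = pa * x * pa⁻¹ := by
    intro x hx
    refine h.inj ?_
    have hax : pa * x * pa⁻¹ ∈ five' := by
      obtain ⟨h4, h5, hs⟩ := mem_five'.1 hx
      have ha : pa⁻¹ 4 = 4 ∧ pa⁻¹ 5 = 5 ∧ pa 4 = 4 ∧ pa 5 = 5 := by decide +kernel
      refine mem_five'.2 ⟨?_, ?_, (sign_conj (isConj_iff.2 ⟨pa, rfl⟩)).trans hs⟩
      · rw [Perm.mul_apply, Perm.mul_apply, ha.1, h4, ha.2.2.1]
      · rw [Perm.mul_apply, Perm.mul_apply, ha.2.1, h5, ha.2.2.2]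
    have e1 := (hg _ hax).eq
    have e2 : g * ι x * g⁻¹ = ι x := by rw [(hg x hx).eq, mul_inv_cancel_right]
    calc ι (p * x * p⁻¹) = (g * ι pa * g⁻¹) * (g * ι x * g⁻¹) * (g * ι pa * g⁻¹)⁻¹ := by
          rw [e, e2, map_mul, map_mul, map_inv]
      _ = g * ι (pa * x * pa⁻¹) * g⁻¹ := by simp only [map_mul, map_inv]; group
      _ = ι (pa * x * pa⁻¹) := by rw [e1, mul_inv_cancel_right]
  have hcm : ∀ x ∈ five', pa * p * x = x * (pa * p) := by
    intro x hx'
    have e3 := hx x hx'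
    have ha : pa⁻¹ = pa := inv_eq_of_mul_eq_one_right (by decide)
    rw [ha] at e3
    calc pa * p * x = pa * (p * x * p⁻¹) * p := by group
      _ = pa * pa * x * pa * p := by rw [e3]; group
      _ = x * (pa * p) := by rw [show pa * pa = 1 by decide, one_mul, mul_assoc]
  have hm : ∀ q ∈ [pz, pb, pg, ph], q ∈ five' := fun q hq => mem_five'.2
    ((of_all (L := [pz, pb, pg, ph]) (P := fun q => q 4 = 4 ∧ q 5 = 5 ∧ Perm.sign q = 1)
      (by decide +kernel)) q hq)
  have haa : pa * (pa * p) = p := by rw [← mul_assoc, show pa * pa = 1 by decide, one_mul]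
  rcases cent_five (hcm _ (hm pz (by simp))) (hcm _ (hm pb (by simp))) (hcm _ (hm pg (by simp)))
    (hcm _ (hm ph (by simp))) with e' | e'
  · left; rw [e, ← haa, e', mul_one]
  · right; rw [e, ← haa, e']

theorem centralizing_fix_pa {g : G} (hg : ∀ x ∈ five', Commute g (ι x))
    (hgt : g * t * g⁻¹ = t * ι pc) (hgc : g * ι pc * g⁻¹ = ι pc) : g * ι pa * g⁻¹ = ι pa := by
  refine (h.centralizing_pa hg hgt hgc).resolve_right fun hga => ?_
  obtain ⟨s, hs, hse, hst, hsz, hsc⟩ := h.exists_move_tz'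
  have hmem5 : ∀ q ∈ [pz, pb, pz * pb], q ∈ five' := fun q hq => mem_five'.2
    ((of_all (L := [pz, pb, pz * pb]) (P := fun q => q 4 = 4 ∧ q 5 = 5 ∧ Perm.sign q = 1)
      (by decide +kernel)) q hq)
  have hgfix : ∀ q ∈ [pz, pb, pz * pb], g * ι q * g⁻¹ = ι q := fun q hq => by
    rw [(hg q (hmem5 q hq)).eq, mul_inv_cancel_right]
  have hsa : ∃ q ∈ [pa, pa2, pb, pz * pb], s * ι pa * s⁻¹ = ι q := by
    have hxs := (hs _).1 (h.i_mem_syl (p := pa) (by decide +kernel))
    have hxe : Commute (s * ι pa * s⁻¹) (ι pe) := by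
      have h1 := commute_conj (h.commute_ii.2 (by decide +kernel) : Commute (ι pa) (ι pe)) s
      rcases hse with e | e
      · rwa [e] at h1
      · rw [e] at h1; simpa using h1.inv_right
    have hsq : s * ι pa * s⁻¹ * (s * ι pa * s⁻¹) = 1 := by
      rw [conj_mul, ← map_mul, show pa * pa = 1 by decide, map_one, mul_one, mul_inv_cancel]
    obtain ⟨q, hq, e | e⟩ := h.mem_syl.1 hxs
    · rw [e] at hsq hxe
      have hq2 : q * q = 1 := h.inj (by rw [map_mul, map_one]; exact hsq)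
      have h8 := eight_invol q ((dlist_comm_pe q hq).1 (h.commute_ii.1 hxe)) hq2
      have h1 : q ≠ 1 := by
        rintro rfl
        rw [map_one, conj_eq_one_iff, ← map_one ι] at e
        exact absurd (h.inj e) (by decide +kernel)
      have h2 : q ≠ pz := by
        rintro rfl
        exact absurd (h.inj (mul_left_cancel (mul_right_cancel (e.trans hsz.symm))))
          (by decide +kernel)
      refine ⟨q, ?_, e⟩
      simp only [List.mem_cons, List.not_mem_nil, or_false] at h8 ⊢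
      tauto
    · exfalso
      apply h.not_isConj_conj_i s pa
      rw [e] at hsq ⊢
      exact h.ti_iff.2 (h.inj (by rw [map_one, ← h.mul_tt]; exact hsq))
  obtain ⟨q, hq, hsq⟩ := hsa
  have hga' : g * ι (pa * pc) * g⁻¹ = ι pa := by
    rw [map_mul, ← conj_mul, hga, hgc, map_mul, mul_assoc, h.pc_sq, mul_one]
  have hcz : ι pc * ι pz = ι pz * ι pc := (h.commute_ii.2 (by decide +kernel)).eq
  by_cases hb : q ∈ [pb, pz * pb]
  · have hgq : g * ι q * g⁻¹ = ι q := hgfix q (List.mem_cons_of_mem _ hb)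
    have h1 : Nat.card (centralizer ({t * ι pc * ι pz, ι q} : Set G)) = 480 := by
      rw [card_pair_conj (g := g * s) (x := t) (y := ι pa) ?_ ?_, h.card_pair,
        show Nat.card (centralizer ({pa} : Set Q)) = 240 by
          rw [Perm.nat_card_centralizer, cycleType_pa]; decide]
      · rw [show g * s * t * (g * s)⁻¹ = g * (s * t * s⁻¹) * g⁻¹ by group, hst, ← conj_mul, hgt,
          hgfix pz (by simp)]
      · rw [show g * s * ι pa * (g * s)⁻¹ = g * (s * ι pa * s⁻¹) * g⁻¹ by group, hsq, hgq]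
    have h2 : Nat.card (centralizer ({t * ι pc * ι pz, ι q} : Set G)) = 96 := by
      rw [card_pair_conj (g := s * g) (x := t) (y := ι (pa * pc)) ?_ ?_, h.card_pair,
        show Nat.card (centralizer ({pa * pc} : Set Q)) = 48 by
          rw [Perm.nat_card_centralizer, show (pa * pc).cycleType = {2, 2} by
            rw [(show Perm.Disjoint pa pc by intro i; fin_cases i <;> decide).cycleType_mul,
              cycleType_pa, cycleType_pc]; rfl]
          decide]
      · rw [show s * g * t * (s * g)⁻¹ = s * (g * t * g⁻¹) * s⁻¹ by group, hgt, ← conj_mul, hst,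
          hsc, mul_assoc t (ι pc), hcz, ← mul_assoc]
      · rw [show s * g * ι (pa * pc) * (s * g)⁻¹ = s * (g * ι (pa * pc) * g⁻¹) * s⁻¹ by group, hga',
          hsq]
    omega
  · obtain ⟨s', hs't, hs'z, hs'c, hs'a⟩ : ∃ s', s' * t * s'⁻¹ = t * ι pz ∧
        s' * ι pz * s'⁻¹ = ι pz ∧ s' * ι pc * s'⁻¹ = ι pc ∧ s' * ι pa * s'⁻¹ = ι pa := by
      simp only [List.mem_cons, List.not_mem_nil, or_false] at hq hb
      rcases hq with rfl | rfl | rfl | rfl
      · exact ⟨s, hst, hsz, hsc, hsq⟩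
      · have he : ∀ y, ι pb * s * y * (ι pb * s)⁻¹ = ι pb * (s * y * s⁻¹) * (ι pb)⁻¹ :=
          fun y => by group
        refine ⟨ι pb * s, ?_, ?_, ?_, ?_⟩
        · rw [he, hst, h.conj_ti, show pb * pz * pb⁻¹ = pz by decide +kernel]
        · rw [he, hsz, h.conj_i, show pb * pz * pb⁻¹ = pz by decide +kernel]
        · rw [he, hsc, h.conj_i, show pb * pc * pb⁻¹ = pc by decide +kernel]
        · rw [he, hsq, h.conj_i, show pb * pa2 * pb⁻¹ = pa by decide +kernel]
      · exact absurd (Or.inl rfl) hb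
      · exact absurd (Or.inr rfl) hb
    have hs'a2 : s' * ι pa2 * s'⁻¹ = ι pa2 := by
      rw [show pa2 = pz * pa by decide +kernel, map_mul, ← conj_mul, hs'z, hs'a]
    set k := ι sb * s' * (ι sb)⁻¹ with hk
    have he : ∀ y, k * y * k⁻¹ = ι sb * (s' * ((ι sb)⁻¹ * y * ι sb) * s'⁻¹) * (ι sb)⁻¹ :=
      fun y => by rw [hk]; group
    have hin : ∀ p : Q, (ι sb)⁻¹ * ι p * ι sb = ι (sb⁻¹ * p * sb) := fun p => by
      rw [map_mul, map_mul, map_inv]
    have hka : k * ι pa * k⁻¹ = ι pa := by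
      rw [he, hin, show sb⁻¹ * pa * sb = pa by decide +kernel, hs'a, h.conj_i,
        show sb * pa * sb⁻¹ = pa by decide +kernel]
    have hkc : k * ι pc * k⁻¹ = ι pc := by
      rw [he, hin, show sb⁻¹ * pc * sb = pa2 by decide +kernel, hs'a2, h.conj_i,
        show sb * pa2 * sb⁻¹ = pc by decide +kernel]
    have hkt : k * t * k⁻¹ = t * ι (pa * pc) := by
      rw [he, show (ι sb)⁻¹ * t * ι sb = t by
        rw [mul_assoc, ← (h.comm sb).eq, inv_mul_cancel_left], hs't, h.conj_ti,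
        show sb * pz * sb⁻¹ = pa * pc by decide +kernel]
    have hkt' : g * (t * ι (pa * pc)) * g⁻¹ = t * ι (pa * pc) := by
      rw [← conj_mul, hgt, hga', mul_assoc,
        show ι pc * ι pa = ι (pa * pc) by rw [← map_mul, show pc * pa = pa * pc by decide +kernel]]
    set m := k⁻¹ * g * k with hm
    have hmt : m * t * m⁻¹ = t := by
      rw [show m * t * m⁻¹ = k⁻¹ * (g * (k * t * k⁻¹) * g⁻¹) * k by rw [hm]; group, hkt, hkt', ← hkt]
      group
    have hma : m * ι pa * m⁻¹ = ι (pa * pc) := by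
      rw [show m * ι pa * m⁻¹ = k⁻¹ * (g * (k * ι pa * k⁻¹) * g⁻¹) * k by rw [hm]; group, hka, hga,
        map_mul]
      conv_rhs => rw [show ι pa * ι pc = k⁻¹ * ((k * ι pa * k⁻¹) * (k * ι pc * k⁻¹)) * k by group,
        hka, hkc]
    obtain ⟨p, hp⟩ := h.decomp m (mul_inv_eq_iff_eq_mul.1 hmt)
    rw [h.conj_of_decomp hp (h.comm pa), h.conj_i] at hma
    have h' := sign_conj (isConj_iff.2 ⟨p, h.inj hma⟩)
    rw [map_mul, sign_pa, sign_pc] at h'
    exact absurd h' (by decide)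

/-- An involution centralizing `a`, `z`, `c` and `e` and moving `t` to `t a`. -/
theorem exists_move_ta : ∃ k : G, k * k = 1 ∧ k * t * k⁻¹ = t * ι pa ∧ Commute k (ι pa) ∧
    Commute k (ι pz) ∧ Commute k (ι pc) ∧ Commute k (ι pe) := by
  obtain ⟨g, hg, hgt, hgc⟩ := h.exists_centralizing
  have hga := h.centralizing_fix_pa hg hgt hgc
  have hcc : Commute g (ι pc) := mul_inv_eq_iff_eq_mul.1 hgc
  have hca : Commute g (ι pa) := mul_inv_eq_iff_eq_mul.1 hga
  have h5 : ∀ q : Q, q 4 = 4 ∧ q 5 = 5 ∧ Perm.sign q = 1 → Commute g (ι q) :=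
    fun q hq => hg q (mem_five'.2 hq)
  have hg2 : g * g = 1 ∨ g * g = ι pc := by
    have hgg : Commute (g * g) t := by
      refine mul_inv_eq_iff_eq_mul.1 ?_
      rw [show g * g * t * (g * g)⁻¹ = g * (g * t * g⁻¹) * g⁻¹ by group, hgt, ← conj_mul, hgt, hgc,
        mul_assoc, h.pc_sq, mul_one]
    obtain ⟨p, hp⟩ := h.decomp _ hgg
    have hcm : ∀ q, q 4 = 4 ∧ q 5 = 5 ∧ Perm.sign q = 1 → p * q = q * p := by
      intro q hq
      have e := (h5 q hq).mul_left (h5 q hq)
      rcases hp with hp | hp <;> rw [hp] at e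
      exacts [h.commute_ii.1 e, h.commute_tii.1 e]
    have h1 := cent_five (hcm pz (by decide +kernel)) (hcm pb (by decide +kernel))
      (hcm pg (by decide +kernel)) (hcm ph (by decide +kernel))
    rcases hp with hp | hp
    · rcases h1 with rfl | rfl
      · exact Or.inl (by rw [hp, map_one])
      · exact Or.inr hp
    · exfalso
      have e : g * (g * g) * g⁻¹ = g * g := by group
      rw [hp, ← conj_mul, hgt] at e
      have hgp : g * ι p * g⁻¹ = ι p := by
        rcases h1 with rfl | rfl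
        · rw [map_one, mul_one, mul_inv_cancel]
        · exact hgc
      rw [hgp] at e
      have := mul_right_cancel e
      exact absurd (h.inj ((mul_eq_left.1 this).trans (map_one ι).symm)) (by decide +kernel)
  set k := ι sa * g * (ι sa)⁻¹ with hk
  have hsat : ι sa * t * (ι sa)⁻¹ = t := by rw [(h.comm sa).eq, mul_inv_cancel_right]
  have hmv : ∀ p q : Q, sa * p * sa⁻¹ = q → Commute g (ι p) → Commute k (ι q) := by
    intro p q e hp
    have := commute_conj hp (ι sa)
    rwa [h.conj_i, e] at this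
  have hka : Commute k (ι pa) := hmv pc pa (by decide +kernel) hcc
  have hkc : Commute k (ι pc) := hmv pa pc (by decide +kernel) hca
  have hkz : Commute k (ι pz) := hmv (pc * pa2) pz (by decide +kernel) (by
    rw [map_mul, show pa2 = pz * pa by decide +kernel, map_mul]
    exact hcc.mul_right ((h5 pz (by decide +kernel)).mul_right hca))
  have hke : Commute k (ι pe) := hmv (sa⁻¹ * pe * sa) pe (by group) (h5 _ (by decide +kernel))
  have hkt : k * t * k⁻¹ = t * ι pa := by
    rw [show k * t * k⁻¹ = ι sa * (g * ((ι sa)⁻¹ * t * ι sa) * g⁻¹) * (ι sa)⁻¹ by rw [hk]; group,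
      show (ι sa)⁻¹ * t * ι sa = t by rw [mul_assoc, ← (h.comm sa).eq, inv_mul_cancel_left],
      hgt, ← conj_mul, hsat, h.conj_i, show sa * pc * sa⁻¹ = pa by decide +kernel]
  have hk2 : k * k = ι sa * (g * g) * (ι sa)⁻¹ := by rw [hk]; group
  rcases hg2 with e | e
  · exact ⟨k, by rw [hk2, e, mul_one, mul_inv_cancel], hkt, hka, hkz, hkc, hke⟩
  · refine ⟨t * k, ?_, ?_, (h.comm pa).symm.mul_left hka, (h.comm pz).symm.mul_left hkz,
      (h.comm pc).symm.mul_left hkc, (h.comm pe).symm.mul_left hke⟩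
    · rw [show t * k * (t * k) = t * (k * t * k⁻¹) * (k * k) by group, hkt, hk2, e, h.conj_i,
        show sa * pc * sa⁻¹ = pa by decide +kernel, ← mul_assoc t t, h.tt, one_mul, ← map_mul,
        show pa * pa = 1 by decide, map_one]
    · rw [show t * k * t * (t * k)⁻¹ = t * (k * t * k⁻¹) * t⁻¹ by group, hkt,
        mul_assoc t (t * ι pa), (h.commute_ti pa).inv_right.eq, mul_inv_cancel_left]

end Four

end CfsgLib.Invol.TwoTimesSSeven
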