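import Cfsg.Agent.Lib.Invol.TwoTimesSSeven.Four

/-!
# An involution with centralizer `2 × S₇`: a `2`-group of order `64` inside `C(e) ∩ C(z) ∩ C(c)`
-/

set_option autoImplicit false
set_option linter.unusedSectionVars false
set_option maxRecDepth 20000

namespace CfsgLib.Invol.TwoTimesSSeven

open Subgroup Equiv CfsgLib.Invol

universe u

/-- The four conjugates of `t` in the elementary subgroup `⟨t, z, b⟩`. -/
def four {G : Type u} [Group G] (t : G) (ι : Q →* G) : Set G :=
  {t, t * ι pz, t * ι pb, t * ι (pz * pb)}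

/-- The elements of `C(e) ∩ C(c) ∩ C(z)` permuting the four conjugates. -/
def loc {G : Type u} [Group G] (t : G) (ι : Q →* G) : Subgroup G :=
  normalizer (four t ι) ⊓ centralizer ({ι pe, ι pc, ι pz} : Set G)

/-- Involutions `x` and `u` lifting the translations by `z` and `b`. -/
structure Lifts {G : Type u} [Group G] (t : G) (ι : Q →* G) (x u : G) : Prop where
  xx : x * x = 1
  uu : u * u = 1
  tx : t * x = x * (t * ι pz)
  tu : t * u = u * (t * ι pb)
  xa : Commute x (ι pa)
  xb : Commute x (ι pb)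
  xz : Commute x (ι pz)
  xc : Commute x (ι pc)
  xe : Commute x (ι pe)
  ub : Commute u (ι pb)
  uz : Commute u (ι pz)
  uc : Commute u (ι pc)
  ue : Commute u (ι pe)
  conj_K : IsConj t x ↔ IsConj t u
  dich : u * ι pa * u * ι pa = x ∨ u * ι pa * u * ι pa = x * t * ι pb

/-- `g ^ i` for a Boolean `i`. -/
def bp {M : Type*} [One M] (g : M) : Bool → M
  | false => 1
  | true => g

/-- The element of `⟨a, b, z⟩` with given exponents. -/
def pw (β k l : Bool) : Q := bp pb k * bp pz l * bp pa β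

/-- Index set of the local group. -/
abbrev Ix : Type := Bool × Bool × Bool × Bool × Bool × Bool

/-- The normal form `x^i u^j t^α b^k z^l a^β`. -/
def nf {G : Type u} [Group G] (t : G) (ι : Q →* G) (x w : G) : Ix → G
  | (i, j, α, β, k, l) => bp x i * bp w j * bp t α * ι (pw β k l)

theorem eight_pw : ∀ p ∈ eight, ∃ β k l, pw β k l = p := by
  have h : ∀ p ∈ eight, ∃ n : Bool × Bool × Bool, pw n.1 n.2.1 n.2.2 = p :=
    of_all (by decide +kernel)
  exact fun p hp => let ⟨n, hn⟩ := h p hp; ⟨n.1, n.2.1, n.2.2, hn⟩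

theorem pw_inj : ∀ β k l β' k' l', pw β k l = pw β' k' l' → β = β' ∧ k = k' ∧ l = l' := by
  decide +kernel

theorem pw_mem : ∀ β k l, pw β k l ∈ eight := by decide +kernel

theorem eight_spec : ∀ p ∈ eight, p * pe = pe * p ∧ p * pc = pc * p ∧ p * pz = pz * p ∧ p ∈ dlist :=
  of_all (by decide +kernel)

theorem eight_V : ∀ p ∈ eight, p * pb = pb * p →
    p ∈ [1, pz, pb, pz * pb] := of_all (by decide +kernel)

namespace Four

variable {G : Type u} [Group G] [Finite G] {t : G} {ι : Q →* G} (h : Four t ι)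
include h

theorem pp (p : Q) (hp : p * p = 1) : ι p * ι p = 1 := by rw [← map_mul, hp, map_one]

/-- Elements of `C(t) ∩ C(e) ∩ C(c) ∩ C(z)`. -/
theorem cent_local {r : G} (ht : Commute r t) (he : Commute r (ι pe)) (hc : Commute r (ι pc))
    (hz : Commute r (ι pz)) : ∃ p ∈ eight, r = ι p ∨ r = t * ι p := by
  obtain ⟨p, hp⟩ := h.decomp r ht
  refine ⟨p, ?_, hp⟩
  have key : ∀ q : Q, Commute r (ι q) → p * q = q * p := fun q hq => by
    rcases hp with rfl | rfl
    exacts [h.commute_ii.1 hq, h.commute_tii.1 hq]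
  exact (dlist_comm_pe p (dlist_mem.1 ⟨key _ hz, key _ hc⟩)).1 (key _ he)

/-- The same, also centralizing `b`. -/
theorem cent_local_b {r : G} (ht : Commute r t) (he : Commute r (ι pe)) (hc : Commute r (ι pc))
    (hz : Commute r (ι pz)) (hb : Commute r (ι pb)) :
    ∃ p ∈ [1, pz, pb, pz * pb], r = ι p ∨ r = t * ι p := by
  obtain ⟨p, hp, hr⟩ := h.cent_local ht he hc hz
  refine ⟨p, eight_V p hp ?_, hr⟩
  rcases hr with rfl | rfl
  exacts [h.commute_ii.1 hb, h.commute_tii.1 hb]

theorem exists_move_tz_a : ∃ y : G, y * t * y⁻¹ = t * ι pz ∧ y * ι pa * y⁻¹ = ι pa := by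
  obtain ⟨k, -, hkt, hka, hkz, -, -⟩ := h.exists_move_ta
  have hk2 : Commute k (ι pa2) := by
    rw [show pa2 = pz * pa by decide +kernel, map_mul]; exact hkz.mul_right hka
  have hbt : ι pb * t * (ι pb)⁻¹ = t := by rw [(h.comm pb).eq, mul_inv_cancel_right]
  have hbt' : (ι pb)⁻¹ * t * ι pb = t := by
    rw [mul_assoc, ← (h.comm pb).eq, inv_mul_cancel_left]
  refine ⟨k * (ι pb * k * (ι pb)⁻¹), ?_, ?_⟩
  · calc k * (ι pb * k * (ι pb)⁻¹) * t * (k * (ι pb * k * (ι pb)⁻¹))⁻¹
        = k * (ι pb * (k * ((ι pb)⁻¹ * t * ι pb) * k⁻¹) * (ι pb)⁻¹) * k⁻¹ := by group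
      _ = k * (t * ι pa2) * k⁻¹ := by
          rw [hbt', hkt, h.conj_ti, show pb * pa * pb⁻¹ = pa2 by decide +kernel]
      _ = t * ι pz := by
          rw [cmul, hkt, hk2.eq, mul_inv_cancel_right, mul_assoc, ← map_mul]; rfl
  · have hc : Commute (ι pb * k * (ι pb)⁻¹) (ι pa) := by
      have := commute_conj hk2 (ι pb)
      rwa [h.conj_i, show pb * pa2 * pb⁻¹ = pa by decide +kernel] at this
    rw [(hka.mul_left hc).eq, mul_inv_cancel_right]

/-- Lifts of the two translations. -/
theorem exists_lifts : ∃ x w : G, Lifts t ι x w := by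
  obtain ⟨s, hs, hse, hst, hsz, hsc⟩ := h.exists_move_tz'
  have hbz : Commute (ι pb) (ι pz) := h.commute_ii.2 (by decide +kernel)
  -- make it centralize `e`
  obtain ⟨s1, h1t, h1z, h1c, h1e⟩ : ∃ s1, s1 * t * s1⁻¹ = t * ι pz ∧ Commute s1 (ι pz) ∧
      Commute s1 (ι pc) ∧ Commute s1 (ι pe) := by
    have hsz' : Commute s (ι pz) := mul_inv_eq_iff_eq_mul.1 hsz
    have hsc' : Commute s (ι pc) := mul_inv_eq_iff_eq_mul.1 hsc
    rcases hse with e | e
    · exact ⟨s, hst, hsz', hsc', mul_inv_eq_iff_eq_mul.1 e⟩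
    · refine ⟨ι pc * s, ?_, Commute.mul_left (h.commute_ii.2 (by decide +kernel)) hsz',
        (Commute.refl _).mul_left hsc', ?_⟩
      · rw [show ι pc * s * t * (ι pc * s)⁻¹ = ι pc * (s * t * s⁻¹) * (ι pc)⁻¹ by group, hst,
          h.conj_ti, show pc * pz * pc⁻¹ = pz by decide +kernel]
      · refine mul_inv_eq_iff_eq_mul.1 ?_
        rw [show ι pc * s * ι pe * (ι pc * s)⁻¹ = ι pc * (s * ι pe * s⁻¹) * (ι pc)⁻¹ by group, e,
          show ι pc * (ι pe)⁻¹ * (ι pc)⁻¹ = (ι pc * ι pe * (ι pc)⁻¹)⁻¹ by group, h.pc_inverts,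
          inv_inv]
  -- the image of an involution of the stabilizer
  have himg : ∀ {y : G}, y * t * y⁻¹ = t * ι pz → Commute y (ι pz) → Commute y (ι pc) →
      Commute y (ι pe) → ∀ p ∈ [pa, pb],
        ∃ q ∈ [pa, pa2, pb, pz * pb], y * ι p * y⁻¹ = ι q := by
    intro y hyt hyz hyc hye p hp
    obtain ⟨he', hc', hz', -⟩ := eight_spec p (of_all (L := [pa, pb]) (P := fun p => p ∈ eight)
      (by decide +kernel) p hp)
    have hpp : p * p = 1 ∧ p ≠ 1 ∧ p ≠ pz :=
      of_all (L := [pa, pb]) (P := fun p => p * p = 1 ∧ p ≠ 1 ∧ p ≠ pz) (by decide +kernel) p hp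
    have e1 : Commute (y * ι p * y⁻¹) t := by
      have hz2 : Commute (y * ι p * y⁻¹) (ι pz) := by
        have := commute_conj (h.commute_ii.2 hz' : Commute (ι p) (ι pz)) y
        rwa [hyz.eq, mul_inv_cancel_right] at this
      have e := (commute_conj (h.comm p) y)
      rw [hyt] at e
      have := e.mul_right hz2
      rwa [mul_assoc t, h.pp pz (by decide), mul_one] at this
    have e2 : ∀ q, Commute y (ι q) → p * q = q * p → Commute (y * ι p * y⁻¹) (ι q) := by
      intro q hq hpq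
      have := commute_conj (h.commute_ii.2 hpq : Commute (ι p) (ι q)) y
      rwa [hq.eq, mul_inv_cancel_right] at this
    obtain ⟨q, hq8, hq⟩ := h.cent_local e1 (e2 _ hye he') (e2 _ hyc hc') (e2 _ hyz hz')
    have hsq : y * ι p * y⁻¹ * (y * ι p * y⁻¹) = 1 := by
      rw [conj_mul, h.pp p hpp.1, mul_one, mul_inv_cancel]
    rcases hq with hq | hq
    · rw [hq] at hsq
      have h8 := eight_invol q hq8 (h.inj (by rw [map_mul, map_one]; exact hsq))
      have n1 : q ≠ 1 := by
        rintro rfl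
        rw [map_one, conj_eq_one_iff, ← map_one ι] at hq
        exact hpp.2.1 (h.inj hq)
      have n2 : q ≠ pz := by
        rintro rfl
        have hz3 : y * ι pz * y⁻¹ = ι pz := by rw [hyz.eq, mul_inv_cancel_right]
        exact hpp.2.2 (h.inj (mul_left_cancel (mul_right_cancel (hq.trans hz3.symm))))
      refine ⟨q, ?_, hq⟩
      simp only [List.mem_cons, List.not_mem_nil, or_false] at h8 ⊢
      tauto
    · exfalso
      apply h.not_isConj_conj_i y p
      rw [hq] at hsq ⊢
      exact h.ti_iff.2 (h.inj (by rw [map_one, ← h.mul_tt]; exact hsq))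
  -- make it centralize `b`
  obtain ⟨s2, h2t, h2z, h2c, h2e, h2b⟩ : ∃ s2, s2 * t * s2⁻¹ = t * ι pz ∧ Commute s2 (ι pz) ∧
      Commute s2 (ι pc) ∧ Commute s2 (ι pe) ∧ Commute s2 (ι pb) := by
    obtain ⟨q, hq, e⟩ := himg h1t h1z h1c h1e pb (by simp)
    have hbad : ∀ q ∈ [pa, pa2], s1 * ι pb * s1⁻¹ ≠ ι q := by
      intro q hq e'
      obtain ⟨y, hyt, hya⟩ := h.exists_move_tz_a
      have c1 : Nat.card (centralizer ({t * ι pz, ι q} : Set G)) = 96 := by
        rw [card_pair_conj h1t e', h.card_pair,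
          show Nat.card (centralizer ({pb} : Set Q)) = 48 by
            rw [Perm.nat_card_centralizer, show pb.cycleType = {2, 2} by
              rw [pb, (show Perm.Disjoint (swap 0 2 : Q) (swap 1 3) by
                intro i; fin_cases i <;> decide).cycleType_mul, cycleType_swap (by decide),
                cycleType_swap (by decide)]
              rfl]
            decide]
      simp only [List.mem_cons, List.not_mem_nil, or_false] at hq
      have c2 : Nat.card (centralizer ({t * ι pz, ι q} : Set G)) = 480 := by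
        have ca : Nat.card (centralizer ({pa} : Set Q)) = 240 := by
          rw [Perm.nat_card_centralizer, cycleType_pa]; decide
        rcases hq with rfl | rfl
        · rw [card_pair_conj hyt hya, h.card_pair, ca]
        · rw [card_pair_conj (g := ι pb * y) (x := t) (y := ι pa) ?_ ?_, h.card_pair, ca]
          · rw [show ι pb * y * t * (ι pb * y)⁻¹ = ι pb * (y * t * y⁻¹) * (ι pb)⁻¹ by group, hyt,
              h.conj_ti, show pb * pz * pb⁻¹ = pz by decide +kernel]
          · rw [show ι pb * y * ι pa * (ι pb * y)⁻¹ = ι pb * (y * ι pa * y⁻¹) * (ι pb)⁻¹ by group,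
              hya, h.conj_i, show pb * pa * pb⁻¹ = pa2 by decide +kernel]
      omega
    simp only [List.mem_cons, List.not_mem_nil, or_false] at hq
    rcases hq with rfl | rfl | rfl | rfl
    · exact absurd e (hbad pa (by simp))
    · exact absurd e (hbad pa2 (by simp))
    · exact ⟨s1, h1t, h1z, h1c, h1e, mul_inv_eq_iff_eq_mul.1 e⟩
    · refine ⟨ι pa * s1, ?_, Commute.mul_left (h.commute_ii.2 (by decide +kernel)) h1z,
        Commute.mul_left (h.commute_ii.2 (by decide +kernel)) h1c,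
        Commute.mul_left (h.commute_ii.2 (by decide +kernel)) h1e, mul_inv_eq_iff_eq_mul.1 ?_⟩
      · rw [show ι pa * s1 * t * (ι pa * s1)⁻¹ = ι pa * (s1 * t * s1⁻¹) * (ι pa)⁻¹ by group, h1t,
          h.conj_ti, show pa * pz * pa⁻¹ = pz by decide +kernel]
      · rw [show ι pa * s1 * ι pb * (ι pa * s1)⁻¹ = ι pa * (s1 * ι pb * s1⁻¹) * (ι pa)⁻¹ by group, e,
          h.conj_i, show pa * (pz * pb) * pa⁻¹ = pb by decide +kernel]
  -- make it centralize `a`
  obtain ⟨s3, h3t, h3z, h3c, h3e, h3b, h3a⟩ : ∃ s3, s3 * t * s3⁻¹ = t * ι pz ∧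
      Commute s3 (ι pz) ∧ Commute s3 (ι pc) ∧ Commute s3 (ι pe) ∧ Commute s3 (ι pb) ∧
      Commute s3 (ι pa) := by
    obtain ⟨q, hq, e⟩ := himg h2t h2z h2c h2e pa (by simp)
    simp only [List.mem_cons, List.not_mem_nil, or_false] at hq
    have hnb : ¬ q * pb = pb * q := fun e' => by
      have := commute_conj (x := s2 * ι pa * s2⁻¹) (y := ι pb) ?_ s2⁻¹
      · rw [show s2⁻¹ * (s2 * ι pa * s2⁻¹) * s2⁻¹⁻¹ = ι pa by group,
          show s2⁻¹ * ι pb * s2⁻¹⁻¹ = ι pb by
            rw [h2b.inv_left.eq, mul_inv_cancel_right]] at this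
        exact absurd (h.commute_ii.1 this) (by decide +kernel)
      · rw [e]; exact h.commute_ii.2 e'
    rcases hq with rfl | rfl | rfl | rfl
    · exact ⟨s2, h2t, h2z, h2c, h2e, h2b, mul_inv_eq_iff_eq_mul.1 e⟩
    · refine ⟨ι pb * s2, ?_, hbz.mul_left h2z,
        Commute.mul_left (h.commute_ii.2 (by decide +kernel)) h2c,
        Commute.mul_left (h.commute_ii.2 (by decide +kernel)) h2e,
        (Commute.refl _).mul_left h2b, mul_inv_eq_iff_eq_mul.1 ?_⟩
      · rw [show ι pb * s2 * t * (ι pb * s2)⁻¹ = ι pb * (s2 * t * s2⁻¹) * (ι pb)⁻¹ by group, h2t,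
          h.conj_ti, show pb * pz * pb⁻¹ = pz by decide +kernel]
      · rw [show ι pb * s2 * ι pa * (ι pb * s2)⁻¹ = ι pb * (s2 * ι pa * s2⁻¹) * (ι pb)⁻¹ by group, e,
          h.conj_i, show pb * pa2 * pb⁻¹ = pa by decide +kernel]
    · exact absurd rfl hnb
    · exact absurd (by decide +kernel) hnb
  -- make it an involution
  have htz : Commute t (ι pz) := (h.comm pz).symm
  have hsqz : s3 * s3 = 1 ∨ s3 * s3 = ι pz := by
    have e1 : Commute (s3 * s3) t := by
      refine mul_inv_eq_iff_eq_mul.1 ?_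
      rw [show s3 * s3 * t * (s3 * s3)⁻¹ = s3 * (s3 * t * s3⁻¹) * s3⁻¹ by group, h3t, cmul, h3t,
        h3z.eq, mul_inv_cancel_right, mul_assoc, h.pp pz (by decide), mul_one]
    obtain ⟨p, hp, hr⟩ := h.cent_local_b e1 (h3e.mul_left h3e) (h3c.mul_left h3c)
      (h3z.mul_left h3z) (h3b.mul_left h3b)
    rcases hr with hr | hr
    · have e2 := h3a.mul_left h3a
      rw [hr] at e2
      have hp' : p = 1 ∨ p = pz := (of_all (L := [1, pz, pb, pz * pb])
        (P := fun p => p * pa = pa * p → p = 1 ∨ p = pz) (by decide +kernel)) p hp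
          (h.commute_ii.1 e2)
      rcases hp' with rfl | rfl
      · exact Or.inl (by rw [hr, map_one])
      · exact Or.inr hr
    · exfalso
      have hps : Commute s3 (ι p) := by
        simp only [List.mem_cons, List.not_mem_nil, or_false] at hp
        rcases hp with rfl | rfl | rfl | rfl
        · rw [map_one]; exact Commute.one_right _
        · exact h3z
        · exact h3b
        · rw [map_mul]; exact h3z.mul_right h3b
      have e3 : s3 * (s3 * s3) * s3⁻¹ = s3 * s3 := by group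
      rw [hr, cmul, h3t, hps.eq, mul_inv_cancel_right] at e3
      exact absurd (h.inj ((mul_eq_left.1 (mul_right_cancel e3)).trans (map_one ι).symm))
        (by decide +kernel)
  obtain ⟨x, hxx, hxt, hxz, hxc, hxe, hxb, hxa⟩ : ∃ x, x * x = 1 ∧ x * t * x⁻¹ = t * ι pz ∧
      Commute x (ι pz) ∧ Commute x (ι pc) ∧ Commute x (ι pe) ∧ Commute x (ι pb) ∧
      Commute x (ι pa) := by
    rcases hsqz with e | e
    · exact ⟨s3, e, h3t, h3z, h3c, h3e, h3b, h3a⟩
    · refine ⟨t * s3, ?_, ?_, (h.comm pz).symm.mul_left h3z, (h.comm pc).symm.mul_left h3c,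
        (h.comm pe).symm.mul_left h3e, (h.comm pb).symm.mul_left h3b,
        (h.comm pa).symm.mul_left h3a⟩
      · rw [show t * s3 * (t * s3) = t * (s3 * t * s3⁻¹) * (s3 * s3) by group, h3t, e, ← mul_assoc t t,
          h.tt, one_mul, h.pp pz (by decide)]
      · rw [show t * s3 * t * (t * s3)⁻¹ = t * (s3 * t * s3⁻¹) * t⁻¹ by group, h3t, mul_assoc t,
          (h.commute_ti pz).inv_right.eq, mul_inv_cancel_left]
  -- the conjugate moving `t` to `t b`
  set w := ι pf * x * (ι pf)⁻¹ with hw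
  have hmv : ∀ p q : Q, pf * p * pf⁻¹ = q → Commute x (ι p) → Commute w (ι q) := by
    intro p q e hp
    have := commute_conj hp (ι pf)
    rwa [h.conj_i, e] at this
  have hwb : Commute w (ι pb) := hmv pz pb (by decide +kernel) hxz
  have hwz : Commute w (ι pz) := hmv (pz * pb) pz (by decide +kernel) (by
    rw [map_mul]; exact hxz.mul_right hxb)
  have hwc : Commute w (ι pc) := hmv pc pc (by decide +kernel) hxc
  have hwe : Commute w (ι pe) := hmv pe pe (by decide +kernel) hxe
  have hww : w * w = 1 := by rw [hw, conj_mul, hxx, mul_one, mul_inv_cancel]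
  have hwt : w * t * w⁻¹ = t * ι pb := by
    rw [show w * t * w⁻¹ = ι pf * (x * ((ι pf)⁻¹ * t * ι pf) * x⁻¹) * (ι pf)⁻¹ by rw [hw]; group,
      show (ι pf)⁻¹ * t * ι pf = t by rw [mul_assoc, ← (h.comm pf).eq, inv_mul_cancel_left], hxt,
      h.conj_ti, show pf * pz * pf⁻¹ = pb by decide +kernel]
  clear_value w
  have hxinv : x⁻¹ = x := inv_eq_of_mul_eq_one_right hxx
  have hwinv : w⁻¹ = w := inv_eq_of_mul_eq_one_right hww
  have hainv : (ι pa)⁻¹ = ι pa := inv_eq_of_mul_eq_one_right (h.pp pa (by decide))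
  -- the dichotomy
  set d := w * ι pa * w * ι pa with hd
  have hdt : d * t * d⁻¹ = t * ι pz := by
    rw [show d * t * d⁻¹ = w * (ι pa * (w * (ι pa * t * (ι pa)⁻¹) * w⁻¹) * (ι pa)⁻¹) * w⁻¹ by
      rw [hd]; group, (h.comm pa).eq, mul_inv_cancel_right, hwt, h.conj_ti,
      show pa * pb * pa⁻¹ = pz * pb by decide +kernel, map_mul, cmul, cmul, hwt, hwz.eq,
      mul_inv_cancel_right, hwb.eq, mul_inv_cancel_right, mul_assoc, ← map_mul, ← map_mul,
      show pb * (pz * pb) = pz by decide +kernel]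
  have hcd : ∀ p : Q, Commute w (ι p) → p * pa = pa * p → Commute d (ι p) := fun p hp hpa =>
    ((hp.mul_left (h.commute_ii.2 hpa.symm)).mul_left hp).mul_left (h.commute_ii.2 hpa.symm)
  have hdb : Commute d (ι pb) := by
    refine mul_inv_eq_iff_eq_mul.1 ?_
    rw [show d * ι pb * d⁻¹ = w * (ι pa * (w * (ι pa * ι pb * (ι pa)⁻¹) * w⁻¹) * (ι pa)⁻¹) * w⁻¹ by
      rw [hd]; group, h.conj_i, show pa * pb * pa⁻¹ = pz * pb by decide +kernel,
      show w * ι (pz * pb) * w⁻¹ = ι (pz * pb) by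
        rw [map_mul, (hwz.mul_right hwb).eq, mul_inv_cancel_right],
      h.conj_i, show pa * (pz * pb) * pa⁻¹ = pb by decide +kernel, hwb.eq, mul_inv_cancel_right]
  obtain ⟨p, hp, hq⟩ := h.cent_local_b (r := x⁻¹ * d) (mul_inv_eq_iff_eq_mul.1 (by
      rw [show x⁻¹ * d * t * (x⁻¹ * d)⁻¹ = x⁻¹ * (d * t * d⁻¹) * x⁻¹⁻¹ by group, hdt, inv_inv,
        ← hxt]
      group))
    (hxe.inv_left.mul_left (hcd _ hwe (by decide +kernel)))
    (hxc.inv_left.mul_left (hcd _ hwc (by decide +kernel)))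
    (hxz.inv_left.mul_left (hcd _ hwz (by decide +kernel)))
    (hxb.inv_left.mul_left hdb)
  have hpx : Commute x (ι p) := by
    simp only [List.mem_cons, List.not_mem_nil, or_false] at hp
    rcases hp with rfl | rfl | rfl | rfl
    · rw [map_one]; exact Commute.one_right _
    · exact hxz
    · exact hxb
    · rw [map_mul]; exact hxz.mul_right hxb
  have hinv : ι pa * d * (ι pa)⁻¹ = d⁻¹ := by
    rw [hd, show ι pa * (w * ι pa * w * ι pa) * (ι pa)⁻¹ = ι pa * w * ι pa * w by group,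
      mul_inv_rev, mul_inv_rev, mul_inv_rev, hwinv, hainv]
    simp only [mul_assoc]
  have hpp : p⁻¹ = p := by
    refine inv_eq_of_mul_eq_one_right ?_
    exact (of_all (L := [1, pz, pb, pz * pb]) (P := fun p => p * p = 1) (by decide +kernel)) p hp
  have hxaa : ι pa * x * (ι pa)⁻¹ = x := by rw [hxa.symm.eq, mul_inv_cancel_right]
  have hcase : (p ∈ [1, pz] ∧ d = x * ι p) ∨ (p ∈ [pb, pz * pb] ∧ d = x * (t * ι p)) := by
    rcases hq with hq | hq <;> rw [inv_mul_eq_iff_eq_mul] at hq <;> rw [hq, cmul, hxaa] at hinv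
    · refine Or.inl ⟨?_, hq⟩
      rw [h.conj_i, mul_inv_rev, ← map_inv, hpp, hxinv, ← hpx.eq, mul_right_inj] at hinv
      exact (of_all (L := [1, pz, pb, pz * pb]) (P := fun p => pa * p * pa⁻¹ = p → p ∈ [1, pz])
        (by decide +kernel)) p hp (h.inj hinv)
    · refine Or.inr ⟨?_, hq⟩
      rw [h.conj_ti, mul_inv_rev, mul_inv_rev, ← map_inv, hpp, hxinv,
        inv_eq_of_mul_eq_one_right h.tt] at hinv
      have e : ι p * t * x = x * (t * ι (pz * p)) := by
        rw [(h.comm p).eq, mul_assoc, ← hpx.eq, ← mul_assoc,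
          show t * x = x * (x * t * x⁻¹) by rw [← mul_assoc, ← mul_assoc, hxx, one_mul, hxinv],
          hxt, mul_assoc x, h.mul_ti]
      rw [e, mul_right_inj] at hinv
      exact (of_all (L := [1, pz, pb, pz * pb])
        (P := fun p => pa * p * pa⁻¹ = pz * p → p ∈ [pb, pz * pb]) (by decide +kernel)) p hp
          (h.ti_inj hinv)
  have hK : IsConj t x ↔ IsConj t w :=
    ⟨fun e => e.trans (isConj_iff.2 ⟨ι pf, hw.symm⟩),
      fun e => e.trans (isConj_iff.2 ⟨ι pf, hw.symm⟩).symm⟩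
  -- normalise by `z`
  have hfin : ∀ x' : G, (x' = x ∨ x' = x * ι pz) → (d = x' ∨ d = x' * t * ι pb) →
      Lifts t ι x' w := by
    intro x' hx' hd'
    have htx : t * x = x * (t * ι pz) := by
      rw [← hxt, ← mul_assoc, ← mul_assoc, hxx, one_mul, hxinv]
    rcases hx' with rfl | rfl
    · exact ⟨hxx, hww, htx, by rw [← hwt, ← mul_assoc, ← mul_assoc, hww, one_mul, hwinv],
        hxa, hxb, hxz, hxc, hxe, hwb, hwz, hwc, hwe, hK, hd'⟩
    · refine ⟨?_, hww, ?_, by rw [← hwt, ← mul_assoc, ← mul_assoc, hww, one_mul, hwinv],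
        hxa.mul_left (h.commute_ii.2 (by decide +kernel)), hxb.mul_left hbz.symm,
        hxz.mul_left (Commute.refl _), hxc.mul_left (h.commute_ii.2 (by decide +kernel)),
        hxe.mul_left (h.commute_ii.2 (by decide +kernel)), hwb, hwz, hwc, hwe, ?_, hd'⟩
      · rw [hxz.symm.mul_mul_mul_comm, hxx, h.pp pz (by decide), one_mul]
      · rw [← mul_assoc, htx, mul_assoc, mul_assoc x (ι pz),
          (htz.mul_left (Commute.refl (ι pz))).eq]
      · exact (h.mul_iff (h.pp pz (by decide)) h.z_notK hxz).trans hK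
  simp only [List.mem_cons, List.not_mem_nil, or_false] at hcase
  rcases hcase with ⟨rfl | rfl, e⟩ | ⟨rfl | rfl, e⟩
  · exact ⟨x, w, hfin x (Or.inl rfl) (Or.inl (by rw [e, map_one, mul_one]))⟩
  · exact ⟨_, w, hfin _ (Or.inr rfl) (Or.inl e)⟩
  · exact ⟨x, w, hfin x (Or.inl rfl) (Or.inr (by rw [e, mul_assoc]))⟩
  · refine ⟨_, w, hfin _ (Or.inr rfl) (Or.inr ?_)⟩
    rw [e, map_mul, ← mul_assoc t, htz.eq]
    simp only [mul_assoc]

variable {x w : G} (L : Lifts t ι x w)
include L

theorem x_inv : x⁻¹ = x := inv_eq_of_mul_eq_one_right L.xx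

theorem w_inv : w⁻¹ = w := inv_eq_of_mul_eq_one_right L.uu

theorem x_t : x * t * x⁻¹ = t * ι pz := by
  rw [h.x_inv L, mul_assoc, L.tx, ← mul_assoc, L.xx, one_mul]

theorem w_t : w * t * w⁻¹ = t * ι pb := by
  rw [h.w_inv L, mul_assoc, L.tu, ← mul_assoc, L.uu, one_mul]

theorem mem_loc {g : G} (hz : Commute g (ι pz)) (hc : Commute g (ι pc)) (he : Commute g (ι pe))
    (hS : ∀ v ∈ four t ι, g * v * g⁻¹ ∈ four t ι) : g ∈ loc t ι := by
  refine mem_inf.2 ⟨mem_set_normalizer_iff.2 fun v => ⟨fun hv => hS v hv, fun hv => ?_⟩, ?_⟩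
  · obtain ⟨v', hv', e⟩ := ((Set.toFinite (four t ι)).injOn_iff_bijOn_of_mapsTo
      (f := fun v => g * v * g⁻¹) (fun v hv => hS v hv)).1 ((MulAut.conj g).injective.injOn)
      |>.surjOn hv
    rwa [← show v' = v from (MulAut.conj g).injective e]
  · rw [mem_centralizer_iff]
    simp only [Set.mem_insert_iff, Set.mem_singleton_iff, forall_eq_or_imp, forall_eq]
    exact ⟨he.eq.symm, hc.eq.symm, hz.eq.symm⟩

theorem loc_commute {g : G} (hg : g ∈ loc t ι) :
    Commute g (ι pe) ∧ Commute g (ι pc) ∧ Commute g (ι pz) := by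
  have := (mem_inf.1 hg).2
  rw [mem_centralizer_iff] at this
  simp only [ Set.mem_insert_iff, Set.mem_singleton_iff, forall_eq_or_imp,
    forall_eq] at this
  exact ⟨this.1.symm, this.2.1.symm, this.2.2.symm⟩

theorem el_mem {p : Q} (hp : p ∈ eight) : ι p ∈ loc t ι ∧ t * ι p ∈ loc t ι := by
  obtain ⟨he, hc, hz, -⟩ := eight_spec p hp
  have hperm : ∀ q ∈ [1, pz, pb, pz * pb], p * q * p⁻¹ ∈ [1, pz, pb, pz * pb] := by
    have h0 := of_all (L := eight) (P := fun p => ([1, pz, pb, pz * pb].all fun q =>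
        decide (p * q ∈ [1 * p, pz * p, pb * p, pz * pb * p])) = true) (by decide +kernel)
    intro q hq
    have := of_all (h0 p hp) q hq
    simp only [List.mem_cons, List.not_mem_nil, or_false] at this ⊢
    rcases this with e | e | e | e <;> simp [e]
  have hS : ∀ v ∈ four t ι, ∃ q ∈ [1, pz, pb, pz * pb], v = t * ι q := by
    intro v hv
    simp only [four, Set.mem_insert_iff, Set.mem_singleton_iff] at hv
    rcases hv with rfl | rfl | rfl | rfl
    · exact ⟨1, by simp, by simp⟩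
    · exact ⟨pz, by simp, rfl⟩
    · exact ⟨pb, by simp, rfl⟩
    · exact ⟨pz * pb, by simp, rfl⟩
  have hmem : ∀ q ∈ [1, pz, pb, pz * pb], t * ι q ∈ four t ι := by
    intro q hq
    simp only [List.mem_cons, List.not_mem_nil, or_false] at hq
    rcases hq with rfl | rfl | rfl | rfl <;> simp [four]
  refine ⟨h.mem_loc L (h.commute_ii.2 hz) (h.commute_ii.2 hc) (h.commute_ii.2 he) fun v hv => ?_,
    h.mem_loc L (h.commute_tii.2 hz) (h.commute_tii.2 hc) (h.commute_tii.2 he) fun v hv => ?_⟩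
  all_goals
    obtain ⟨q, hq, rfl⟩ := hS v hv
  · rw [h.conj_ti]; exact hmem _ (hperm q hq)
  · rw [h.conj_of_decomp (Or.inr rfl) (h.commute_ti q), h.conj_ti]; exact hmem _ (hperm q hq)

theorem x_mem : x ∈ loc t ι := by
  refine h.mem_loc L L.xz L.xc L.xe fun v hv => ?_
  have e1 : ∀ q, Commute x (ι q) → x * (t * ι q) * x⁻¹ = t * ι (pz * q) := fun q hq => by
    rw [cmul, h.x_t L, hq.eq, mul_inv_cancel_right, h.mul_ti]
  simp only [four, Set.mem_insert_iff, Set.mem_singleton_iff] at hv ⊢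
  rcases hv with rfl | rfl | rfl | rfl
  · exact Or.inr (Or.inl (h.x_t L))
  · rw [e1 _ L.xz, show pz * pz = 1 by decide, map_one, mul_one]; exact Or.inl rfl
  · rw [e1 _ L.xb]; exact Or.inr (Or.inr (Or.inr rfl))
  · rw [e1 _ (by rw [map_mul]; exact L.xz.mul_right L.xb),
      show pz * (pz * pb) = pb by decide +kernel]
    exact Or.inr (Or.inr (Or.inl rfl))

theorem w_mem : w ∈ loc t ι := by
  refine h.mem_loc L L.uz L.uc L.ue fun v hv => ?_
  have e1 : ∀ q, Commute w (ι q) → w * (t * ι q) * w⁻¹ = t * ι (pb * q) := fun q hq => by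
    rw [cmul, h.w_t L, hq.eq, mul_inv_cancel_right, h.mul_ti]
  simp only [four, Set.mem_insert_iff, Set.mem_singleton_iff] at hv ⊢
  rcases hv with rfl | rfl | rfl | rfl
  · exact Or.inr (Or.inr (Or.inl (h.w_t L)))
  · rw [e1 _ L.uz, show pb * pz = pz * pb by decide +kernel]; exact Or.inr (Or.inr (Or.inr rfl))
  · rw [e1 _ L.ub, show pb * pb = 1 by decide +kernel, map_one, mul_one]; exact Or.inl rfl
  · rw [e1 _ (by rw [map_mul]; exact L.uz.mul_right L.ub),
      show pb * (pz * pb) = pz by decide +kernel]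
    exact Or.inr (Or.inl rfl)

theorem nf_mem (n : Ix) : nf t ι x w n ∈ loc t ι := by
  obtain ⟨i, j, α, β, k, l⟩ := n
  have hx : bp x i ∈ loc t ι := by cases i; exacts [one_mem _, h.x_mem L]
  have hw : bp w j ∈ loc t ι := by cases j; exacts [one_mem _, h.w_mem L]
  have he : bp t α * ι (pw β k l) ∈ loc t ι := by
    cases α
    · rw [show bp t false = 1 from rfl, one_mul]; exact (h.el_mem L (pw_mem β k l)).1
    · exact (h.el_mem L (pw_mem β k l)).2
  show bp x i * bp w j * bp t α * ι (pw β k l) ∈ loc t ι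
  rw [mul_assoc (bp x i * bp w j)]
  exact mul_mem (mul_mem hx hw) he

theorem nf_bijective :
    Function.Bijective fun n => (⟨nf t ι x w n, h.nf_mem L n⟩ : loc t ι) := by
  have hv : ∀ (i j : Bool), bp x i * bp w j * t * (bp x i * bp w j)⁻¹ =
      t * ι (pw false j i) := by
    intro i j
    cases i <;> cases j <;> simp only [bp, pw, one_mul, mul_one, map_one, inv_one]
    · exact h.w_t L
    · exact h.x_t L
    · rw [show x * w * t * (x * w)⁻¹ = x * (w * t * w⁻¹) * x⁻¹ by group, h.w_t L, cmul, h.x_t L,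
        L.xb.eq, mul_inv_cancel_right, h.mul_ti, show pz * pb = pb * pz by decide +kernel]
  refine ⟨fun m n e => ?_, fun r => ?_⟩
  · obtain ⟨i, j, α, β, k, l⟩ := m
    obtain ⟨i', j', α', β', k', l'⟩ := n
    have e' : bp x i * bp w j * bp t α * ι (pw β k l) =
      bp x i' * bp w j' * bp t α' * ι (pw β' k' l') := congrArg Subtype.val e
    have hm : ∀ (i j α β k l : Bool), bp x i * bp w j * bp t α * ι (pw β k l) * t *
        (bp x i * bp w j * bp t α * ι (pw β k l))⁻¹ = t * ι (pw false j i) := by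
      intro i j α β k l
      rw [← hv, show bp x i * bp w j * bp t α * ι (pw β k l) * t *
        (bp x i * bp w j * bp t α * ι (pw β k l))⁻¹ = (bp x i * bp w j) * (bp t α *
          (ι (pw β k l) * t * (ι (pw β k l))⁻¹) * (bp t α)⁻¹) * (bp x i * bp w j)⁻¹ by group,
        (h.comm _).eq, mul_inv_cancel_right]
      cases α <;> simp [bp]
    have := hm i j α β k l
    rw [e', hm] at this
    obtain ⟨-, rfl, rfl⟩ := pw_inj _ _ _ _ _ _ (h.ti_inj this)
    have e2 : bp t α * ι (pw β k l) = bp t α' * ι (pw β' k' l') := by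
      rw [mul_assoc (bp x i' * bp w j'), mul_assoc (bp x i' * bp w j')] at e'
      exact mul_left_cancel e'
    have := h.el_inj (a₁ := (α, pw β k l)) (a₂ := (α', pw β' k' l')) (by
      cases α <;> cases α' <;> simpa [bp] using e2)
    simp only [Prod.mk.injEq] at this
    obtain ⟨rfl, e3⟩ := this
    obtain ⟨rfl, rfl, rfl⟩ := pw_inj _ _ _ _ _ _ e3
    rfl
  · obtain ⟨r, hr⟩ := r
    have hrt := (mem_set_normalizer_iff.1 hr.1 t).1 (by simp [four])
    obtain ⟨i, j, hij⟩ : ∃ i j, r * t * r⁻¹ = t * ι (pw false j i) := by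
      simp only [four, Set.mem_insert_iff, Set.mem_singleton_iff] at hrt
      rcases hrt with e | e | e | e
      · exact ⟨false, false, by rw [e]; simp [pw, bp]⟩
      · exact ⟨true, false, by rw [e]; simp [pw, bp]⟩
      · exact ⟨false, true, by rw [e]; simp [pw, bp]⟩
      · exact ⟨true, true, by
          rw [e, show pw false true true = pz * pb by decide +kernel]⟩
    set m := bp x i * bp w j with hm
    have hmr : m ∈ loc t ι := by
      have := h.nf_mem L (i, j, false, false, false, false)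
      change bp x i * bp w j * 1 * ι (pw false false false) ∈ loc t ι at this
      rwa [mul_one, show pw false false false = 1 by decide +kernel, map_one, mul_one] at this
    obtain ⟨he, hc, hz⟩ := h.loc_commute L (mul_mem (inv_mem hmr) hr)
    obtain ⟨p, hp, e⟩ := h.cent_local (r := m⁻¹ * r) (mul_inv_eq_iff_eq_mul.1 (by
      rw [show m⁻¹ * r * t * (m⁻¹ * r)⁻¹ = m⁻¹ * (r * t * r⁻¹) * m by group, hij, ← hv, hm]
      group)) he hc hz
    obtain ⟨β, k, l, rfl⟩ := eight_pw p hp
    rcases e with e | e <;> rw [inv_mul_eq_iff_eq_mul] at e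
    · exact ⟨(i, j, false, β, k, l), Subtype.ext (by
        show bp x i * bp w j * 1 * _ = r; rw [mul_one, e])⟩
    · exact ⟨(i, j, true, β, k, l), Subtype.ext (by
        show bp x i * bp w j * t * _ = r; rw [e, mul_assoc (bp x i * bp w j)])⟩

theorem card_loc : Nat.card (loc t ι) = 64 := by
  rw [← Nat.card_eq_of_bijective _ (h.nf_bijective L), Nat.card_eq_fintype_card]
  rfl

theorem exists_nf {r : G} (hr : r ∈ loc t ι) : ∃ n, nf t ι x w n = r := by
  obtain ⟨n, hn⟩ := (h.nf_bijective L).2 ⟨r, hr⟩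
  exact ⟨n, congrArg Subtype.val hn⟩

end Four

end CfsgLib.Invol.TwoTimesSSeven
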