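import Cfsg.Agent.Lib.Invol.TwoTimesSSeven.Local

/-!
# An involution with centralizer `2 × S₇`: the conjugates of `t` in the local group
-/

set_option autoImplicit false
set_option linter.unusedSectionVars false
set_option maxRecDepth 20000

namespace CfsgLib.Invol.TwoTimesSSeven

open Subgroup Equiv CfsgLib.Invol

universe u

/-- Factors commuting with everything can be removed from a commutation. -/
theorem commute_strip {G : Type*} [Group G] {y y' v v' : G} (h : Commute (y * v) (y' * v'))
    (h1 : Commute y v') (h2 : Commute v y') (h3 : Commute v v') : Commute y y' := by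
  have e : y * y' * (v * v') = y' * y * (v * v') := by
    calc y * y' * (v * v') = y * (v * y') * v' := by rw [h2.eq]; group
      _ = y * v * (y' * v') := by group
      _ = y' * (v' * y) * v := by rw [h.eq]; group
      _ = y' * y * (v' * v) := by rw [← h1.eq]; group
      _ = _ := by rw [h3.eq]
  exact mul_right_cancel e

/-- Which normal forms are conjugates of `t` when `u a u a = x t b`. -/
def goodI : Ix → Bool
  | (i, j, α, β, k, _) => if β then !j && !k && (Bool.xor i α) else Bool.xor (Bool.xor i j) α

/-- Which normal forms are conjugates of `t` when `u a u a = x`. -/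
def goodII : Ix → Bool
  | (i, j, α, β, k, _) => if β then !j && α && (k == i) else !i && !j && α

namespace Four

variable {G : Type u} [Group G] [Finite G] {t : G} {ι : Q →* G} (h : Four t ι) {x w : G}
  (L : Lifts t ι x w)
include h L

theorem x_pw (β k l : Bool) : Commute x (ι (pw β k l)) := by
  cases β <;> cases k <;> cases l <;>
    simp only [pw, bp, map_mul, map_one, mul_one, one_mul] <;>
    first
      | exact Commute.one_right _
      | exact L.xa | exact L.xb | exact L.xz
      | exact L.xb.mul_right L.xz | exact L.xb.mul_right L.xa | exact L.xz.mul_right L.xa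
      | exact (L.xb.mul_right L.xz).mul_right L.xa

theorem w_pw (k l : Bool) : Commute w (ι (pw false k l)) := by
  cases k <;> cases l <;> simp only [pw, bp, map_mul, map_one, mul_one, one_mul] <;>
    first
      | exact Commute.one_right _
      | exact L.ub | exact L.uz | exact L.ub.mul_right L.uz

theorem pre_pw (i j α k l : Bool) :
    Commute (bp x i * bp w j * bp t α) (ι (pw false k l)) := by
  refine Commute.mul_left (Commute.mul_left ?_ ?_) ?_
  · cases i; exacts [Commute.one_left _, h.x_pw L false k l]
  · cases j; exacts [Commute.one_left _, h.w_pw L k l]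
  · cases α; exacts [Commute.one_left _, (h.comm _).symm]

theorem commute_b_iff (n : Ix) : Commute (nf t ι x w n) (ι pb) ↔ n.2.2.2.1 = false := by
  obtain ⟨i, j, α, β, k, l⟩ := n
  show Commute (bp x i * bp w j * bp t α * ι (pw β k l)) (ι pb) ↔ β = false
  have hp : Commute (bp x i * bp w j * bp t α) (ι pb) := by
    have := h.pre_pw L i j α true false
    rwa [show pw false true false = pb by decide +kernel] at this
  have hd : ∀ β k l, pw β k l * pb = pb * pw β k l ↔ β = false := by decide +kernel
  refine ⟨fun e => (hd β k l).1 (h.commute_ii.1 ?_),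
    fun e => hp.mul_left (h.commute_ii.2 ((hd β k l).2 e))⟩
  have := hp.inv_left.mul_left e
  rwa [inv_mul_cancel_left] at this

theorem not_of_sq {r : G} (e : r * r ≠ 1) : ¬ IsConj t r := fun hr => e (h.sq_one hr)

theorem ne_one_i {p : Q} (hp : p ≠ 1) : ι p ≠ 1 := fun e => hp (h.inj (e.trans (map_one ι).symm))

theorem x_t_x : x * t * x = t * ι pz := by
  have := h.x_t L
  rwa [h.x_inv L] at this

theorem w_t_w : w * t * w = t * ι pb := by
  have := h.w_t L
  rwa [h.w_inv L] at this

theorem t_x_t : t * x * t = x * ι pz := by
  rw [L.tx, mul_assoc, mul_assoc t, (h.comm pz).eq, ← mul_assoc t, h.tt, one_mul]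

theorem sq_xt : x * t * (x * t) = ι pz := by
  rw [show x * t * (x * t) = x * t * x * t by group, h.x_t_x L, mul_assoc, (h.comm pz).eq,
    ← mul_assoc, h.tt, one_mul]

theorem sq_wt : w * t * (w * t) = ι pb := by
  rw [show w * t * (w * t) = w * t * w * t by group, h.w_t_w L, mul_assoc, (h.comm pb).eq,
    ← mul_assoc, h.tt, one_mul]

theorem awa : ι pa * w * ι pa = w * (w * ι pa * w * ι pa) := by
  rw [← mul_assoc, ← mul_assoc, ← mul_assoc, L.uu, one_mul]

theorem waw : w * ι pa * w = w * ι pa * w * ι pa * ι pa := by
  rw [mul_assoc _ (ι pa) (ι pa), h.pp pa (by decide), mul_one]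

theorem wdw : w * (w * ι pa * w * ι pa) * w = (w * ι pa * w * ι pa)⁻¹ := by
  rw [mul_inv_rev, mul_inv_rev, mul_inv_rev, h.w_inv L,
    show (ι pa)⁻¹ = ι pa from inv_eq_of_mul_eq_one_right (h.pp pa (by decide)),
    ← h.awa L, ← mul_assoc, ← mul_assoc]

/-- Normal forms moving the pairs are not involutions. -/
theorem beta_notK (i α k l : Bool) :
    ¬ IsConj t (bp x i * bp w true * bp t α * ι (pw true k l)) := by
  refine h.not_of_sq L fun e => ?_
  set m := bp x i * bp w true with hm
  set r := m * bp t α * ι (pw true k l) with hr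
  have hconj : ∀ y, r * y * r⁻¹ = m * (bp t α * (ι (pw true k l) * y * (ι (pw true k l))⁻¹) *
      (bp t α)⁻¹) * m⁻¹ := fun y => by rw [hr]; group
  have ht : r * t * r⁻¹ = t * ι (pw false true i) := by
    rw [hconj, (h.comm _).eq, mul_inv_cancel_right,
      show bp t α * t * (bp t α)⁻¹ = t by cases α <;> simp [bp], hm]
    cases i <;> simp only [bp, one_mul, show pw false true false = pb from by decide +kernel,
      show pw false true true = pb * pz from by decide +kernel]
    · exact h.w_t L
    · rw [show x * w * t * (x * w)⁻¹ = x * (w * t * w⁻¹) * x⁻¹ by group, h.w_t L, cmul, h.x_t L,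
        L.xb.eq, mul_inv_cancel_right, h.mul_ti, show pz * pb = pb * pz by decide +kernel]
  have hv : r * ι (pw false true i) * r⁻¹ = ι (pw false true (!i)) := by
    rw [hconj, h.conj_i, (by decide +kernel : ∀ i k l, pw true k l * pw false true i * (pw true k l)⁻¹ =
        pw false true (!i)) i k l]
    have hb : Commute (bp t α) (ι (pw false true !i)) := by
      cases α; exacts [Commute.one_left _, (h.comm _).symm]
    rw [hb.eq, mul_inv_cancel_right]
    have hmc : Commute m (ι (pw false true !i)) := by
      have := h.pre_pw L i true false true (!i)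
      rwa [show bp t false = 1 from rfl, mul_one] at this
    rw [hmc.eq, mul_inv_cancel_right]
  have hfix : r * (r * t * r⁻¹) * r⁻¹ = t := by
    rw [show r * (r * t * r⁻¹) * r⁻¹ = r * r * t * (r * r)⁻¹ by group, e, one_mul, inv_one, mul_one]
  rw [ht, cmul, ht, hv, mul_assoc, ← map_mul] at hfix
  exact h.ne_one_i L ((by decide +kernel :
    ∀ i, pw false true i * pw false true (!i) ≠ 1) i) (mul_eq_left.1 hfix)

theorem orbit_t (k l : Bool) : ∃ g ∈ loc t ι, g * t * g⁻¹ = t * ι (pw false k l) := by
  refine ⟨bp x l * bp w k, Subgroup.mul_mem _ ?_ ?_, ?_⟩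
  · cases l; exacts [Subgroup.one_mem _, h.x_mem L]
  · cases k; exacts [Subgroup.one_mem _, h.w_mem L]
  · cases k <;> cases l <;>
      simp only [bp, one_mul, mul_one, inv_one, pw, map_one]
    · exact h.x_t L
    · exact h.w_t L
    · rw [show x * w * t * (x * w)⁻¹ = x * (w * t * w⁻¹) * x⁻¹ by group, h.w_t L, cmul, h.x_t L,
        L.xb.eq, mul_inv_cancel_right, h.mul_ti, show pz * pb = pb * pz by decide +kernel]

theorem card_K_loc (good : Ix → Bool) (hg : ∀ n, IsConj t (nf t ι x w n) ↔ good n = true) :
    Nat.card {g : G // g ∈ loc t ι ∧ IsConj t g} = Nat.card {n : Ix // good n = true} := by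
  refine (Nat.card_eq_of_bijective (fun n : {n : Ix // good n = true} =>
    (⟨nf t ι x w n.1, h.nf_mem L _, (hg _).2 n.2⟩ : {g : G // g ∈ loc t ι ∧ IsConj t g}))
    ⟨fun m n e => ?_, ?_⟩).symm
  · exact Subtype.ext ((h.nf_bijective L).1 (Subtype.ext (congrArg (fun g => g.1) e)))
  · rintro ⟨g, hgm, hgK⟩
    obtain ⟨n, rfl⟩ := h.exists_nf L hgm
    exact ⟨⟨n, (hg n).1 hgK⟩, rfl⟩

section CaseI

variable (hI : w * ι pa * w * ι pa = x * t * ι pb)
include hI

theorem I_wxw : w * x * w = x * (ι pz * ι pb) := by
  have e := h.wdw L
  rw [hI, mul_inv_rev, mul_inv_rev, h.x_inv L, inv_eq_of_mul_eq_one_right h.tt,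
    inv_eq_of_mul_eq_one_right (h.pp pb (by decide +kernel))] at e
  have e2 : w * (x * t * ι pb) * w = w * x * w * t := by
    calc w * (x * t * ι pb) * w = w * x * w⁻¹⁻¹ * (w⁻¹ * t * w) * (w⁻¹ * ι pb * w) := by group
      _ = w * x * w * (t * ι pb) * ι pb := by
          rw [show w⁻¹ * ι pb * w = ι pb by rw [mul_assoc, ← L.ub.eq, inv_mul_cancel_left],
            inv_inv, h.w_inv L, h.w_t_w L]
      _ = w * x * w * t := by
          rw [mul_assoc, mul_assoc t, h.pp pb (by decide +kernel), mul_one]
  rw [e2, L.tx] at e
  calc w * x * w = w * x * w * t * t := by rw [mul_assoc _ t, h.tt, mul_one]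
    _ = ι pb * (x * (t * ι pz)) * t := by rw [e]
    _ = x * (ι pb * (t * ι pz) * t) := by
        rw [← mul_assoc (ι pb), ← L.xb.eq]; simp only [mul_assoc]
    _ = x * (ι pz * ι pb) := by
        rw [mul_assoc, mul_assoc t, (h.comm pz).eq, ← mul_assoc t, h.tt, one_mul, ← map_mul,
          ← map_mul, show pb * pz = pz * pb by decide +kernel]

theorem I_awa : ι pa * w * ι pa = x * w * t * ι pz := by
  rw [h.awa L, hI]
  calc w * (x * t * ι pb) = w * x * w * (w * t) * ι pb := by
        simp only [mul_assoc]; rw [← mul_assoc w w, L.uu, one_mul]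
    _ = x * (ι pz * ι pb) * (w * t) * ι pb := by rw [h.I_wxw L hI]
    _ = x * (w * t) * ι pz := by
        have hc : Commute (ι pz * ι pb) (w * t) :=
          ((L.uz.symm.mul_left L.ub.symm).mul_right ((h.comm pz).mul_left (h.comm pb)))
        rw [mul_assoc x, hc.eq, mul_assoc, mul_assoc (w * t), mul_assoc (ι pz),
          h.pp pb (by decide +kernel), mul_one, mul_assoc x]
    _ = _ := by simp only [mul_assoc]

theorem I_conj_ta : w * (t * ι pa) * w = x * ι (pz * pa) := by
  calc w * (t * ι pa) * w = w * t * w * (w * ι pa * w) := by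
        simp only [mul_assoc]; rw [← mul_assoc w w, L.uu, one_mul]
    _ = t * ι pb * (x * t * ι pb * ι pa) := by rw [h.w_t_w L, h.waw L, hI]
    _ = t * x * (ι pb * t) * ι pb * ι pa := by
        rw [show t * ι pb * (x * t * ι pb * ι pa) = t * (ι pb * x) * t * ι pb * ι pa by group,
          ← L.xb.eq]
        simp only [mul_assoc]
    _ = x * ι (pz * pa) := by
        rw [(h.comm pb).eq, ← mul_assoc, h.t_x_t L, mul_assoc _ (ι pb) (ι pb),
          h.pp pb (by decide +kernel), mul_one, map_mul, mul_assoc]

theorem I_x_mem : IsConj t x := by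
  have hk : IsConj t (x * ι (pz * pa)) := by
    refine (h.ti_iff.2 (show pa * pa = 1 by decide)).trans (isConj_iff.2 ⟨w, ?_⟩)
    rw [h.w_inv L]; exact h.I_conj_ta L hI
  refine (h.mul_iff (h.pp _ (by decide +kernel)) (h.i_notK _) ?_).1 hk
  rw [map_mul]; exact L.xz.mul_right L.xa

theorem K_nf_I (n : Ix) : IsConj t (nf t ι x w n) ↔ goodI n = true := by
  obtain ⟨i, j, α, β, k, l⟩ := n
  show IsConj t (bp x i * bp w j * bp t α * ι (pw β k l)) ↔ goodI (i, j, α, β, k, l) = true
  have hx := h.I_x_mem L hI
  cases β
  · rw [h.mul_iff (h.pp _ (by revert k l; decide +kernel)) (h.i_notK _) (h.pre_pw L i j α k l)]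
    cases i <;> cases j <;> cases α <;>
      simp only [bp, one_mul, mul_one, goodI, Bool.xor_false, Bool.xor_true, Bool.false_eq_true,
        if_false, Bool.not_false, Bool.not_true, iff_true, iff_false, true_iff, false_iff]
    · exact h.not_isConj_one
    · exact IsConj.refl t
    · exact L.conj_K.1 hx
    · exact h.not_of_sq L (by rw [h.sq_wt L]; exact h.ne_one_i L (by decide +kernel))
    · exact hx
    · exact h.not_of_sq L (by rw [h.sq_xt L]; exact h.ne_one_i L (by decide +kernel))
    · refine h.not_of_sq L ?_
      rw [show x * w * (x * w) = x * (w * x * w) by group, h.I_wxw L hI, ← mul_assoc, L.xx, one_mul,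
        ← map_mul]
      exact h.ne_one_i L (by decide +kernel)
    · have e : IsConj t (x * w * t * ι pz) := by
        refine (L.conj_K.1 hx).trans (isConj_iff.2 ⟨ι pa, ?_⟩)
        rw [inv_eq_of_mul_eq_one_right (h.pp pa (by decide))]; exact h.I_awa L hI
      refine (h.mul_iff (h.pp pz (by decide)) h.z_notK ?_).1 e
      exact ((L.xz.mul_left L.uz).mul_left (h.comm pz).symm)
  · cases j
    · cases i
      · cases α <;> simp only [bp, one_mul, mul_one, goodI, if_true, Bool.not_false, Bool.true_and,
          Bool.xor_false, Bool.false_xor, Bool.and_false, Bool.and_true, Bool.false_eq_true,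
          iff_false]
        · exact h.i_notK _
        · rw [h.ti_iff]; revert k l; decide +kernel
      · cases α <;> simp only [bp, one_mul, mul_one, goodI, if_true, Bool.not_false, Bool.true_and,
          Bool.xor_false, Bool.xor_true, Bool.true_xor, Bool.not_true, Bool.and_false, Bool.and_true,
          Bool.false_eq_true, iff_false]
        · cases k
          · simp only [Bool.not_false, iff_true]
            exact h.K_mul hx (h.pp _ (by revert l; decide +kernel)) (h.i_notK _) (h.x_pw L _ _ _)
          · simp only [Bool.not_true, Bool.false_eq_true, iff_false]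
            refine h.not_of_sq L ?_
            rw [(h.x_pw L _ _ _).symm.mul_mul_mul_comm, L.xx, one_mul, ← map_mul]
            exact h.ne_one_i L (by revert l; decide +kernel)
        · have hc : Commute (x * t) (ι (pw true k l)) := (h.x_pw L _ _ _).mul_left (h.comm _).symm
          cases k
          · refine h.not_of_sq L ?_
            rw [hc.symm.mul_mul_mul_comm, h.sq_xt L, ← map_mul, ← map_mul]
            exact h.ne_one_i L ((by decide +kernel :
              ∀ l, pz * (pw true false l * pw true false l) ≠ 1) l)
          · have e : x * t * ι (pw true true l) = w * ι pa * w * ι (bp pz l) := by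
              rw [h.waw L, hI, show pw true true l = pb * pa * bp pz l from
                (by decide +kernel : ∀ l, pw true true l = pb * pa * bp pz l) l, map_mul, map_mul]
              simp only [mul_assoc]
            rw [e, h.mul_iff (h.pp _ ((by decide +kernel : ∀ l, bp pz l * bp pz l = 1) l))
              (h.i_notK _) ?_]
            · intro e'
              refine h.not_isConj_conj_i w pa ?_
              rwa [h.w_inv L]
            · cases l
              · rw [show bp pz false = 1 from rfl, map_one]; exact Commute.one_right _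
              · exact (L.uz.mul_left (h.commute_ii.2 (by decide +kernel))).mul_left L.uz
    · simp only [goodI, if_true, Bool.not_true, Bool.false_and, Bool.false_eq_true, iff_false]
      exact h.beta_notK L i α k l

theorem card_K_loc_I : Nat.card {g : G // g ∈ loc t ι ∧ IsConj t g} = 20 := by
  rw [h.card_K_loc L goodI (h.K_nf_I L hI), Nat.card_eq_fintype_card]
  decide +kernel

/-- The conjugates of `t` in the local group not centralizing `b`. -/
theorem card_moved_I :
    Nat.card {g : G // g ∈ loc t ι ∧ IsConj t g ∧ ¬ Commute g (ι pb)} = 4 := by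
  refine (Nat.card_eq_of_bijective (fun n : {n : Ix // goodI n = true ∧ n.2.2.2.1 = true} =>
    (⟨nf t ι x w n.1, h.nf_mem L _, (h.K_nf_I L hI _).2 n.2.1, by
      rw [h.commute_b_iff L, n.2.2]; decide⟩ :
      {g : G // g ∈ loc t ι ∧ IsConj t g ∧ ¬ Commute g (ι pb)})) ⟨fun m n e => ?_, ?_⟩).symm.trans
    (Nat.card_eq_fintype_card.trans (by decide +kernel))
  · exact Subtype.ext ((h.nf_bijective L).1 (Subtype.ext (congrArg (fun g => g.1) e)))
  · rintro ⟨g, hg, hgK, hgb⟩
    obtain ⟨n, rfl⟩ := h.exists_nf L hg
    rw [h.commute_b_iff L, Bool.not_eq_false] at hgb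
    exact ⟨⟨n, (h.K_nf_I L hI n).1 hgK, hgb⟩, rfl⟩

theorem ne_tz : t * ι pz ≠ t := fun e => h.ne_one_i L (by decide +kernel) (mul_eq_left.1 e)

theorem classify_I {r : G} (hr : r ∈ loc t ι) (hK : IsConj t r)
    (hc : ∀ g ∈ loc t ι, Commute r (g * r * g⁻¹)) :
    (∃ g ∈ loc t ι, g * t * g⁻¹ = r) ∨ ∃ k l, r = x * ι (pw false k l) := by
  have hnc : ¬ Commute t x := fun e => by
    have := h.x_t_x L
    rw [← e.eq, mul_assoc, L.xx, mul_one] at this
    exact h.ne_tz L hI this.symm
  obtain ⟨⟨i, j, α, β, k, l⟩, rfl⟩ := h.exists_nf L hr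
  have hg := (h.K_nf_I L hI _).1 hK
  have hA : ι pa * ι pa = 1 := h.pp pa (by decide)
  cases β
  · cases j
    · cases i <;> cases α <;> simp [goodI] at hg
      · left
        obtain ⟨g, hg', e⟩ := h.orbit_t L k l
        exact ⟨g, hg', e.trans (by simp [nf, bp])⟩
      · exact Or.inr ⟨k, l, by simp [nf, bp]⟩
    · exfalso
      have hW : ¬ Commute w (x * w * t) := fun e => by
        have e1 : w * (x * w * t) = x * (ι pz * ι pb) * t := by
          rw [← h.I_wxw L hI]; simp only [mul_assoc]
        have e2 : x * w * t * w = x * (ι pb * t) := by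
          rw [(h.comm pb).eq, ← h.w_t_w L]; simp only [mul_assoc]
        rw [e.eq, e2, mul_assoc x (ι pz * ι pb), mul_assoc (ι pz), mul_right_inj,
          right_eq_mul] at e1
        exact h.ne_one_i L (by decide +kernel) e1
      have hr' := hc _ (h.el_mem L (show pa ∈ eight by decide +kernel)).1
      rw [inv_eq_of_mul_eq_one_right hA] at hr'
      obtain ⟨y, hy, hy'⟩ : ∃ y, nf t ι x w (i, true, α, false, k, l) = y * ι (pw false k l) ∧
          ((y = w ∧ ι pa * y * ι pa = x * w * t * ι pz) ∨
            (y = x * w * t ∧ ι pa * y * ι pa = w * ι pz)) := by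
        refine ⟨bp x i * bp w true * bp t α, rfl, ?_⟩
        cases i <;> cases α <;> simp [goodI] at hg
        · exact Or.inl ⟨by simp [bp], by simp only [bp, one_mul, mul_one]; exact h.I_awa L hI⟩
        · refine Or.inr ⟨rfl, ?_⟩
          have e := h.I_awa L hI
          have e' : ι pa * (x * w * t * ι pz) * ι pa = w := by
            rw [← e]
            calc ι pa * (ι pa * w * ι pa) * ι pa = (ι pa * ι pa) * w * (ι pa * ι pa) := by group
              _ = w := by rw [hA, one_mul, mul_one]
          have hzA : ι pz * ι pa * ι pz = ι pa := by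
            rw [← map_mul, ← map_mul, show pz * pa * pz = pa by decide +kernel]
          show ι pa * (x * w * t) * ι pa = w * ι pz
          calc ι pa * (x * w * t) * ι pa = ι pa * (x * w * t) * (ι pz * ι pa * ι pz) := by rw [hzA]
            _ = ι pa * (x * w * t * ι pz) * ι pa * ι pz := by simp only [mul_assoc]
            _ = w * ι pz := by rw [e']
      rw [hy] at hr'
      have hsplit : ι pa * (y * ι (pw false k l)) * ι pa =
          ι pa * y * ι pa * ι (pa * pw false k l * pa) := by
        simp only [map_mul, ← mul_assoc]; rw [mul_assoc _ (ι pa) (ι pa), hA, mul_one]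
      have hvl : pz * (pa * pw false k l * pa) = pw false k (!(Bool.xor l k)) :=
        (by decide +kernel : ∀ k l, pz * (pa * pw false k l * pa) =
          pw false k (!(Bool.xor l k))) k l
      have hvv := (by decide +kernel : ∀ k l k' l',
        pw false k l * pw false k' l' = pw false k' l' * pw false k l) k l k (!(Bool.xor l k))
      rw [hsplit] at hr'
      have hw1 := h.w_pw L k (!(Bool.xor l k))
      have hw2 := h.w_pw L k l
      have hy1 := h.pre_pw L true true true k (!(Bool.xor l k))
      have hy2 := h.pre_pw L true true true k l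
      rcases hy' with ⟨rfl, e⟩ | ⟨rfl, e⟩
      · rw [e, mul_assoc (x * y * t), ← map_mul, hvl] at hr'
        exact hW (commute_strip hr' hw1 hy2.symm (h.commute_ii.2 hvv))
      · rw [e, mul_assoc w, ← map_mul, hvl] at hr'
        exact hW (commute_strip hr' hy1 hw2.symm (h.commute_ii.2 hvv)).symm
  · exfalso
    cases j
    swap
    · simp [goodI] at hg
    have hr' := hc _ (h.w_mem L)
    rw [h.w_inv L] at hr'
    cases k
    swap
    · simp [goodI] at hg
    have hl : Commute w (ι (bp pz l)) := by
      cases l
      · simp only [bp, map_one]; exact Commute.one_right _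
      · exact L.uz
    have hsplit : ∀ y, w * (y * ι (bp pz l)) * w = w * y * w * ι (bp pz l) := fun y => by
      rw [mul_assoc w, mul_assoc y, ← hl.eq, ← mul_assoc y w, ← mul_assoc w, ← mul_assoc w]
    have hnf : ∀ i α, nf t ι x w (i, false, α, true, false, l) =
        bp x i * bp t α * ι pa * ι (bp pz l) := fun i α => by
      show bp x i * 1 * bp t α * ι (pw true false l) = _
      rw [mul_one, mul_assoc (bp x i * bp t α), ← map_mul,
        (by decide +kernel : ∀ l, pw true false l = pa * bp pz l) l]
    rw [hnf, hsplit] at hr'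
    cases i <;> cases α <;> simp [goodI] at hg
    · simp only [bp, one_mul] at hr'
      rw [h.I_conj_ta L hI, mul_assoc t, ← map_mul, mul_assoc x, ← map_mul] at hr'
      exact hnc (commute_strip hr' (h.comm _).symm (by
        have := (h.x_pw L true false l).symm
        rwa [(by decide +kernel : ∀ l, pw true false l = pa * bp pz l) l] at this)
        (h.commute_ii.2 ((by decide +kernel : ∀ l,
          pa * bp pz l * (pz * pa * bp pz l) = pz * pa * bp pz l * (pa * bp pz l)) l)))
    · simp only [bp, mul_one] at hr'
      have e : w * (x * ι pa) * w = t * ι (pz * pa) := by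
        calc w * (x * ι pa) * w = w * x * w * (w * ι pa * w) := by
              simp only [mul_assoc]; rw [← mul_assoc w w, L.uu, one_mul]
          _ = x * (ι pz * ι pb) * (x * t * ι pb * ι pa) := by rw [h.I_wxw L hI, h.waw L, hI]
          _ = x * x * (ι pz * (ι pb * (t * (ι pb * ι pa)))) := by
              rw [show x * (ι pz * ι pb) * (x * t * ι pb * ι pa) =
                x * ((ι pz * ι pb) * x) * (t * (ι pb * ι pa)) by group,
                ← (L.xz.mul_right L.xb).eq]
              simp only [mul_assoc]
          _ = _ := by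
              rw [L.xx, one_mul, ← mul_assoc (ι pb), (h.comm pb).eq, mul_assoc t, ← map_mul,
                ← map_mul, h.mul_it]
              congr 2
              decide +kernel
      rw [e, mul_assoc x, ← map_mul, mul_assoc t, ← map_mul] at hr'
      exact hnc (commute_strip hr' (by
        have := h.x_pw L true false (!l)
        rwa [(by decide +kernel : ∀ l, pw true false (!l) = pz * pa * bp pz l) l] at this)
        (h.comm _) (h.commute_ii.2 ((by decide +kernel : ∀ l,
          pa * bp pz l * (pz * pa * bp pz l) = pz * pa * bp pz l * (pa * bp pz l)) l))).symm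

end CaseI

section CaseII

variable (hII : w * ι pa * w * ι pa = x)
include hII

theorem II_wxw : w * x * w = x := by
  have e := h.wdw L
  rwa [hII, h.x_inv L] at e

theorem II_comm : Commute w x := by
  show w * x = x * w
  calc w * x = w * x * w * w := by rw [mul_assoc _ w w, L.uu, mul_one]
    _ = x * w := by rw [h.II_wxw L hII]

theorem II_awa : ι pa * w * ι pa = w * x := by rw [h.awa L, hII]

theorem II_x_notK : ¬ IsConj t x := fun hx => by
  have hw := L.conj_K.1 hx
  refine h.K_mul_notMem hw hx (h.II_comm L hII) (hw.trans (isConj_iff.2 ⟨ι pa, ?_⟩))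
  rw [inv_eq_of_mul_eq_one_right (h.pp pa (by decide))]
  exact h.II_awa L hII

theorem II_w_notK : ¬ IsConj t w := fun e => h.II_x_notK L hII (L.conj_K.2 e)

theorem II_xw_notK : ¬ IsConj t (x * w) := fun e => by
  refine h.II_w_notK L hII (e.trans (isConj_iff.2 ⟨ι pa, ?_⟩))
  have hA := h.pp pa (by decide)
  rw [inv_eq_of_mul_eq_one_right hA, ← (h.II_comm L hII).eq, ← h.II_awa L hII]
  calc ι pa * (ι pa * w * ι pa) * ι pa = (ι pa * ι pa) * w * (ι pa * ι pa) := by group
    _ = w := by rw [hA, one_mul, mul_one]

theorem II_conj_ta : w * (t * ι pa) * w = t * x * ι (pb * pa) := by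
  calc w * (t * ι pa) * w = w * t * w * (w * ι pa * w) := by
        simp only [mul_assoc]; rw [← mul_assoc w w, L.uu, one_mul]
    _ = t * ι pb * (x * ι pa) := by rw [h.w_t_w L, h.waw L, hII]
    _ = t * x * ι (pb * pa) := by
        rw [mul_assoc t, ← mul_assoc (ι pb), ← L.xb.eq, map_mul]; simp only [mul_assoc]

theorem K_nf_II (n : Ix) : IsConj t (nf t ι x w n) ↔ goodII n = true := by
  obtain ⟨i, j, α, β, k, l⟩ := n
  show IsConj t (bp x i * bp w j * bp t α * ι (pw β k l)) ↔ goodII (i, j, α, β, k, l) = true
  cases β
  · rw [h.mul_iff (h.pp _ (by revert k l; decide +kernel)) (h.i_notK _) (h.pre_pw L i j α k l)]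
    cases i <;> cases j <;> cases α <;>
      simp only [bp, one_mul, mul_one, goodII, Bool.false_eq_true, if_false, Bool.not_false,
        Bool.not_true, Bool.true_and, Bool.and_false, Bool.false_and, iff_true, iff_false]
    · exact h.not_isConj_one
    · exact IsConj.refl t
    · exact h.II_w_notK L hII
    · exact h.not_of_sq L (by rw [h.sq_wt L]; exact h.ne_one_i L (by decide +kernel))
    · exact h.II_x_notK L hII
    · exact h.not_of_sq L (by rw [h.sq_xt L]; exact h.ne_one_i L (by decide +kernel))
    · exact h.II_xw_notK L hII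
    · refine h.not_of_sq L ?_
      have e : x * w * t * (x * w * t) = ι (pz * pb) := by
        calc x * w * t * (x * w * t) = x * (w * (t * x * t) * (t * w * t)) := by
              simp only [mul_assoc]; rw [← mul_assoc t t, h.tt, one_mul]
          _ = x * (w * x * (ι pz * (t * w * t))) := by rw [h.t_x_t L]; simp only [mul_assoc]
          _ = x * (w * x * (ι pz * (w * ι pb))) := by
              rw [show t * w * t = w * ι pb by
                rw [L.tu, mul_assoc, mul_assoc t, (h.comm pb).eq, ← mul_assoc t, h.tt, one_mul]]
          _ = _ := by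
              rw [← mul_assoc (ι pz), ← L.uz.eq, mul_assoc w (ι pz), ← mul_assoc (w * x),
                h.II_wxw L hII, ← mul_assoc, L.xx, one_mul, map_mul]
      rw [e]
      exact h.ne_one_i L (by decide +kernel)
  · cases j
    · cases i
      · cases α <;> simp only [bp, one_mul, mul_one, goodII, if_true, Bool.not_false, Bool.true_and,
          Bool.false_and, Bool.false_eq_true, iff_false]
        · exact h.i_notK _
        · rw [h.ti_iff]; revert k l; decide +kernel
      · cases α <;> simp only [bp, one_mul, mul_one, goodII, if_true, Bool.not_false, Bool.true_and,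
          Bool.and_false, Bool.false_and, Bool.false_eq_true, iff_false]
        · cases k
          · rw [h.mul_iff (h.pp _ (by revert l; decide +kernel)) (h.i_notK _) (h.x_pw L _ _ _)]
            exact h.II_x_notK L hII
          · refine h.not_of_sq L ?_
            rw [(h.x_pw L _ _ _).symm.mul_mul_mul_comm, L.xx, one_mul, ← map_mul]
            exact h.ne_one_i L ((by decide +kernel :
              ∀ l, pw true true l * pw true true l ≠ 1) l)
        · have hc : Commute (x * t) (ι (pw true k l)) := (h.x_pw L _ _ _).mul_left (h.comm _).symm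
          cases k
          · simp only [beq_true, Bool.false_eq_true, iff_false]
            refine h.not_of_sq L ?_
            rw [hc.symm.mul_mul_mul_comm, h.sq_xt L, ← map_mul, ← map_mul]
            exact h.ne_one_i L ((by decide +kernel :
              ∀ l, pz * (pw true false l * pw true false l) ≠ 1) l)
          · simp only [beq_true, iff_true]
            have e : x * t * ι (pw true true l) = w * (t * ι pa) * w * ι (bp pz (!l)) := by
              rw [h.II_conj_ta L hII, mul_assoc (t * x), ← map_mul, L.tx, mul_assoc x t,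
                mul_assoc x, h.mul_ti,
                (by decide +kernel : ∀ l, pz * (pb * pa * bp pz (!l)) = pw true true l) l]
            rw [e]
            refine h.K_mul ((h.ti_iff.2 (show pa * pa = 1 by decide)).trans
              (isConj_iff.2 ⟨w, by rw [h.w_inv L]⟩))
              (h.pp _ ((by decide +kernel : ∀ l, bp pz (!l) * bp pz (!l) = 1) l)) (h.i_notK _) ?_
            have hz : Commute w (ι (bp pz (!l))) := by
              cases l
              · exact L.uz
              · show Commute w (ι 1); rw [map_one]; exact Commute.one_right _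
            exact (hz.mul_left (h.commute_tii.2
              ((by decide +kernel : ∀ l, pa * bp pz (!l) = bp pz (!l) * pa) l))).mul_left hz
    · simp only [goodII, if_true, Bool.not_true, Bool.false_and, Bool.false_eq_true, iff_false]
      exact h.beta_notK L i α k l

theorem card_K_loc_II : Nat.card {g : G // g ∈ loc t ι ∧ IsConj t g} = 8 := by
  rw [h.card_K_loc L goodII (h.K_nf_II L hII), Nat.card_eq_fintype_card]
  decide +kernel

theorem classify_II {r : G} (hr : r ∈ loc t ι) (hK : IsConj t r) :
    (∃ g ∈ loc t ι, g * t * g⁻¹ = r) ∨ ∃ g ∈ loc t ι, g * (t * ι pa) * g⁻¹ = r := by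
  obtain ⟨⟨i, j, α, β, k, l⟩, rfl⟩ := h.exists_nf L hr
  have hg := (h.K_nf_II L hII _).1 hK
  cases β
  · left
    cases i <;> cases j <;> cases α <;> simp [goodII] at hg
    obtain ⟨g, hg', e⟩ := h.orbit_t L k l
    exact ⟨g, hg', e.trans (by simp [nf, bp])⟩
  · right
    cases j
    swap
    · simp [goodII] at hg
    cases α
    · simp [goodII] at hg
    have hk : k = i := by simpa [goodII] using hg
    subst hk
    have hx : x * (t * ι pa) * x⁻¹ = t * ι (pz * pa) := by
      rw [cmul, h.x_t L, L.xa.eq, mul_inv_cancel_right, h.mul_ti]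
    have hw' : w * (t * ι pa) * w⁻¹ = x * t * ι (pz * pb * pa) := by
      rw [h.w_inv L, h.II_conj_ta L hII, L.tx, mul_assoc x, h.mul_ti, ← mul_assoc x, mul_assoc pz]
    cases k <;> cases l
    · exact ⟨1, Subgroup.one_mem _, by simp [nf, bp, pw]⟩
    · refine ⟨x, h.x_mem L, hx.trans ?_⟩
      simp [nf, bp, pw]
    · refine ⟨x * w, Subgroup.mul_mem _ (h.x_mem L) (h.w_mem L), ?_⟩
      rw [show x * w * (t * ι pa) * (x * w)⁻¹ = x * (w * (t * ι pa) * w⁻¹) * x⁻¹ by group, hw',
        cmul, cmul, mul_inv_cancel_right, h.x_t L,
        show x * ι (pz * pb * pa) * x⁻¹ = ι (pz * pb * pa) by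
          rw [show pz * pb * pa = pw true true true by decide +kernel, (h.x_pw L _ _ _).eq,
            mul_inv_cancel_right]]
      show _ = x * 1 * t * ι (pw true true false)
      rw [mul_one, mul_assoc, mul_assoc, ← map_mul,
        show pz * (pz * pb * pa) = pw true true false by decide +kernel, ← mul_assoc]
    · refine ⟨w, h.w_mem L, hw'.trans ?_⟩
      show _ = x * 1 * t * ι (pw true true true)
      rw [mul_one, show pw true true true = pz * pb * pa by decide +kernel]

end CaseII

end Four

end CfsgLib.Invol.TwoTimesSSeven
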