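import Cfsg.Agent.Lib.Invol.ClassSign
import Mathlib.GroupTheory.SpecificGroups.Alternating.Simple
import Mathlib.GroupTheory.Perm.Centralizer
import Mathlib.GroupTheory.Perm.Cycle.Concrete
import Mathlib.Combinatorics.SimpleGraph.DegreeSum

/-!
# Facts on the symmetric group of degree seven
-/

set_option autoImplicit false
set_option maxRecDepth 40000
set_option maxHeartbeats 1000000

namespace CfsgLib.Invol.TwoTimesSSeven

open Equiv Subgroup

/-- The symmetric group of degree seven. -/
abbrev Q : Type := Perm (Fin 7)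

def pa : Q := swap 0 1
def pa2 : Q := swap 2 3
def pc : Q := swap 4 5
def pb : Q := swap 0 2 * swap 1 3
def pz : Q := pa * pa2
def pT : Q := pz * pc
def pe : Q := swap 4 6 * swap 4 5
def pg : Q := swap 0 2 * swap 0 1
def ph : Q := swap 2 6 * swap 2 3
def pf : Q := swap 1 3 * swap 1 2
/-- Interchanges `pa` and `pc`. -/
def sa : Q := swap 0 4 * swap 1 5
/-- Interchanges `pa2` and `pc`. -/
def sb : Q := swap 2 4 * swap 3 5

def pd : Q := pg * pe

def eight : List Q := [1, pa, pa2, pz, pb, pa * pb, pa2 * pb, pz * pb]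
def six : List Q := [1, pc, swap 4 6, swap 5 6, pe, pe * pe]
/-- The centralizer of `pz`. -/
def zlist : List Q := (eight.product six).map fun p => p.1 * p.2
/-- The centralizer of `pz` and `pc`. -/
def dlist : List Q := eight ++ eight.map (· * pc)
/-- The elements generated by `pa`, `pa2` and `pc`. -/
def elist : List Q := [1, pa, pa2, pz, pc, pa * pc, pa2 * pc, pT]

theorem of_all {α : Type*} {L : List α} {P : α → Prop} [DecidablePred P]
    (h : (L.all fun x => decide (P x)) = true) : ∀ x ∈ L, P x := fun x hx =>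
  of_decide_eq_true (List.all_eq_true.1 h x hx)

theorem of_all₂ {α : Type*} {L : List α} {P : α → α → Prop} [∀ a b, Decidable (P a b)]
    (h : (L.all fun x => L.all fun y => decide (P x y)) = true) : ∀ x ∈ L, ∀ y ∈ L, P x y :=
  fun x hx y hy => of_decide_eq_true (List.all_eq_true.1 (List.all_eq_true.1 h x hx) y hy)

theorem disjoint_a_a2 : Perm.Disjoint pa pa2 := by
  intro i; fin_cases i <;> decide

theorem disjoint_z_c : Perm.Disjoint pz pc := by
  intro i; fin_cases i <;> decide

theorem cycleType_swap {i j : Fin 7} (h : i ≠ j) : (swap i j : Q).cycleType = {2} := by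
  rw [(Perm.isCycle_swap h).cycleType, Perm.card_support_swap h]

theorem cycleType_pz : pz.cycleType = {2, 2} := by
  rw [pz, disjoint_a_a2.cycleType_mul, pa, pa2, cycleType_swap (by decide), cycleType_swap (by decide)]
  rfl

theorem cycleType_pT : pT.cycleType = {2, 2, 2} := by
  rw [pT, disjoint_z_c.cycleType_mul, cycleType_pz, pc, cycleType_swap (by decide)]
  rfl

theorem cycleType_pc : pc.cycleType = {2} := cycleType_swap (by decide)

theorem cycleType_pa : pa.cycleType = {2} := cycleType_swap (by decide)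

theorem card_centralizer_pz : Nat.card (centralizer ({pz} : Set Q)) = 48 := by
  rw [Perm.nat_card_centralizer, cycleType_pz]; decide

theorem card_centralizer_pT : Nat.card (centralizer ({pT} : Set Q)) = 48 := by
  rw [Perm.nat_card_centralizer, cycleType_pT]; decide

theorem card_centralizer_pc : Nat.card (centralizer ({pc} : Set Q)) = 240 := by
  rw [Perm.nat_card_centralizer, cycleType_pc]; decide

theorem card_Q : Nat.card Q = 5040 := by
  rw [Nat.card_perm, Nat.card_fin]; decide

theorem card_class_mul (x : Q) :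
    Nat.card {y : Q // IsConj x y} * Nat.card (centralizer ({x} : Set Q)) = 5040 := by
  rw [CfsgLib.Invol.ClassSign.card_class, index_mul_card, card_Q]

theorem zlist_mem {p : Q} : p * pz = pz * p ↔ p ∈ zlist := by
  have hsub : ∀ p ∈ zlist, p * pz = pz * p := of_all (by decide +kernel)
  refine ⟨fun hp => ?_, hsub p⟩
  have hnd : zlist.Nodup := by decide +kernel
  have hlen : zlist.length = 48 := rfl
  have hsub' : zlist.toFinset ⊆ (Set.toFinite ((centralizer ({pz} : Set Q)) : Set Q)).toFinset := by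
    intro q hq
    rw [Set.Finite.mem_toFinset, SetLike.mem_coe, mem_centralizer_singleton_iff]
    exact hsub q (List.mem_toFinset.1 hq)
  have heq := Finset.eq_of_subset_of_card_le hsub' (by
    rw [List.toFinset_card_of_nodup hnd, hlen, ← Nat.card_eq_card_finite_toFinset]
    exact le_of_eq card_centralizer_pz)
  have hmem : p ∈ (Set.toFinite ((centralizer ({pz} : Set Q)) : Set Q)).toFinset := by
    rw [Set.Finite.mem_toFinset, SetLike.mem_coe, mem_centralizer_singleton_iff]; exact hp
  exact List.mem_toFinset.1 (heq ▸ hmem)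

theorem dlist_mem {p : Q} : (p * pz = pz * p ∧ p * pc = pc * p) ↔ p ∈ dlist := by
  have h1 : ∀ q ∈ zlist, q * pc = pc * q → q ∈ dlist := of_all (by decide +kernel)
  have h2 : ∀ q ∈ dlist, q * pz = pz * q ∧ q * pc = pc * q := of_all (by decide +kernel)
  exact ⟨fun h => h1 p (zlist_mem.1 h.1) h.2, h2 p⟩

theorem commute_pz_of {p : Q} (ha : p * pa = pa * p) (h2 : p * pa2 = pa2 * p) :
    p * pz = pz * p := Commute.mul_right ha h2

theorem elist_mem {p : Q} :
    (p * pa = pa * p ∧ p * pa2 = pa2 * p ∧ p * pc = pc * p) ↔ p ∈ elist := by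
  have h1 : ∀ q ∈ zlist, q * pa = pa * q → q * pa2 = pa2 * q → q * pc = pc * q → q ∈ elist :=
    of_all (by decide +kernel)
  have h2 : ∀ q ∈ elist, q * pa = pa * q ∧ q * pa2 = pa2 * q ∧ q * pc = pc * q :=
    of_all (by decide +kernel)
  exact ⟨fun h => h1 p (zlist_mem.1 (commute_pz_of h.1 h.2.1)) h.1 h.2.1 h.2.2, h2 p⟩

/-- The centralizer of `pe`. -/
def elist72 : List Q :=
  ((eight.product [1, pf, pf * pf]).product [1, pe, pe * pe]).map fun p => p.1.1 * p.1.2 * p.2

theorem disjoint_g_e : Perm.Disjoint pg pe := by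
  intro i; fin_cases i <;> decide

theorem cycleType_pe : pe.cycleType = {3} := by
  have h : Perm.IsThreeCycle pe := Perm.isThreeCycle_swap_mul_swap_same (by decide) (by decide) (by decide)
  exact h

theorem cycleType_pd : pd.cycleType = {3, 3} := by
  have h : Perm.IsThreeCycle pg := Perm.isThreeCycle_swap_mul_swap_same (by decide) (by decide) (by decide)
  rw [pd, disjoint_g_e.cycleType_mul, cycleType_pe, show pg.cycleType = {3} from h]
  rfl

theorem three_cases {p : Q} (h : p * p * p = 1) (h1 : p ≠ 1) : IsConj pe p ∨ IsConj pd p := by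
  have h2 : ∀ n ∈ p.cycleType, n = 3 := fun n hn => by
    have hd : n ∣ 3 := (Perm.dvd_of_mem_cycleType hn).trans
      (orderOf_dvd_of_pow_eq_one (by rw [pow_succ, pow_two, h]))
    have ha := Perm.two_le_of_mem_cycleType hn
    rcases (Nat.dvd_prime Nat.prime_three).1 hd with e | e <;> omega
  have hc : p.cycleType = Multiset.replicate p.cycleType.card 3 := Multiset.eq_replicate_card.2 h2
  have hle : p.cycleType.card * 3 ≤ 7 := by
    have := p.sum_cycleType
    rw [hc, Multiset.sum_replicate, smul_eq_mul] at this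
    have := p.support.card_le_univ
    simp only [Fintype.card_fin] at this
    omega
  have hpos : 0 < p.cycleType.card := Perm.card_cycleType_pos.2 h1
  rw [Perm.isConj_iff_cycleType_eq, Perm.isConj_iff_cycleType_eq, cycleType_pe, cycleType_pd, hc]
  obtain h | h : p.cycleType.card = 1 ∨ p.cycleType.card = 2 := by omega
  all_goals rw [h]
  · exact Or.inl rfl
  · exact Or.inr rfl

theorem card_centralizer_pe : Nat.card (centralizer ({pe} : Set Q)) = 72 := by
  rw [Perm.nat_card_centralizer, cycleType_pe]; decide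

theorem card_class_pe : Nat.card {y : Q // IsConj pe y} = 70 := by
  have := card_class_mul pe
  rw [card_centralizer_pe] at this; omega

theorem card_class_pd : Nat.card {y : Q // IsConj pd y} = 280 := by
  have := card_class_mul pd
  rw [show Nat.card (centralizer ({pd} : Set Q)) = 18 by
    rw [Perm.nat_card_centralizer, cycleType_pd]; decide] at this
  omega

theorem elist72_mem {p : Q} : p * pe = pe * p ↔ p ∈ elist72 := by
  have hsub : ∀ p ∈ elist72, p * pe = pe * p := of_all (by decide +kernel)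
  refine ⟨fun hp => ?_, hsub p⟩
  have hnd : elist72.Nodup := by decide +kernel
  have hlen : elist72.length = 72 := rfl
  have hsub' : elist72.toFinset ⊆ (Set.toFinite ((centralizer ({pe} : Set Q)) : Set Q)).toFinset := by
    intro q hq
    rw [Set.Finite.mem_toFinset, SetLike.mem_coe, mem_centralizer_singleton_iff]
    exact hsub q (List.mem_toFinset.1 hq)
  have heq := Finset.eq_of_subset_of_card_le hsub' (by
    rw [List.toFinset_card_of_nodup hnd, hlen, ← Nat.card_eq_card_finite_toFinset]
    exact le_of_eq card_centralizer_pe)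
  have hmem : p ∈ (Set.toFinite ((centralizer ({pe} : Set Q)) : Set Q)).toFinset := by
    rw [Set.Finite.mem_toFinset, SetLike.mem_coe, mem_centralizer_singleton_iff]; exact hp
  exact List.mem_toFinset.1 (heq ▸ hmem)

def trs : List Q := [pa, pa2, swap 0 2, swap 1 3, swap 0 3, swap 1 2]
def dbl : List Q := [pz, pb, pz * pb]

theorem elist72_invol : ∀ q ∈ elist72, q * q = 1 → q ∈ 1 :: (trs ++ dbl) :=
  of_all (by decide +kernel)

theorem trs_spec : ∀ q ∈ trs, q * pe = pe * q ∧ q * q = 1 ∧
    (elist72.any fun s => decide (s * pa * s⁻¹ = q)) = true :=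
  of_all (by decide +kernel)

theorem dbl_spec : ∀ q ∈ dbl, q * pe = pe * q ∧ q * q = 1 ∧
    (elist72.any fun s => decide (s * pz * s⁻¹ = q)) = true :=
  of_all (by decide +kernel)

theorem card_small : (1 :: (trs ++ dbl)).Nodup := by decide +kernel

theorem elist_comm_ph : ∀ p ∈ elist, p * ph = ph * p → p ∈ [1, pa, pc, pa * pc] :=
  of_all (by decide +kernel)

/-- The centralizer of the alternating group on `0, 1, 2, 3, 6`. -/
theorem cent_five {p : Q} (hz : p * pz = pz * p) (hb : p * pb = pb * p) (hg : p * pg = pg * p)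
    (hh : p * ph = ph * p) : p = 1 ∨ p = pc := by
  have h : ∀ q ∈ zlist, q * pb = pb * q → q * pg = pg * q → q * ph = ph * q → q = 1 ∨ q = pc :=
    of_all (by decide +kernel)
  exact h p (zlist_mem.1 hz) hb hg hh

theorem cent_eight_e {p : Q} (ha : p * pa = pa * p) (hb : p * pb = pb * p) (he : p * pe = pe * p)
    (hp : p * p = 1) : p = 1 ∨ p = pz := by
  have h : ∀ q ∈ zlist, q * pa = pa * q → q * pb = pb * q → q * pe = pe * q → q * q = 1 →
      q = 1 ∨ q = pz := of_all (by decide +kernel)
  refine h p (zlist_mem.1 ?_) ha hb he hp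
  have : pz = pa * pb * (pa * pb) := by decide
  rw [this]
  exact (Commute.mul_right ha hb).mul_right (Commute.mul_right ha hb)

theorem dlist_center : ∀ p ∈ dlist, (∀ q ∈ dlist, p * q = q * p) → p ∈ [1, pz, pc, pT] := by
  have h : ∀ p ∈ dlist, (p * pa = pa * p ∧ p * pb = pb * p) → p ∈ [1, pz, pc, pT] :=
    of_all (by decide +kernel)
  exact fun p hp hq => h p hp ⟨hq _ (by simp [dlist, eight]), hq _ (by simp [dlist, eight])⟩

theorem dlist_commutator : ∀ p ∈ dlist, ∀ q ∈ dlist, p * q * p⁻¹ * q⁻¹ = 1 ∨ p * q * p⁻¹ * q⁻¹ = pz := by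
  have h : ∀ p ∈ dlist, ∀ q ∈ dlist, p * q = q * p ∨ p * q = pz * (q * p) :=
    of_all₂ (by decide +kernel)
  intro p hp q hq
  rcases h p hp q hq with e | e
  · exact Or.inl (by rw [e]; group)
  · exact Or.inr (by rw [e]; group)

theorem dlist_comm_pe : ∀ p ∈ dlist, (p * pe = pe * p ↔ p ∈ eight) := of_all (by decide +kernel)

theorem dlist_normalizes_pe : ∀ p ∈ dlist, p * pe * p⁻¹ = pe ∨ p * pe * p⁻¹ = pe⁻¹ := by
  have h : ∀ p ∈ dlist, p * pe = pe * p ∨ p * pe = pe * pe * p := of_all (by decide +kernel)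
  have h3 : pe * pe = pe⁻¹ := eq_inv_of_mul_eq_one_left (by decide)
  intro p hp
  rcases h p hp with e | e
  · exact Or.inl (by rw [e, mul_inv_cancel_right])
  · exact Or.inr (by rw [e, mul_inv_cancel_right, h3])

theorem eight_invol : ∀ p ∈ eight, p * p = 1 → p ∈ [1, pz, pa, pa2, pb, pz * pb] :=
  of_all (by decide +kernel)

theorem eight_center : ∀ p ∈ eight, (∀ q ∈ eight, p * q = q * p) → p = 1 ∨ p = pz := by
  have h : ∀ p ∈ eight, (p * pa = pa * p ∧ p * pb = pb * p) → p = 1 ∨ p = pz :=
    of_all (by decide +kernel)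
  exact fun p hp hq => h p hp ⟨hq _ (by simp [eight]), hq _ (by simp [eight])⟩

/-- Commuting elements of order four have the same square. -/
theorem sq_eq_of_commute {x y : Q} (hxy : Commute x y) (hx4 : x * x * (x * x) = 1) (hx : x * x ≠ 1)
    (hy4 : y * y * (y * y) = 1) (hy : y * y ≠ 1) (hconj : IsConj pz (x * x)) :
    x * x = y * y := by
  obtain ⟨s, hs⟩ := isConj_iff.1 hconj
  set f : Q →* Q := (MulAut.conj s⁻¹).toMonoidHom with hf
  have hfx : f x * f x = pz := by
    rw [← map_mul, hf, MulEquiv.coe_toMonoidHom, MulAut.conj_apply, ← hs]; group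
  have hinj : Function.Injective f := (MulAut.conj s⁻¹).injective
  have hc : Commute (f x) (f y) := hxy.map f
  have h' : ∀ a ∈ zlist, ∀ b ∈ zlist, a * a = pz → a * b = b * a → b * b ≠ 1 →
      b * b * (b * b) = 1 → b * b = pz := of_all₂ (by decide +kernel)
  have h := fun a ha e b hb => h' a ha b hb e
  have hyz : f y * pz = pz * f y := by
    rw [← hfx]; exact (hc.symm.mul_right hc.symm).eq
  have := h (f x) (zlist_mem.1 (by rw [← hfx, mul_assoc])) hfx (f y) (zlist_mem.1 hyz) hc.eq
    (fun e => hy (hinj (by rw [map_mul, e, map_one])))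
    (by rw [← map_mul, ← map_mul, hy4, map_one])
  refine hinj ?_
  rw [map_mul, map_mul, hfx, this]

theorem invol_cases {p : Q} (h : p * p = 1) (h1 : p ≠ 1) :
    IsConj pa p ∨ IsConj pz p ∨ IsConj pT p := by
  have h2 : ∀ n ∈ p.cycleType, n = 2 := fun n hn => by
    have hd : n ∣ 2 := (Perm.dvd_of_mem_cycleType hn).trans
      (orderOf_dvd_of_pow_eq_one (by rw [pow_two, h]))
    have ha := Perm.two_le_of_mem_cycleType hn
    have hb := Nat.le_of_dvd two_pos hd
    omega
  have hc : p.cycleType = Multiset.replicate p.cycleType.card 2 := Multiset.eq_replicate_card.2 h2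
  have hle : p.cycleType.card * 2 ≤ 7 := by
    have := p.sum_cycleType
    rw [hc, Multiset.sum_replicate, smul_eq_mul] at this
    have := p.support.card_le_univ
    simp only [Fintype.card_fin] at this
    omega
  have hpos : 0 < p.cycleType.card := Perm.card_cycleType_pos.2 h1
  rw [Perm.isConj_iff_cycleType_eq, Perm.isConj_iff_cycleType_eq, Perm.isConj_iff_cycleType_eq,
    cycleType_pa, cycleType_pz, cycleType_pT, hc]
  obtain h | h | h : p.cycleType.card = 1 ∨ p.cycleType.card = 2 ∨ p.cycleType.card = 3 := by omega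
  all_goals rw [h]
  · exact Or.inl rfl
  · exact Or.inr (Or.inl rfl)
  · exact Or.inr (Or.inr rfl)

theorem sign_pa : Perm.sign pa = -1 := Perm.sign_swap (by decide)

theorem sign_pc : Perm.sign pc = -1 := Perm.sign_swap (by decide)

theorem sign_pa2 : Perm.sign pa2 = -1 := Perm.sign_swap (by decide)

theorem sign_pz : Perm.sign pz = 1 := by rw [pz, map_mul, sign_pa, sign_pa2]; rfl

theorem sign_pT : Perm.sign pT = -1 := by rw [pT, map_mul, sign_pz, sign_pc]; rfl

theorem sign_conj {x y : Q} (h : IsConj x y) : Perm.sign y = Perm.sign x := by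
  obtain ⟨s, rfl⟩ := isConj_iff.1 h
  rw [map_mul, map_mul, map_inv, mul_comm (Perm.sign s), mul_inv_cancel_right]

theorem isConj_pz_iff {p : Q} : IsConj pz p ↔ p * p = 1 ∧ p ≠ 1 ∧ Perm.sign p = 1 := by
  constructor
  · intro h
    obtain ⟨s, hs⟩ := isConj_iff.1 h
    refine ⟨?_, ?_, (sign_conj h).trans sign_pz⟩
    · rw [← hs, show s * pz * s⁻¹ * (s * pz * s⁻¹) = s * (pz * pz) * s⁻¹ by group,
        show pz * pz = 1 by decide, mul_one, mul_inv_cancel]
    · rintro rfl
      rw [isConj_one_left] at h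
      exact absurd h (by decide)
  · rintro ⟨h, h1, hs⟩
    rcases invol_cases h h1 with h' | h' | h'
    · rw [sign_conj h', sign_pa] at hs; exact absurd hs (by decide)
    · exact h'
    · rw [sign_conj h', sign_pT] at hs; exact absurd hs (by decide)

theorem odd_invol {p : Q} (h : p * p = 1) (hs : Perm.sign p = -1) : IsConj pc p ∨ IsConj pT p := by
  have h1 : p ≠ 1 := by rintro rfl; simp at hs
  rcases invol_cases h h1 with h' | h' | h'
  · exact Or.inl ((isConj_iff.2 ⟨sa, by decide⟩ : IsConj pc pa).trans h')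
  · rw [sign_conj h', sign_pz] at hs; exact absurd hs (by decide)
  · exact Or.inr h'

theorem card_class_pz : Nat.card {y : Q // IsConj pz y} = 105 := by
  have := card_class_mul pz
  rw [card_centralizer_pz] at this; omega

theorem card_class_pc : Nat.card {y : Q // IsConj pc y} = 21 := by
  have := card_class_mul pc
  rw [card_centralizer_pc] at this; omega

theorem card_class_pT : Nat.card {y : Q // IsConj pT y} = 105 := by
  have := card_class_mul pT
  rw [card_centralizer_pT] at this; omega

/-- A double transposition commutes with eight others. -/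
theorem card_neighbours :
    Nat.card {q : Q // IsConj pz q ∧ q * pz = pz * q ∧ q ≠ pz} = 8 := by
  have e : ∀ q : Q, (IsConj pz q ∧ q * pz = pz * q ∧ q ≠ pz) ↔
      q ∈ (zlist.toFinset.filter fun q => q * q = 1 ∧ q ≠ 1 ∧ Perm.sign q = 1 ∧ q ≠ pz) := by
    intro q
    rw [Finset.mem_filter, List.mem_toFinset, isConj_pz_iff, zlist_mem]
    tauto
  rw [Nat.card_congr (Equiv.subtypeEquivRight e), Nat.card_eq_fintype_card, Fintype.card_coe]
  decide +kernel

/-- A symmetric irreflexive relation has an even number of pairs. -/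
theorem even_card_pairs {α : Type*} [Finite α] (R : α → α → Prop) (hs : ∀ a b, R a b → R b a)
    (hi : ∀ a, ¬ R a a) : 2 ∣ Nat.card {p : α × α // R p.1 p.2} := by
  classical
  haveI := Fintype.ofFinite α
  let Γ : SimpleGraph α := { Adj := R, symm := ⟨hs⟩, loopless := ⟨hi⟩ }
  rw [Nat.card_congr (show {p : α × α // R p.1 p.2} ≃ Γ.Dart from
    { toFun := fun p => ⟨p.1, p.2⟩
      invFun := fun d => ⟨d.toProd, d.adj⟩ }), Nat.card_eq_fintype_card,
    Γ.dart_card_eq_twice_card_edges]
  exact Dvd.intro _ rfl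

/-- The points moved by the alternating group of degree five. -/
noncomputable def five : Fin 5 ≃ {i : Fin 7 // i ≠ 4 ∧ i ≠ 5} :=
  Equiv.ofBijective ![⟨0, by decide⟩, ⟨1, by decide⟩, ⟨2, by decide⟩, ⟨3, by decide⟩, ⟨6, by decide⟩]
    (by decide)

/-- The symmetric group on `0, 1, 2, 3, 6`. -/
noncomputable def j5 : Perm (Fin 5) →* Q :=
  (Perm.ofSubtype (p := fun i : Fin 7 => i ≠ 4 ∧ i ≠ 5)).comp five.permCongrHom.toMonoidHom

theorem j5_injective : Function.Injective j5 :=
  Perm.ofSubtype_injective.comp five.permCongrHom.injective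

theorem mem_range_j5 {p : Q} : p ∈ j5.range ↔ p 4 = 4 ∧ p 5 = 5 := by
  constructor
  · rintro ⟨s, rfl⟩
    exact ⟨Perm.ofSubtype_apply_of_not_mem _ (by decide), Perm.ofSubtype_apply_of_not_mem _ (by decide)⟩
  · rintro ⟨h4, h5⟩
    have hiff : ∀ i, (p i ≠ 4 ∧ p i ≠ 5) ↔ (i ≠ 4 ∧ i ≠ 5) := fun i =>
      and_congr (Iff.not (p.injective.eq_iff' h4)) (Iff.not (p.injective.eq_iff' h5))
    refine ⟨five.permCongrHom.symm (p.subtypePerm hiff), ?_⟩
    show Perm.ofSubtype (five.permCongrHom _) = p
    rw [MulEquiv.apply_symm_apply]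
    refine Perm.ofSubtype_subtypePerm hiff fun i hi => ⟨fun h => hi ?_, fun h => hi ?_⟩
    · rw [h, h4]
    · rw [h, h5]

/-- The alternating group on `0, 1, 2, 3, 6`. -/
noncomputable def five' : Subgroup Q := (alternatingGroup (Fin 5)).map j5

theorem sign_j5 (s : Perm (Fin 5)) : Perm.sign (j5 s) = Perm.sign s := by
  show Perm.sign (Perm.ofSubtype (five.permCongrHom s)) = _
  rw [Perm.sign_ofSubtype]
  exact Perm.sign_permCongr _ s

theorem mem_five' {p : Q} : p ∈ five' ↔ p 4 = 4 ∧ p 5 = 5 ∧ Perm.sign p = 1 := by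
  constructor
  · rintro ⟨s, hs, rfl⟩
    exact ⟨(mem_range_j5.1 ⟨s, rfl⟩).1, (mem_range_j5.1 ⟨s, rfl⟩).2,
      (sign_j5 s).trans (Perm.mem_alternatingGroup.1 hs)⟩
  · rintro ⟨h4, h5, hs⟩
    obtain ⟨s, rfl⟩ := mem_range_j5.2 ⟨h4, h5⟩
    exact ⟨s, Perm.mem_alternatingGroup.2 ((sign_j5 s).symm.trans hs), rfl⟩

theorem card_five' : Nat.card five' = 60 := by
  rw [five', card_map_of_injective j5_injective, nat_card_alternatingGroup]
  simp only [Nat.card_fin]
  decide

theorem five'_perfect : ⁅five', five'⁆ = five' := by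
  have h : ⁅alternatingGroup (Fin 5), alternatingGroup (Fin 5)⁆ = alternatingGroup (Fin 5) := by
    rw [← map_subtype_commutator]
    haveI : IsSimpleGroup ↥(alternatingGroup (Fin 5)) := alternatingGroup.isSimpleGroup (by simp)
    rcases (inferInstance : (commutator ↥(alternatingGroup (Fin 5))).Normal).eq_bot_or_eq_top with h | h
    · exfalso
      rw [_root_.commutator_def, commutator_eq_bot_iff_le_centralizer] at h
      have := mem_centralizer_iff.1 (h (mem_top
        (⟨swap 0 1 * swap 2 3, Perm.mem_alternatingGroup.2 (by decide)⟩ : ↥(alternatingGroup (Fin 5)))))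
        ⟨swap 0 1 * swap 1 2, Perm.mem_alternatingGroup.2 (by decide)⟩ (mem_top _)
      exact absurd (congrArg Subtype.val this) (by decide)
    · rw [h, ← MonoidHom.range_eq_map, range_subtype]
  rw [five', ← map_commutator, h]

theorem commutator_cent_pc_le :
    ⁅centralizer ({pc} : Set Q), centralizer ({pc} : Set Q)⁆ ≤ five' := by
  rw [commutator_le]
  intro p hp q hq
  have key : ∀ r ∈ centralizer ({pc} : Set Q), r 4 = 4 ∧ r 5 = 5 ∨ r 4 = 5 ∧ r 5 = 4 := by
    intro r hr
    have hr' := Equiv.ext_iff.1 (mem_centralizer_singleton_iff.1 hr)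
    have h4 := hr' 4
    have h6 : ∀ i : Fin 7, pc i ≠ i → i = 4 ∨ i = 5 := by decide
    have hm : pc (r 4) ≠ r 4 := by
      rw [Perm.mul_apply, Perm.mul_apply, show pc 4 = 5 by decide] at h4
      rw [← h4]
      exact fun e => absurd (r.injective e) (by decide)
    rcases h6 _ hm with e | e
    · refine Or.inl ⟨e, ?_⟩
      rw [Perm.mul_apply, Perm.mul_apply, show pc 4 = 5 by decide, e] at h4
      rw [h4]; decide
    · refine Or.inr ⟨e, ?_⟩
      rw [Perm.mul_apply, Perm.mul_apply, show pc 4 = 5 by decide, e] at h4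
      rw [h4]; decide
  rw [mem_five', commutatorElement_def]
  refine ⟨?_, ?_, by
    simp only [map_mul, map_inv]
    rw [mul_comm (Perm.sign p) (Perm.sign q), mul_inv_cancel_right, mul_inv_cancel]⟩ <;>
  · rcases key p hp with ⟨a, b⟩ | ⟨a, b⟩ <;> rcases key q hq with ⟨c, d⟩ | ⟨c, d⟩ <;>
      simp only [Perm.mul_apply] <;>
      simp [a, b, c, d, p.symm_apply_eq.2 a.symm, p.symm_apply_eq.2 b.symm,
        q.symm_apply_eq.2 c.symm, q.symm_apply_eq.2 d.symm]

end CfsgLib.Invol.TwoTimesSSeven
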