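import Cfsg.Agent.Lib.Invol.TwoTimesSSeven.Perm
import Mathlib.GroupTheory.Sylow
import Mathlib.GroupTheory.PGroup

/-!
# An involution with centralizer `2 × S₇`: the setting
-/

set_option autoImplicit false
set_option linter.unusedSectionVars false
set_option maxRecDepth 10000

namespace CfsgLib.Invol.TwoTimesSSeven

open Subgroup Equiv

universe u

section General

variable {G : Type u} [Group G] [Finite G]

/-- A `2`-subgroup which is not Sylow in `H` is normal of index two in a larger one. -/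
theorem exists_extension {H X : Subgroup G} {k : ℕ} (hX : X ≤ H) (hc : Nat.card X = 2 ^ k)
    (hd : 2 ^ (k + 1) ∣ Nat.card H) : ∃ y ∈ H, y ∉ X ∧ y * y ∈ X ∧
      ∀ x, x ∈ X ↔ y * x * y⁻¹ ∈ X := by
  haveI : Fact (Nat.Prime 2) := ⟨Nat.prime_two⟩
  have hc' : Nat.card (X.subgroupOf H) = 2 ^ k := by
    rw [Nat.card_congr (subgroupOfEquivOfLe hX).toEquiv, hc]
  obtain ⟨Y, hY, hle⟩ := Sylow.exists_subgroup_card_pow_succ hd hc'
  have hidx : ((X.subgroupOf H).subgroupOf Y).index = 2 := by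
    have h := ((X.subgroupOf H).subgroupOf Y).card_mul_index
    rw [Nat.card_congr (subgroupOfEquivOfLe hle).toEquiv, hc', hY, pow_succ] at h
    exact Nat.eq_of_mul_eq_mul_left (pow_pos two_pos k) h
  have hn := normal_of_index_eq_two hidx
  obtain ⟨y, hy⟩ : ∃ y : Y, y ∉ (X.subgroupOf H).subgroupOf Y := by
    by_contra h
    push Not at h
    rw [show (X.subgroupOf H).subgroupOf Y = ⊤ from eq_top_iff.2 fun y _ => h y] at hidx
    simp at hidx
  refine ⟨y.1.1, y.1.2, fun h => hy h, ?_, fun x => ⟨fun hx => ?_, fun hx => ?_⟩⟩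
  · exact Subgroup.mul_self_mem_of_index_two hidx y
  · exact hn.conj_mem ⟨⟨x, hX hx⟩, hle (show (⟨x, hX hx⟩ : H) ∈ X.subgroupOf H from hx)⟩ hx y
  · have hxH : y.1.1 * x * y.1.1⁻¹ ∈ H := hX hx
    have := hn.conj_mem ⟨⟨_, hxH⟩, hle (show (⟨_, hxH⟩ : H) ∈ X.subgroupOf H from hx)⟩ hx y⁻¹
    have hh : (((y⁻¹ * ⟨⟨_, hxH⟩, hle (show (⟨_, hxH⟩ : H) ∈ X.subgroupOf H from hx)⟩ * y⁻¹⁻¹ :
        Y) : H) : G) = x := by
      show y.1.1⁻¹ * (y.1.1 * x * y.1.1⁻¹) * y.1.1⁻¹⁻¹ = x
      group
    rw [← hh]; exact this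

/-- Two Sylow `2`-subgroups of `H` are conjugate in `H`. -/
theorem exists_conj_of_card {H X Y : Subgroup G} {k : ℕ} (hX : X ≤ H) (hY : Y ≤ H)
    (hcX : Nat.card X = 2 ^ k) (hcY : Nat.card Y = 2 ^ k) (hd : ¬ 2 ^ (k + 1) ∣ Nat.card H) :
    ∃ h ∈ H, ∀ x, x ∈ X ↔ h * x * h⁻¹ ∈ Y := by
  haveI : Fact (Nat.Prime 2) := ⟨Nat.prime_two⟩
  have hk : (Nat.card H).factorization 2 = k := by
    apply le_antisymm
    · by_contra hlt
      exact hd ((Nat.pow_dvd_pow 2 (Nat.lt_of_not_le hlt)).trans (Nat.ordProj_dvd _ _))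
    · rw [← Nat.Prime.pow_dvd_iff_le_factorization Nat.prime_two Nat.card_pos.ne', ← hcX]
      exact card_dvd_of_le hX
  let SX : Sylow 2 H := Sylow.ofCard (X.subgroupOf H)
    (by rw [hk, Nat.card_congr (subgroupOfEquivOfLe hX).toEquiv, hcX])
  let SY : Sylow 2 H := Sylow.ofCard (Y.subgroupOf H)
    (by rw [hk, Nat.card_congr (subgroupOfEquivOfLe hY).toEquiv, hcY])
  obtain ⟨h, hh⟩ := MulAction.exists_smul_eq H SX SY
  have hset : ∀ z : H, h * z * h⁻¹ ∈ (SY : Subgroup H) ↔ z ∈ (SX : Subgroup H) := fun z => by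
    rw [← hh, Sylow.coe_subgroup_smul, mem_pointwise_smul_iff_inv_smul_mem]
    simp [MulAut.smul_def, mul_assoc]
  refine ⟨h.1, h.2, fun x => ⟨fun hx => ?_, fun hx => ?_⟩⟩
  · exact (hset ⟨x, hX hx⟩).2 hx
  · have hxH : x ∈ H := by
      have := mul_mem (mul_mem (inv_mem h.2) (hY hx)) h.2
      rwa [show h.1⁻¹ * (h.1 * x * h.1⁻¹) * h.1 = x by group] at this
    exact (hset ⟨x, hxH⟩).1 hx

end General

/-- The setting: `C_G(t)` is the product of `⟨t⟩` and the image of `ι`, and there is no subgroup of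
index two. -/
structure Hyp {G : Type u} [Group G] (t : G) (ι : Q →* G) : Prop where
  invol : orderOf t = 2
  inj : Function.Injective ι
  comm : ∀ p, Commute (ι p) t
  notMem : t ∉ ι.range
  decomp : ∀ y : G, Commute y t → ∃ p, y = ι p ∨ y = t * ι p
  noIndexTwo : ∀ H : Subgroup G, H.index ≠ 2

namespace Hyp

variable {G : Type u} [Group G] [Finite G] {t : G} {ι : Q →* G} (h : Hyp t ι)
include h

theorem tt : t * t = 1 := by rw [← pow_two, ← h.invol, pow_orderOf_eq_one]

theorem t_ne : t ≠ 1 := fun e => by have := h.invol; rw [e, orderOf_one] at this; omega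

theorem mul_tt (p q : Q) : t * ι p * (t * ι q) = ι (p * q) := by
  rw [map_mul, mul_assoc, ← mul_assoc (ι p), (h.comm p).eq, mul_assoc, ← mul_assoc, h.tt, one_mul]

theorem mul_it (p q : Q) : ι p * (t * ι q) = t * ι (p * q) := by
  rw [← mul_assoc, (h.comm p).eq, mul_assoc, map_mul]

theorem mul_ti (p q : Q) : t * ι p * ι q = t * ι (p * q) := by rw [mul_assoc, map_mul]

theorem ne_ti (p q : Q) : ι p ≠ t * ι q := fun e =>
  h.notMem ⟨p * q⁻¹, by rw [map_mul, e, map_inv, mul_inv_cancel_right]⟩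

theorem ti_inj {p q : Q} (e : t * ι p = t * ι q) : p = q := h.inj (mul_left_cancel e)

theorem commute_ti (p : Q) : Commute (t * ι p) t := (Commute.refl t).mul_left (h.comm p)

theorem commute_ii {p q : Q} : Commute (ι p) (ι q) ↔ p * q = q * p :=
  ⟨fun e => h.inj (by rw [map_mul, map_mul]; exact e), fun e => by
    show ι p * ι q = ι q * ι p
    rw [← map_mul, ← map_mul, e]⟩

theorem commute_tii {p q : Q} : Commute (t * ι p) (ι q) ↔ p * q = q * p := by
  constructor
  · intro e
    refine h.ti_inj ?_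
    rw [← h.mul_ti, ← h.mul_it]
    exact e
  · intro e
    exact (h.comm q).symm.mul_left (h.commute_ii.2 e)

theorem commute_titi {p q : Q} : Commute (t * ι p) (t * ι q) ↔ p * q = q * p := by
  constructor
  · intro e
    refine h.inj ?_
    rw [← h.mul_tt, ← h.mul_tt]
    exact e
  · intro e
    show t * ι p * (t * ι q) = t * ι q * (t * ι p)
    rw [h.mul_tt, h.mul_tt, e]

theorem conj_i (s p : Q) : ι s * ι p * (ι s)⁻¹ = ι (s * p * s⁻¹) := by
  rw [map_mul, map_mul, map_inv]

theorem conj_ti (s p : Q) : ι s * (t * ι p) * (ι s)⁻¹ = t * ι (s * p * s⁻¹) := by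
  rw [h.mul_it, ← map_inv, h.mul_ti]

theorem card_cent : Nat.card (centralizer ({t} : Set G)) = 10080 := by
  classical
  let f : Bool × Q → ↥(centralizer ({t} : Set G)) := fun x =>
    ⟨(if x.1 then t else 1) * ι x.2, mem_centralizer_singleton_iff.2 (by
      cases x.1
      · simpa using (h.comm x.2).eq
      · simpa using (h.commute_ti x.2).eq)⟩
  have hf : Function.Bijective f := by
    refine ⟨fun x y e => ?_, fun y => ?_⟩
    · have e' : (if x.1 then t else 1) * ι x.2 = (if y.1 then t else 1) * ι y.2 :=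
        congrArg Subtype.val e
      obtain ⟨a, p⟩ := x
      obtain ⟨b, q⟩ := y
      cases a <;> cases b <;> simp only [Bool.false_eq_true, if_false, if_true, one_mul] at e'
      · rw [h.inj e']
      · exact absurd e' (h.ne_ti p q)
      · exact absurd e'.symm (h.ne_ti q p)
      · rw [h.ti_inj e']
    · obtain ⟨p, e | e⟩ := h.decomp y.1 (mem_centralizer_singleton_iff.1 y.2)
      · exact ⟨(false, p), Subtype.ext (by simp [f, e])⟩
      · exact ⟨(true, p), Subtype.ext (by simp [f, e])⟩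
  rw [← Nat.card_eq_of_bijective f hf, Nat.card_prod, card_Q, Nat.card_eq_fintype_card,
    Fintype.card_bool]

theorem card_G : Nat.card G = Nat.card {y : G // IsConj t y} * 10080 := by
  rw [CfsgLib.Invol.ClassSign.card_class, ← h.card_cent, index_mul_card]

/-- Twisting the complement by the sign. -/
theorem exists_twist : ∃ ι' : Q →* G, Hyp t ι' ∧
    (∀ p, Perm.sign p = 1 → ι' p = ι p) ∧ (∀ p, Perm.sign p = -1 → ι' p = t * ι p) := by
  classical
  let f : Q → G := fun p => if Perm.sign p = 1 then ι p else t * ι p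
  have hne : ((-1 : ℤˣ) = 1) = False := eq_false (by decide)
  have hmul : ∀ p q, f (p * q) = f p * f q := fun p q => by
    rcases Int.units_eq_one_or (Perm.sign p) with hp | hp <;>
      rcases Int.units_eq_one_or (Perm.sign q) with hq | hq <;>
      simp only [f, map_mul (Perm.sign : Q →* ℤˣ), hp, hq, mul_one, one_mul, neg_mul_neg,
        hne, if_true, if_false]
    · exact map_mul ι p q
    · exact (h.mul_it p q).symm
    · exact (h.mul_ti p q).symm
    · exact (h.mul_tt p q).symm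
  refine ⟨MonoidHom.mk' f hmul, ⟨h.invol, fun p q e => ?_, fun p => ?_, ?_, fun y hy => ?_,
    h.noIndexTwo⟩, fun p hp => if_pos hp, fun p hp => if_neg (by rw [hp]; decide)⟩
  · change f p = f q at e
    rcases Int.units_eq_one_or (Perm.sign p) with hp | hp <;>
      rcases Int.units_eq_one_or (Perm.sign q) with hq | hq <;>
      simp only [f, hp, hq, hne, if_true, if_false] at e
    · exact h.inj e
    · exact absurd e (h.ne_ti p q)
    · exact absurd e.symm (h.ne_ti q p)
    · exact h.ti_inj e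
  · show Commute (f p) t
    simp only [f]
    split_ifs
    · exact h.comm p
    · exact h.commute_ti p
  · rintro ⟨p, e⟩
    change f p = t at e
    simp only [f] at e
    split_ifs at e with hs
    · exact h.notMem ⟨p, e⟩
    · have : ι p = 1 := mul_left_cancel (e.trans (mul_one t).symm)
      rw [h.inj (this.trans (map_one ι).symm)] at hs
      simp at hs
  · obtain ⟨p, e | e⟩ := h.decomp y hy
    · refine ⟨p, ?_⟩
      show y = f p ∨ y = t * f p
      simp only [f]
      split_ifs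
      · exact Or.inl e
      · exact Or.inr (by rw [e, ← mul_assoc, h.tt, one_mul])
    · refine ⟨p, ?_⟩
      show y = f p ∨ y = t * f p
      simp only [f]
      split_ifs
      · exact Or.inr e
      · exact Or.inl e

/-- The Sylow `2`-subgroup of `C(t)`. -/
theorem mem_syl {y : G} : y ∈ centralizer ({t, ι pz, ι pc} : Set G) ↔
    ∃ p ∈ dlist, y = ι p ∨ y = t * ι p := by
  have hiff : y ∈ centralizer ({t, ι pz, ι pc} : Set G) ↔
      Commute y t ∧ Commute y (ι pz) ∧ Commute y (ι pc) := by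
    simp only [mem_centralizer_iff, Set.mem_insert_iff, Set.mem_singleton_iff, forall_eq_or_imp,
      forall_eq]
    exact and_congr ⟨fun e => e.symm, fun e => e.symm⟩
      (and_congr ⟨fun e => e.symm, fun e => e.symm⟩ ⟨fun e => e.symm, fun e => e.symm⟩)
  rw [hiff]
  constructor
  · rintro ⟨h1, h2, h3⟩
    obtain ⟨p, rfl | rfl⟩ := h.decomp y h1
    · exact ⟨p, dlist_mem.1 ⟨h.commute_ii.1 h2, h.commute_ii.1 h3⟩, Or.inl rfl⟩
    · exact ⟨p, dlist_mem.1 ⟨h.commute_tii.1 h2, h.commute_tii.1 h3⟩, Or.inr rfl⟩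
  · rintro ⟨p, hp, rfl | rfl⟩
    · exact ⟨h.comm p, h.commute_ii.2 (dlist_mem.2 hp).1, h.commute_ii.2 (dlist_mem.2 hp).2⟩
    · exact ⟨h.commute_ti p, h.commute_tii.2 (dlist_mem.2 hp).1, h.commute_tii.2 (dlist_mem.2 hp).2⟩

end Hyp

/-- The Sylow `2`-subgroup of `C(t)` centralizing `ι pz` and `ι pc`. -/
def syl {G : Type u} [Group G] (t : G) (ι : Q →* G) : Subgroup G :=
  centralizer ({t, ι pz, ι pc} : Set G)

namespace Hyp

variable {G : Type u} [Group G] [Finite G] {t : G} {ι : Q →* G} (h : Hyp t ι)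
include h

theorem syl_le : syl t ι ≤ centralizer ({t} : Set G) :=
  centralizer_le (Set.singleton_subset_iff.2 (Set.mem_insert _ _))

theorem i_mem_syl {p : Q} (hp : p ∈ dlist) : ι p ∈ syl t ι := h.mem_syl.2 ⟨p, hp, Or.inl rfl⟩

theorem ti_mem_syl {p : Q} (hp : p ∈ dlist) : t * ι p ∈ syl t ι := h.mem_syl.2 ⟨p, hp, Or.inr rfl⟩

theorem t_mem_syl : t ∈ syl t ι := by
  have := h.ti_mem_syl (show (1 : Q) ∈ dlist by decide +kernel)
  rwa [map_one, mul_one] at this

theorem card_syl : Nat.card (syl t ι) = 32 := by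
  classical
  have hnd : dlist.Nodup := by decide +kernel
  let f : Bool × {p : Q // p ∈ dlist.toFinset} → ↥(syl t ι) := fun x =>
    ⟨(if x.1 then t else 1) * ι x.2, by
      cases x.1
      · simpa using h.i_mem_syl (List.mem_toFinset.1 x.2.2)
      · simpa using h.ti_mem_syl (List.mem_toFinset.1 x.2.2)⟩
  have hf : Function.Bijective f := by
    refine ⟨fun x y e => ?_, fun y => ?_⟩
    · have e' : (if x.1 then t else 1) * ι x.2.1 = (if y.1 then t else 1) * ι y.2.1 :=
        congrArg Subtype.val e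
      obtain ⟨a, p, hp⟩ := x
      obtain ⟨b, q, hq⟩ := y
      cases a <;> cases b <;> simp only [Bool.false_eq_true, if_false, if_true, one_mul] at e'
      · cases h.inj e'; rfl
      · exact absurd e' (h.ne_ti p q)
      · exact absurd e'.symm (h.ne_ti q p)
      · cases h.ti_inj e'; rfl
    · obtain ⟨p, hp, e | e⟩ := h.mem_syl.1 y.2
      · exact ⟨(false, ⟨p, List.mem_toFinset.2 hp⟩), Subtype.ext (by simp [f, e])⟩
      · exact ⟨(true, ⟨p, List.mem_toFinset.2 hp⟩), Subtype.ext (by simp [f, e])⟩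
  rw [← Nat.card_eq_of_bijective f hf, Nat.card_prod, Nat.card_eq_fintype_card,
    Fintype.card_bool, Nat.card_eq_fintype_card, Fintype.card_coe,
    List.toFinset_card_of_nodup hnd]
  rfl

theorem syl_isPGroup : IsPGroup 2 (syl t ι) := IsPGroup.of_card (n := 5) (by rw [h.card_syl]; rfl)

end Hyp

end CfsgLib.Invol.TwoTimesSSeven
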