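import Cfsg.Agent.Lib.Invol.TwoTimesSSeven.Central

/-!
# An involution with centralizer `2 × S₇`: four conjugates of `t` in the centre
-/

set_option autoImplicit false
set_option linter.unusedSectionVars false
set_option maxRecDepth 20000

namespace CfsgLib.Invol.TwoTimesSSeven

open Subgroup Equiv CfsgLib.Invol

universe u

/-- The pairs of even involutions (or identity) with product a double transposition. -/
theorem card_even_pairs :
    Nat.card {x : Q × Q // (x.2 * x.2 = 1 ∧ x.1 * x.1 = 1 ∧ Perm.sign x.1 = 1 ∧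
      Perm.sign x.2 = 1) ∧ IsConj pz (x.1 * x.2)} = 1050 := by
  classical
  set P : Q × Q → Prop := fun x => (x.2 * x.2 = 1 ∧ x.1 * x.1 = 1 ∧ Perm.sign x.1 = 1 ∧
      Perm.sign x.2 = 1) ∧ IsConj pz (x.1 * x.2) with hP
  have h1 : Nat.card {x : Q × Q // P x ∧ x.1 = 1} = 105 := by
    rw [← card_class_pz]
    refine Nat.card_congr
      { toFun := fun x => ⟨x.1.2, ?_⟩
        invFun := fun q => ⟨(1, q.1), ?_, rfl⟩
        left_inv := fun x => Subtype.ext (Prod.ext x.2.2.symm rfl)
        right_inv := fun q => rfl }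
    · have := x.2.1.2; rwa [x.2.2, one_mul] at this
    · obtain ⟨a, -, c⟩ := isConj_pz_iff.1 q.2
      exact ⟨⟨a, one_mul _, map_one _, c⟩, by rw [one_mul]; exact q.2⟩
  have h9 : Nat.card {x : Q × Q // P x ∧ x.1 = pz} = 9 := by
    have e : ∀ q : Q, P (pz, q) ↔
        q ∈ (zlist.toFinset.filter fun q => q * q = 1 ∧ Perm.sign q = 1 ∧ q ≠ pz) := by
      intro q
      rw [Finset.mem_filter, List.mem_toFinset, ← zlist_mem]
      constructor
      · rintro ⟨⟨hq, hz, -, hs⟩, hc⟩
        obtain ⟨hsq, hne, -⟩ := isConj_pz_iff.1 hc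
        simp only at hq hz hs hsq hne
        have hz' : pz⁻¹ = pz := inv_eq_of_mul_eq_one_right hz
        have hq' : q⁻¹ = q := inv_eq_of_mul_eq_one_right hq
        refine ⟨?_, hq, hs, fun e => hne (by rw [e, hz])⟩
        have := (inv_eq_of_mul_eq_one_right hsq : (pz * q)⁻¹ = pz * q)
        rwa [mul_inv_rev, hz', hq'] at this
      · rintro ⟨hc, hq, hs, hne⟩
        have hz : pz * pz = 1 := by decide
        refine ⟨⟨hq, hz, sign_pz, hs⟩, isConj_pz_iff.2 ⟨?_, fun e => hne ?_, ?_⟩⟩
        · show pz * q * (pz * q) = 1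
          rw [mul_assoc, ← mul_assoc q, hc, mul_assoc pz q q, hq, mul_one, hz]
        · exact ((eq_inv_of_mul_eq_one_right e).trans (inv_eq_of_mul_eq_one_right hz))
        · show Perm.sign (pz * q) = 1
          rw [map_mul, sign_pz, hs, one_mul]
    rw [Nat.card_congr (show {x : Q × Q // P x ∧ x.1 = pz} ≃
        {q // q ∈ (zlist.toFinset.filter fun q => q * q = 1 ∧ Perm.sign q = 1 ∧ q ≠ pz)} from
      { toFun := fun x => ⟨x.1.2, (e _).1 (by
          have := x.2.1
          rwa [show x.1 = (pz, x.1.2) from Prod.ext x.2.2 rfl] at this)⟩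
        invFun := fun q => ⟨(pz, q.1), (e _).2 q.2, rfl⟩
        left_inv := fun x => Subtype.ext (Prod.ext x.2.2.symm rfl)
        right_inv := fun q => rfl }), Nat.card_eq_fintype_card, Fintype.card_coe]
    decide +kernel
  have hf := card_fibre (H := Q) (fun s (x : Q × Q) => (s * x.1 * s⁻¹, s * x.2 * s⁻¹))
    Prod.fst P (fun s x => Prod.ext (by simp only; group) (by simp only; group)) (fun _ _ => rfl)
    (fun s x hx => ?_) pz
  · rw [card_class_pz, h9] at hf
    rw [Nat.card_congr (show {x : Q × Q // P x} ≃ {x // P x ∧ x.1 = 1} ⊕ {x // P x ∧ IsConj pz x.1}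
      from (Equiv.subtypeEquivRight fun x => ⟨fun hx => ?_, fun e => e.elim (·.1) (·.1)⟩).trans
        (subtypeOrEquiv _ _ (Pi.disjoint_iff.2 fun x => Prop.disjoint_iff.2
          (by rintro ⟨a, b⟩; exact (isConj_pz_iff.1 b.2).2.1 a.2)))), Nat.card_sum, h1, hf]
    by_cases hx1 : x.1 = 1
    · exact Or.inl ⟨hx, hx1⟩
    · exact Or.inr ⟨hx, isConj_pz_iff.2 ⟨hx.1.2.1, hx1, hx.1.2.2.1⟩⟩
  · obtain ⟨⟨a, b, c, d⟩, e⟩ := hx
    refine ⟨⟨?_, ?_, ?_, ?_⟩, e.trans (isConj_iff.2 ⟨s, by simp only; group⟩)⟩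
    · show s * x.2 * s⁻¹ * (s * x.2 * s⁻¹) = 1
      rw [show s * x.2 * s⁻¹ * (s * x.2 * s⁻¹) = s * (x.2 * x.2) * s⁻¹ by group, a, mul_one,
        mul_inv_cancel]
    · show s * x.1 * s⁻¹ * (s * x.1 * s⁻¹) = 1
      rw [show s * x.1 * s⁻¹ * (s * x.1 * s⁻¹) = s * (x.1 * x.1) * s⁻¹ by group, b, mul_one,
        mul_inv_cancel]
    · exact (sign_conj (isConj_iff.2 ⟨s, rfl⟩)).trans c
    · exact (sign_conj (isConj_iff.2 ⟨s, rfl⟩)).trans d

namespace Hyp

variable {G : Type u} [Group G] [Finite G] {t : G} {ι : Q →* G} (h : Hyp t ι)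
include h

/-- The two odd classes lie in the class of `t` together. -/
theorem pc_iff_pT : IsConj t (ι pc) ↔ IsConj t (ι pT) := by
  have hpar := h.parity
  have hev := h.even_class
  have hne : ¬ IsConj pc pT := by
    rw [Perm.isConj_iff_cycleType_eq, cycleType_pc, cycleType_pT]; decide
  have hcl : ∀ p : Q, IsConj t (ι p) → IsConj pc p ∨ IsConj pT p := by
    intro p hp
    have h1 : p ≠ 1 := by rintro rfl; rw [map_one] at hp; exact h.not_isConj_one hp
    refine odd_invol (h.sq_of_isConj_i hp) ((Int.units_eq_one_or _).resolve_left fun e => ?_)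
    exact h.z_notK (hp.trans (h.isConj_i (isConj_pz_iff.2 ⟨h.sq_of_isConj_i hp, h1, e⟩).symm))
  constructor <;> intro hx <;> by_contra hy
  · rw [Nat.card_congr (Equiv.subtypeEquivRight (q := IsConj pc) fun p =>
      ⟨fun e => (hcl p e).resolve_right fun e' => hy (e.trans (h.isConj_i e'.symm)),
        fun e => hx.trans (h.isConj_i e)⟩), card_class_pc] at hpar
    omega
  · rw [Nat.card_congr (Equiv.subtypeEquivRight (q := IsConj pT) fun p =>
      ⟨fun e => (hcl p e).resolve_left fun e' => hy (e.trans (h.isConj_i e'.symm)),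
        fun e => hx.trans (h.isConj_i e)⟩), card_class_pT] at hpar
    omega

theorem ti_pc_iff_pT : IsConj t (t * ι pc) ↔ IsConj t (t * ι pT) := by
  obtain ⟨ι', h', -, ho⟩ := h.exists_twist
  have := h'.pc_iff_pT
  rwa [ho _ sign_pc, ho _ sign_pT] at this

/-- The conjugates of `t` in `C(t)`. -/
theorem isConj_el_iff (hs : IsConj t (ι pc) ↔ IsConj t (t * ι pc)) (i : Bool) (p : Q) :
    IsConj t (if i then t * ι p else ι p) ↔
      (p * p = 1 ∧ ((i = true ∧ Perm.sign p = 1) ∨ (IsConj t (ι pc) ∧ Perm.sign p = -1))) := by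
  constructor
  · intro hp
    have hsq : p * p = 1 := by
      cases i
      · exact h.sq_of_isConj_i hp
      · exact h.sq_of_isConj_ti hp
    refine ⟨hsq, ?_⟩
    rcases Int.units_eq_one_or (Perm.sign p) with e | e
    · left
      refine ⟨?_, e⟩
      cases i
      · exfalso
        by_cases h1 : p = 1
        · subst h1
          exact h.not_isConj_one (by simpa using hp)
        · exact h.z_notK (IsConj.trans hp (h.isConj_i (isConj_pz_iff.2 ⟨hsq, h1, e⟩).symm))
      · rfl
    · right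
      refine ⟨?_, e⟩
      cases i
      · rcases odd_invol hsq e with c | c
        · exact IsConj.trans hp (h.isConj_i c.symm)
        · exact h.pc_iff_pT.2 (IsConj.trans hp (h.isConj_i c.symm))
      · rcases odd_invol hsq e with c | c
        · exact hs.2 (IsConj.trans hp (h.isConj_ti c.symm))
        · exact hs.2 (h.ti_pc_iff_pT.2 (IsConj.trans hp (h.isConj_ti c.symm)))
  · rintro ⟨hsq, ⟨rfl, e⟩ | ⟨hc, e⟩⟩
    · by_cases h1 : p = 1
      · subst h1
        show IsConj t (t * ι 1)
        rw [map_one, mul_one]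
      · exact h.isConj_tz.trans (h.isConj_ti (isConj_pz_iff.2 ⟨hsq, h1, e⟩))
    · cases i
      · rcases odd_invol hsq e with c | c
        · exact hc.trans (h.isConj_i c)
        · exact (h.pc_iff_pT.1 hc).trans (h.isConj_i c)
      · rcases odd_invol hsq e with c | c
        · exact (hs.1 hc).trans (h.isConj_ti c)
        · exact (h.ti_pc_iff_pT.1 (hs.1 hc)).trans (h.isConj_ti c)

/-- The class of `t` has size divisible by four when both or no odd classes meet it. -/
theorem four_dvd_class (hs : IsConj t (ι pc) ↔ IsConj t (t * ι pc)) :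
    4 ∣ Nat.card {y : G // IsConj t y} := by
  obtain ⟨s, hn, hse, -, hst⟩ := h.exists_move_tz
  have hz := h.nrm_z hn
  have hzz : pz * pz = 1 := by decide
  set x := s * ι pb * s⁻¹ with hx
  have hxs : x ∈ syl t ι := (hn _).1 (h.i_mem_syl (by decide +kernel))
  have hxe : Commute x (ι pe) := by
    have h1 : Commute x (s * ι pe * s⁻¹) := by
      show s * ι pb * s⁻¹ * (s * ι pe * s⁻¹) = s * ι pe * s⁻¹ * (s * ι pb * s⁻¹)
      calc s * ι pb * s⁻¹ * (s * ι pe * s⁻¹) = s * (ι pb * ι pe) * s⁻¹ := by group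
        _ = s * (ι pe * ι pb) * s⁻¹ := by rw [(h.commute_ii.2 (by decide +kernel) : Commute (ι pb) (ι pe)).eq]
        _ = _ := by group
    rcases hse with e | e
    · rwa [e] at h1
    · rw [e] at h1; simpa using h1.inv_right
  have hcz : ∀ q ∈ [pb, pz * pb], IsConj pz q := fun q hq =>
    isConj_pz_iff.2 ((of_all (L := [pb, pz * pb])
      (P := fun q => q * q = 1 ∧ q ≠ 1 ∧ Perm.sign q = 1) (by decide +kernel)) q hq)
  have hxK : ¬ IsConj t x := fun e =>
    h.z_notK (e.trans ((isConj_iff.2 ⟨s, rfl⟩).symm.trans (h.isConj_i (hcz pb (by simp)).symm)))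
  have htb : IsConj t (t * ι pz * x) := by
    refine (h.isConj_tz.trans (h.isConj_ti (hcz pb (by simp)))).trans (isConj_iff.2 ⟨s, ?_⟩)
    rw [hx, ← hst]; group
  have hxb : x = ι pb ∨ x = ι (pz * pb) := by
    obtain ⟨p, hp, hxp⟩ := h.mem_syl.1 hxs
    have hpe : p * pe = pe * p := by
      rcases hxp with e | e <;> rw [e] at hxe
      · exact h.commute_ii.1 hxe
      · exact h.commute_tii.1 hxe
    have hsq : p * p = 1 := by
      have e1 : x * x = 1 := by
        rw [hx, show s * ι pb * s⁻¹ * (s * ι pb * s⁻¹) = s * (ι pb * ι pb) * s⁻¹ by group,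
          ← map_mul, show pb * pb = 1 by decide +kernel, map_one, mul_one, mul_inv_cancel]
      rcases hxp with e | e <;> rw [e] at e1
      · exact h.inj (by rw [map_mul, map_one]; exact e1)
      · exact h.inj (by rw [map_one, ← h.mul_tt]; exact e1)
    have hp8 := eight_invol p ((dlist_comm_pe p hp).1 hpe) hsq
    rcases hxp with e | e
    · simp only [List.mem_cons, List.not_mem_nil, or_false] at hp8
      rcases hp8 with rfl | rfl | rfl | rfl | rfl | rfl
      · exfalso
        rw [hx, map_one, conj_eq_one_iff] at e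
        exact absurd (h.inj (e.trans (map_one ι).symm)) (by decide +kernel)
      · exfalso
        rw [hx, ← hz] at e
        exact absurd (h.inj (mul_left_cancel (mul_right_cancel e))) (by decide +kernel)
      all_goals first
        | exact Or.inl e
        | exact Or.inr e
        | (exfalso
           rw [e] at htb hxK
           rw [mul_assoc, ← map_mul] at htb
           obtain ⟨-, ⟨-, hbad⟩ | ⟨hc, -⟩⟩ := (h.isConj_el_iff hs true _).1 htb
           · exact absurd hbad (by decide +kernel)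
           · exact hxK ((h.isConj_el_iff hs false _).2 ⟨hsq, Or.inr ⟨hc, by decide +kernel⟩⟩))
    · exfalso
      rw [e] at htb hxK
      rw [h.mul_tt] at htb
      obtain ⟨-, ⟨hbad, -⟩ | ⟨hc, hsg⟩⟩ := (h.isConj_el_iff hs false _).1 htb
      · simp at hbad
      · rw [map_mul, sign_pz, one_mul] at hsg
        exact hxK ((h.isConj_el_iff hs true _).2 ⟨hsq, Or.inr ⟨hc, hsg⟩⟩)
  -- the stabiliser of the four conjugates
  set S : Set G := {t, t * ι pz, t * ι pb, t * ι (pz * pb)} with hS
  set NV := normalizer S with hNV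
  have hclosed : ∀ g : G, (∀ v ∈ S, g * v * g⁻¹ ∈ S) → g ∈ NV := fun g hg => by
    refine mem_set_normalizer_iff.2 fun v => ⟨fun hv => hg v hv, fun hv => ?_⟩
    have hsur := (Set.toFinite S).surjOn_iff_bijOn_of_mapsTo (f := fun v => g * v * g⁻¹)
      (fun v hv => hg v hv)
    obtain ⟨w, hw, e⟩ := ((Set.toFinite S).injOn_iff_bijOn_of_mapsTo (f := fun v => g * v * g⁻¹)
      (fun v hv => hg v hv)).1 ((MulAut.conj g).injective.injOn) |>.surjOn hv
    rwa [← show w = v from (MulAut.conj g).injective e]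
  have hmemS : ∀ {q : Q}, q ∈ [1, pz, pb, pz * pb] → t * ι q ∈ S := by
    intro q hq
    simp only [List.mem_cons, List.not_mem_nil, or_false] at hq
    rcases hq with rfl | rfl | rfl | rfl <;> simp [S]
  have hSlist : ∀ v ∈ S, ∃ q ∈ [1, pz, pb, pz * pb], v = t * ι q := by
    intro v hv
    simp only [S, Set.mem_insert_iff, Set.mem_singleton_iff] at hv
    rcases hv with rfl | rfl | rfl | rfl
    · exact ⟨1, by simp, by simp⟩
    · exact ⟨pz, by simp, rfl⟩
    · exact ⟨pb, by simp, rfl⟩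
    · exact ⟨pz * pb, by simp, rfl⟩
  have hperm : ∀ r ∈ dlist ++ [pf], ∀ q ∈ [1, pz, pb, pz * pb],
      r * q * r⁻¹ ∈ [1, pz, pb, pz * pb] := by
    have h0 : ∀ r ∈ dlist ++ [pf], ∀ q ∈ [1, pz, pb, pz * pb],
        r * q ∈ [r, pz * r, pb * r, pz * pb * r] := by
      have := of_all (L := dlist ++ [pf]) (P := fun r => ([1, pz, pb, pz * pb].all fun q =>
        decide (r * q ∈ [r, pz * r, pb * r, pz * pb * r])) = true) (by decide +kernel)
      exact fun r hr => of_all (this r hr)
    intro r hr q hq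
    have := h0 r hr q hq
    simp only [List.mem_cons, List.not_mem_nil, or_false] at this ⊢
    rcases this with e | e | e | e <;> rw [e]
    · left; group
    · right; left; group
    · right; right; left; group
    · right; right; right; group
  have hsylN : syl t ι ≤ NV := by
    intro y hy
    obtain ⟨r, hr, hy'⟩ := h.mem_syl.1 hy
    refine hclosed y fun v hv => ?_
    obtain ⟨q, hq, rfl⟩ := hSlist v hv
    have e : y * (t * ι q) * y⁻¹ = t * ι (r * q * r⁻¹) := by
      rcases hy' with rfl | rfl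
      · exact h.conj_ti r q
      · calc t * ι r * (t * ι q) * (t * ι r)⁻¹ = t * (ι r * (t * ι q) * (ι r)⁻¹) * t⁻¹ := by group
          _ = _ := by rw [h.conj_ti, mul_assoc t (t * ι _), (h.commute_ti _).inv_right.eq,
                ← mul_assoc t, mul_inv_cancel, one_mul]
    rw [e]
    exact hmemS (hperm r (List.mem_append_left _ hr) q hq)
  have hfN : ι pf ∈ NV := by
    refine hclosed _ fun v hv => ?_
    obtain ⟨q, hq, rfl⟩ := hSlist v hv
    rw [h.conj_ti]
    exact hmemS (hperm pf (by simp) q hq)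
  have hsz : ∀ y, s * (t * y) * s⁻¹ = t * ι pz * (s * y * s⁻¹) := fun y => by rw [← hst]; group
  have htwo : t * ι pz * ι pz = t := by rw [mul_assoc, ← map_mul, hzz, map_one, mul_one]
  have hsN : s ∈ NV := by
    refine hclosed _ fun v hv => ?_
    simp only [S, Set.mem_insert_iff, Set.mem_singleton_iff] at hv
    have hcases : t * ι pz * x ∈ S ∧ t * ι pz * (ι pz * x) ∈ S := by
      have hc1 : pz * (pz * pb) = pb := by decide +kernel
      rcases hxb with e | e <;> rw [e] <;> constructor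
      · rw [h.mul_ti]; exact hmemS (by simp)
      · rw [← mul_assoc, htwo]; exact hmemS (by simp)
      · rw [h.mul_ti, hc1]; exact hmemS (by simp)
      · rw [← mul_assoc, htwo]; exact hmemS (by simp)
    rcases hv with rfl | rfl | rfl | rfl
    · rw [hst]; exact hmemS (by simp)
    · rw [hsz, hz, htwo]; simp [S]
    · rw [hsz, ← hx]; exact hcases.1
    · rw [hsz, map_mul, show s * (ι pz * ι pb) * s⁻¹ = (s * ι pz * s⁻¹) * (s * ι pb * s⁻¹) by group,
        hz, ← hx]
      exact hcases.2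
  have htS : t ∈ S := by simp [S]
  have hcard : Nat.card {y : NV // ∃ g : NV, g.1 * t * g.1⁻¹ = y.1} = 4 := by
    classical
    rw [Nat.card_congr (show {y : NV // ∃ g : NV, g.1 * t * g.1⁻¹ = y.1} ≃ ↥S from
      { toFun := fun y => ⟨y.1.1, by
          obtain ⟨g, hg⟩ := y.2
          exact hg ▸ (mem_set_normalizer_iff.1 g.2 t).1 htS⟩
        invFun := fun v => ⟨⟨v.1, by
            obtain ⟨q, hq, e⟩ := hSlist v.1 v.2
            rw [e]
            refine hsylN (h.ti_mem_syl ?_)
            exact (of_all (L := [1, pz, pb, pz * pb]) (P := fun q => q ∈ dlist)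
              (by decide +kernel)) q hq⟩, by
          have hstep : ∀ g ∈ NV, ∀ v : G, (∃ g' : NV, g'.1 * t * g'.1⁻¹ = v) →
              ∃ g' : NV, g'.1 * t * g'.1⁻¹ = g * v * g⁻¹ := fun g hg v ⟨g', e⟩ =>
            ⟨⟨g, hg⟩ * g', by rw [← e]; show g * g'.1 * t * (g * g'.1)⁻¹ = _; group⟩
          have h0 : ∃ g' : NV, g'.1 * t * g'.1⁻¹ = t := ⟨1, by simp⟩
          have h1 : ∃ g' : NV, g'.1 * t * g'.1⁻¹ = t * ι pz := hst ▸ hstep s hsN t h0
          have h2 : ∃ g' : NV, g'.1 * t * g'.1⁻¹ = t * ι pb := by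
            have := hstep _ hfN _ h1
            rwa [h.conj_ti, show pf * pz * pf⁻¹ = pb by decide +kernel] at this
          have h3 : ∃ g' : NV, g'.1 * t * g'.1⁻¹ = t * ι (pz * pb) := by
            have := hstep _ hfN _ h2
            rwa [h.conj_ti, show pf * pb * pf⁻¹ = pz * pb by decide +kernel] at this
          have hv := v.2
          simp only [S, Set.mem_insert_iff, Set.mem_singleton_iff] at hv
          rcases hv with e | e | e | e <;> simp only [e] <;> assumption⟩
        left_inv := fun y => rfl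
        right_inv := fun v => rfl }), Nat.card_eq_fintype_card]
    have hne : ∀ {p q : Q}, p ≠ q → t * ι p ≠ t * ι q := fun hpq e => hpq (h.ti_inj e)
    have e1 : t = t * ι 1 := by simp
    rw [← Set.toFinset_card]
    simp only [S, Set.toFinset_insert, Set.toFinset_singleton]
    rw [Finset.card_insert_of_notMem, Finset.card_insert_of_notMem, Finset.card_insert_of_notMem,
      Finset.card_singleton]
    · simp only [Finset.mem_singleton]; exact hne (by decide +kernel)
    · simp only [Finset.mem_insert, Finset.mem_singleton, not_or]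
      exact ⟨hne (by decide +kernel), hne (by decide +kernel)⟩
    · simp only [Finset.mem_insert, Finset.mem_singleton, not_or]
      refine ⟨?_, ?_, ?_⟩ <;>
      · nth_rewrite 1 [e1]
        exact hne (by decide +kernel)
  have hclass : Nat.card {y : NV // IsConj (⟨t, hsylN h.t_mem_syl⟩ : NV) y} = 4 := by
    rw [← hcard]
    refine Nat.card_congr (Equiv.subtypeEquivRight fun y => ?_)
    rw [isConj_iff]
    exact exists_congr fun g => Subtype.ext_iff
  rw [ClassSign.card_class] at hclass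
  have h32 : 32 ∣ Nat.card ↥(centralizer ({(⟨t, hsylN h.t_mem_syl⟩ : NV)} : Set NV)) := by
    have hle : (syl t ι).subgroupOf NV ≤ centralizer ({(⟨t, hsylN h.t_mem_syl⟩ : NV)} : Set NV) := by
      intro y hy
      exact mem_centralizer_singleton_iff.2 (Subtype.ext (h.commute_syl_t _ hy).symm.eq)
    have := card_dvd_of_le hle
    rwa [Nat.card_congr (subgroupOfEquivOfLe hsylN).toEquiv, h.card_syl] at this
  obtain ⟨k, hk⟩ := h32
  have hN := index_mul_card (centralizer ({(⟨t, hsylN h.t_mem_syl⟩ : NV)} : Set NV))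
  rw [hclass, hk] at hN
  have h128 : 128 ∣ Nat.card G := Dvd.dvd.trans ⟨k, by rw [← hN]; ring⟩ (card_subgroup_dvd_card NV)
  rw [h.card_G] at h128
  omega

set_option maxHeartbeats 1000000 in
/-- Exactly one of `c`, `tc` is conjugate to `t`. -/
theorem not_same : ¬ (IsConj t (ι pc) ↔ IsConj t (t * ι pc)) := by
  classical
  intro hs
  have h4 := h.four_dvd_class hs
  set el : Bool → Q → G := fun i p => if i then t * ι p else ι p with hel
  set P : G × G → Prop := fun x => IsConj t x.2 ∧ IsConj (ι pz) (x.1 * x.2) with hP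
  let _ : MulAction G {x : G × G // P x ∧ IsConj t x.1} :=
    { smul := fun g x => ⟨(g * x.1.1 * g⁻¹, g * x.1.2 * g⁻¹),
        ⟨x.2.1.1.trans (isConj_iff.2 ⟨g, rfl⟩),
          x.2.1.2.trans (isConj_iff.2 ⟨g, by simp only; group⟩)⟩, x.2.2.trans (isConj_iff.2 ⟨g, rfl⟩)⟩
      one_smul := fun x => Subtype.ext (Prod.ext (show 1 * x.1.1 * 1⁻¹ = x.1.1 by group)
        (show 1 * x.1.2 * 1⁻¹ = x.1.2 by group))
      mul_smul := fun g k x => Subtype.ext (Prod.ext
        (show g * k * x.1.1 * (g * k)⁻¹ = g * (k * x.1.1 * k⁻¹) * g⁻¹ by group)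
        (show g * k * x.1.2 * (g * k)⁻¹ = g * (k * x.1.2 * k⁻¹) * g⁻¹ by group)) }
  have htot := ClassSign.card_mod_four h.noIndexTwo h.tt (X := {x : G × G // P x ∧ IsConj t x.1})
  have hfib := card_fibre (H := G) (fun g (x : G × G) => (g * x.1 * g⁻¹, g * x.2 * g⁻¹))
    Prod.fst P (fun s x => Prod.ext (by simp only; group) (by simp only; group)) (fun _ _ => rfl)
    (fun s x hx => ⟨hx.1.trans (isConj_iff.2 ⟨s, rfl⟩),
      hx.2.trans (isConj_iff.2 ⟨s, by simp only; group⟩)⟩) t
  rw [hfib] at htot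
  -- the fixed pairs
  set R : Bool × Q × Q → Prop := fun x =>
    IsConj t (el x.1 x.2.1) ∧ IsConj t (el x.1 x.2.2) ∧ IsConj pz (x.2.1 * x.2.2) with hR
  have hfix : Nat.card {x : {x : G × G // P x ∧ IsConj t x.1} // t • x = x} =
      Nat.card {x : Bool × Q × Q // R x} := by
    refine (Nat.card_eq_of_bijective (fun x : {x : Bool × Q × Q // R x} =>
      (⟨⟨(el x.1.1 x.1.2.1, el x.1.1 x.1.2.2), ⟨x.2.2.1, ?_⟩, x.2.1⟩, ?_⟩ :
        {x : {x : G × G // P x ∧ IsConj t x.1} // t • x = x})) ⟨?_, ?_⟩).symm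
    · obtain ⟨⟨i, p, q⟩, -, -, hpq⟩ := x
      show IsConj (ι pz) (el i p * el i q)
      have : el i p * el i q = ι (p * q) := by
        cases i
        · exact (map_mul ι p q).symm
        · exact h.mul_tt p q
      rw [this]; exact h.isConj_i hpq
    · refine Subtype.ext (Prod.ext ?_ ?_)
      · exact mul_inv_eq_iff_eq_mul.2 (h.el_comm (x.1.1, x.1.2.1)).eq
      · exact mul_inv_eq_iff_eq_mul.2 (h.el_comm (x.1.1, x.1.2.2)).eq
    · intro x y e
      have e1 := congrArg (fun z => z.1.1) e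
      have ha := h.el_inj (a₁ := (x.1.1, x.1.2.1)) (a₂ := (y.1.1, y.1.2.1)) (congrArg Prod.fst e1)
      have hb := h.el_inj (a₁ := (x.1.1, x.1.2.2)) (a₂ := (y.1.1, y.1.2.2)) (congrArg Prod.snd e1)
      simp only [Prod.mk.injEq] at ha hb
      exact Subtype.ext (Prod.ext ha.1 (Prod.ext ha.2 hb.2))
    · rintro ⟨⟨⟨u, v⟩, ⟨hv, hz⟩, hu⟩, hf⟩
      have e1 := congrArg Prod.fst (congrArg Subtype.val hf)
      have e2 := congrArg Prod.snd (congrArg Subtype.val hf)
      have hut : Commute u t := (mul_inv_eq_iff_eq_mul.1 e1).symm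
      have hvt : Commute v t := (mul_inv_eq_iff_eq_mul.1 e2).symm
      obtain ⟨⟨i, p⟩, rfl⟩ := h.el_decomp hut
      obtain ⟨⟨j, q⟩, rfl⟩ := h.el_decomp hvt
      simp only at hv hu hz ⊢
      have hp := (h.isConj_el_iff hs i p).1 hu
      have hq := (h.isConj_el_iff hs j q).1 hv
      have hnk : ∀ (k : Bool) (r : Q), IsConj (ι pz) (el k r) → IsConj t (el k r) → False :=
        fun k r a b => h.z_notK (b.trans a.symm)
      have hsq : ∀ (k : Bool) (r : Q), IsConj (ι pz) (el k r) → r * r = 1 ∧ (r ≠ 1 ∨ k = true) := by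
        intro k r hc
        obtain ⟨g, hg⟩ := isConj_iff.1 hc
        have e : el k r * el k r = 1 := by
          rw [← hg, show g * ι pz * g⁻¹ * (g * ι pz * g⁻¹) = g * (ι pz * ι pz) * g⁻¹ by group,
            ← map_mul, show pz * pz = 1 by decide, map_one, mul_one, mul_inv_cancel]
        refine ⟨h.inj ?_, ?_⟩
        · rw [map_one]
          cases k
          · rw [map_mul]; exact e
          · rw [← h.mul_tt]; exact e
        · cases k
          · left; rintro rfl
            simp only [el, Bool.false_eq_true, if_false, map_one, isConj_one_left] at hc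
            exact absurd (h.inj (hc.trans (map_one ι).symm)) (by decide)
          · exact Or.inr rfl
      have hne' : ∀ (k : Bool), IsConj (ι pz) (el k (p * q)) →
          k = false ∧ IsConj pz (p * q) := by
        intro k hc
        obtain ⟨hrr, hne⟩ := hsq k _ hc
        by_cases hcC : IsConj t (ι pc)
        · rcases Int.units_eq_one_or (Perm.sign (p * q)) with e | e
          · cases k
            · exact ⟨rfl, isConj_pz_iff.2 ⟨hrr, hne.resolve_right (by simp), e⟩⟩
            · exact (hnk _ _ hc ((h.isConj_el_iff hs true _).2 ⟨hrr, Or.inl ⟨rfl, e⟩⟩)).elim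
          · exact (hnk _ _ hc ((h.isConj_el_iff hs k _).2 ⟨hrr, Or.inr ⟨hcC, e⟩⟩)).elim
        · obtain ⟨-, ⟨hi, es⟩ | ⟨hc', -⟩⟩ := hp
          swap; · exact absurd hc' hcC
          obtain ⟨-, ⟨hj, et⟩ | ⟨hc', -⟩⟩ := hq
          swap; · exact absurd hc' hcC
          have e : Perm.sign (p * q) = 1 := by rw [map_mul, es, et, one_mul]
          cases k
          · exact ⟨rfl, isConj_pz_iff.2 ⟨hrr, hne.resolve_right (by simp), e⟩⟩
          · exact (hnk _ _ hc ((h.isConj_el_iff hs true _).2 ⟨hrr, Or.inl ⟨rfl, e⟩⟩)).elim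
      have hprod : el i p * el j q = el (xor i j) (p * q) := by
        cases i <;> cases j
        · exact (map_mul ι p q).symm
        · exact h.mul_it p q
        · exact h.mul_ti p q
        · exact h.mul_tt p q
      change IsConj (ι pz) (el i p * el j q) at hz
      rw [hprod] at hz
      obtain ⟨hij, hpq⟩ := hne' _ hz
      obtain rfl : i = j := by
        cases i <;> cases j <;> first | rfl | exact Bool.noConfusion hij
      exact ⟨⟨(i, p, q), hu, hv, hpq⟩, rfl⟩
  rw [hfix] at htot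
  -- counting them
  set E : Q × Q → Prop := fun x => (x.2 * x.2 = 1 ∧ x.1 * x.1 = 1 ∧ Perm.sign x.1 = 1 ∧
    Perm.sign x.2 = 1) ∧ IsConj pz (x.1 * x.2) with hE
  set O : Q × Q → Prop := fun x => (x.2 * x.2 = 1 ∧ x.1 * x.1 = 1 ∧ Perm.sign x.1 = -1 ∧
    Perm.sign x.2 = -1) ∧ IsConj pz (x.1 * x.2) with hO
  have hOeven : 2 ∣ Nat.card {x : Q × Q // O x} := by
    refine even_card_pairs (fun a b => O (a, b)) (fun a b hab => ?_) fun a haa => ?_
    · obtain ⟨⟨ha, hb, sa', sb'⟩, hc⟩ := hab
      exact ⟨⟨hb, ha, sb', sa'⟩, hc.trans (isConj_iff.2 ⟨b, by simp only; group⟩)⟩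
    · exact (isConj_pz_iff.1 haa.2).2.1 haa.1.1
  have hiff : ∀ x : Bool × Q × Q, R x ↔
      (x.1 = true ∧ E x.2) ∨ (IsConj t (ι pc) ∧ O x.2) := by
    rintro ⟨i, p, q⟩
    simp only [R, el, h.isConj_el_iff hs]
    constructor
    · rintro ⟨⟨hp, hp'⟩, ⟨hq, hq'⟩, hc⟩
      have hsg : Perm.sign p * Perm.sign q = 1 := by
        rw [← map_mul]; exact (isConj_pz_iff.1 hc).2.2
      rcases hp' with ⟨hi, ep⟩ | ⟨hcC, ep⟩
      · refine Or.inl ⟨hi, ⟨hq, hp, ep, ?_⟩, hc⟩
        rwa [ep, one_mul] at hsg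
      · refine Or.inr ⟨hcC, ⟨hq, hp, ep, ?_⟩, hc⟩
        rcases Int.units_eq_one_or (Perm.sign q) with e | e
        · rw [ep, e] at hsg; exact absurd hsg (by decide)
        · exact e
    · rintro (⟨hi, ⟨hq, hp, ep, eq'⟩, hc⟩ | ⟨hcC, ⟨hq, hp, ep, eq'⟩, hc⟩)
      · exact ⟨⟨hp, Or.inl ⟨hi, ep⟩⟩, ⟨hq, Or.inl ⟨hi, eq'⟩⟩, hc⟩
      · exact ⟨⟨hp, Or.inr ⟨hcC, ep⟩⟩, ⟨hq, Or.inr ⟨hcC, eq'⟩⟩, hc⟩
  rw [Nat.card_congr ((Equiv.subtypeEquivRight hiff).trans (subtypeOrEquiv _ _
    (Pi.disjoint_iff.2 fun x => Prop.disjoint_iff.2 (by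
      rintro ⟨⟨-, ⟨-, -, e, -⟩, -⟩, -, ⟨-, -, e', -⟩, -⟩
      rw [e] at e'; exact absurd e' (by decide))))), Nat.card_sum] at htot
  have hcardE : Nat.card {x : Bool × Q × Q // x.1 = true ∧ E x.2} = 1050 := by
    rw [← card_even_pairs]
    exact Nat.card_congr
      { toFun := fun x => ⟨x.1.2, x.2.2⟩
        invFun := fun x => ⟨(true, x.1), rfl, x.2⟩
        left_inv := fun x => Subtype.ext (Prod.ext x.2.1.symm rfl)
        right_inv := fun x => rfl }
  rw [hcardE] at htot
  obtain ⟨k, hk⟩ := h4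
  obtain ⟨l, hl⟩ := hOeven
  rw [hk, Nat.mul_assoc, Nat.mul_mod_right] at htot
  by_cases hcC : IsConj t (ι pc)
  · rw [Nat.card_congr (show {x : Bool × Q × Q // IsConj t (ι pc) ∧ O x.2} ≃ Bool × {x : Q × Q // O x} from
      { toFun := fun x => (x.1.1, ⟨x.1.2, x.2.2⟩)
        invFun := fun x => ⟨(x.1, x.2.1), hcC, x.2.2⟩
        left_inv := fun x => rfl
        right_inv := fun x => rfl }), Nat.card_prod, hl, Nat.card_eq_fintype_card,
      Fintype.card_bool] at htot
    omega
  · haveI : IsEmpty {x : Bool × Q × Q // IsConj t (ι pc) ∧ O x.2} := ⟨fun x => hcC x.2.1⟩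
    rw [Nat.card_of_isEmpty (α := {x : Bool × Q × Q // IsConj t (ι pc) ∧ O x.2})] at htot
    omega

/-- After a twist, `t c` and not `c` is conjugate to `t`. -/
theorem exists_four : ∃ ι' : Q →* G, Hyp t ι' ∧ IsConj t (t * ι' pc) ∧ ¬ IsConj t (ι' pc) := by
  have hs := h.not_same
  by_cases hc : IsConj t (ι pc)
  · obtain ⟨ι', h', -, ho⟩ := h.exists_twist
    refine ⟨ι', h', ?_, ?_⟩
    · rw [ho _ sign_pc, ← mul_assoc, h.tt, one_mul]; exact hc
    · rw [ho _ sign_pc]; exact fun e => hs ⟨fun _ => e, fun _ => hc⟩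
  · exact ⟨ι, h, by_contra fun e => hs ⟨fun a => absurd a hc, fun a => absurd a e⟩, hc⟩

end Hyp

end CfsgLib.Invol.TwoTimesSSeven
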